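import Groth.Agent.ParaFormal.Graded
import Groth.Agent.Depth.Basic
import Groth.Prelude.Def_CAlg

/-!
Regular sequences of length three from depth, and conversely.
-/

set_option autoImplicit false

universe u

open IsLocalRing RingTheory.Sequence
open scoped Pointwise

namespace Groth.Agent.ParaFormal

variable {R : Type u} [CommRing R]

theorem regMod_iff_isSMulRegular (I : Ideal R) (x : R) :
    RegMod I x ↔ IsSMulRegular (R ⧸ (I • ⊤ : Submodule R R)) x := by
  rw [smul_eq_mul, Ideal.mul_top]
  constructor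
  · intro h a b hab
    obtain ⟨a, rfl⟩ := Submodule.Quotient.mk_surjective _ a
    obtain ⟨b, rfl⟩ := Submodule.Quotient.mk_surjective _ b
    have hab' : (Submodule.Quotient.mk (x • a) : R ⧸ I) = Submodule.Quotient.mk (x • b) := hab
    rw [Submodule.Quotient.eq, smul_eq_mul, smul_eq_mul, ← mul_sub] at hab'
    exact (Submodule.Quotient.eq I).2 (h _ hab')
  · intro h a ha
    rw [← Submodule.Quotient.mk_eq_zero I]
    apply h
    show x • (Submodule.Quotient.mk a : R ⧸ I) = x • (0 : R ⧸ I)
    rw [smul_zero, ← Submodule.Quotient.mk_smul, Submodule.Quotient.mk_eq_zero]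
    exact ha

theorem RegMod.comap {B : Type u} [CommRing B] (π : R →+* B) {I : Ideal B} {x : R}
    (h : RegMod I (π x)) : RegMod (I.comap π) x := fun a ha => h (π a) (by
  rw [← map_mul]; exact ha)

/-- Depth at least three gives a regular sequence of length three modulo `J`. -/
theorem exists_regMod_triple [IsLocalRing R] [IsNoetherianRing R] (J : Ideal R) (hJ : J ≠ ⊤)
    [IsLocalRing (R ⧸ J)] (h : (3 : ℕ∞) ≤ LocCoh.depth (R ⧸ J) (R ⧸ J)) :
    ∃ x y z : R, x ∈ maximalIdeal R ∧ y ∈ maximalIdeal R ∧ z ∈ maximalIdeal R ∧ RegMod J x ∧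
      RegMod (J ⊔ Ideal.span {x}) y ∧ RegMod (J ⊔ Ideal.span {x} ⊔ Ideal.span {y}) z := by
  haveI : IsNoetherianRing (R ⧸ J) :=
    isNoetherianRing_of_surjective R _ (Ideal.Quotient.mk J) Ideal.Quotient.mk_surjective
  have hne : maximalIdeal (R ⧸ J) • (⊤ : Submodule (R ⧸ J) (R ⧸ J)) ≠ ⊤ := by
    rw [smul_eq_mul, Ideal.mul_top]
    exact (maximalIdeal.isMaximal _).ne_top
  obtain ⟨rs, hrs, hmem, hlen⟩ := Depth.exists_isWeaklyRegular_of_le_idealDepth (n := 3) hne h
  obtain ⟨a, b, c, rfl⟩ : ∃ a b c, rs = [a, b, c] := List.length_eq_three.1 hlen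
  obtain ⟨x, rfl⟩ := Ideal.Quotient.mk_surjective a
  obtain ⟨y, rfl⟩ := Ideal.Quotient.mk_surjective b
  obtain ⟨z, rfl⟩ := Ideal.Quotient.mk_surjective c
  have hm : ∀ w : R, Ideal.Quotient.mk J w ∈ maximalIdeal (R ⧸ J) → w ∈ maximalIdeal R := fun w hw hu =>
    hw (hu.map _)
  have h0 := (regMod_iff_isSMulRegular (Ideal.ofList []) _).2 (hrs.regular_mod_prev 0 (by simp))
  have h1 := (regMod_iff_isSMulRegular (Ideal.ofList [Ideal.Quotient.mk J x]) _).2
    (hrs.regular_mod_prev 1 (by simp))
  have h2 := (regMod_iff_isSMulRegular (Ideal.ofList [Ideal.Quotient.mk J x, Ideal.Quotient.mk J y]) _).2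
    (hrs.regular_mod_prev 2 (by simp))
  have hcomap : ∀ L : List R, (Ideal.ofList (L.map (Ideal.Quotient.mk J))).comap (Ideal.Quotient.mk J) =
      J ⊔ Ideal.ofList L := by
    intro L
    rw [← Ideal.map_ofList, Ideal.comap_map_of_surjective _ Ideal.Quotient.mk_surjective, sup_comm,
      ← RingHom.ker_eq_comap_bot, Ideal.mk_ker]
  refine ⟨x, y, z, hm x (hmem _ (by simp)), hm y (hmem _ (by simp)), hm z (hmem _ (by simp)), ?_, ?_, ?_⟩
  · have := RegMod.comap (Ideal.Quotient.mk J) (x := x) h0
    rw [show Ideal.ofList ([] : List (R ⧸ J)) = Ideal.ofList (([] : List R).map (Ideal.Quotient.mk J)) from rfl,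
      hcomap] at this
    simpa using this
  · have := RegMod.comap (Ideal.Quotient.mk J) (x := y) h1
    rw [show [Ideal.Quotient.mk J x] = [x].map (Ideal.Quotient.mk J) from rfl, hcomap] at this
    simpa [Ideal.ofList_cons, Ideal.ofList_nil] using this
  · have := RegMod.comap (Ideal.Quotient.mk J) (x := z) h2
    rw [show [Ideal.Quotient.mk J x, Ideal.Quotient.mk J y] = [x, y].map (Ideal.Quotient.mk J) from rfl,
      hcomap] at this
    simpa [Ideal.ofList_cons, Ideal.ofList_nil, sup_assoc] using this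

/-- Two successive non-zero-divisors in the maximal ideal give depth at least two. -/
theorem two_le_depth [IsLocalRing R] [IsNoetherianRing R] {x y : R} (hx : x ∈ maximalIdeal R)
    (hy : y ∈ maximalIdeal R) (h1 : RegMod ⊥ x) (h2 : RegMod (Ideal.span {x}) y) :
    (2 : ℕ∞) ≤ LocCoh.depth R R := by
  have hw : IsWeaklyRegular R [x, y] := ⟨fun i hi => by
    rcases i with _ | _ | i
    · exact (regMod_iff_isSMulRegular (Ideal.ofList []) x).1 (by rwa [Ideal.ofList_nil])
    · exact (regMod_iff_isSMulRegular (Ideal.ofList [x]) y).1 (by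
        rwa [Ideal.ofList_cons, Ideal.ofList_nil, sup_bot_eq])
    · simp at hi⟩
  exact_mod_cast Depth.le_idealDepth_of_isWeaklyRegular (I := maximalIdeal R) hw
    (by intro r hr; simp only [List.mem_cons, List.not_mem_nil, or_false] at hr; rcases hr with rfl | rfl <;>
      assumption)

/-- Three successive non-zero-divisors in the maximal ideal give depth at least three. -/
theorem three_le_depth [IsLocalRing R] [IsNoetherianRing R] {x y z : R} (hx : x ∈ maximalIdeal R)
    (hy : y ∈ maximalIdeal R) (hz : z ∈ maximalIdeal R) (h1 : RegMod ⊥ x) (h2 : RegMod (Ideal.span {x}) y)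
    (h3 : RegMod (Ideal.span {x} ⊔ Ideal.span {y}) z) : (3 : ℕ∞) ≤ LocCoh.depth R R := by
  have hw : IsWeaklyRegular R [x, y, z] := ⟨fun i hi => by
    rcases i with _ | _ | _ | i
    · exact (regMod_iff_isSMulRegular (Ideal.ofList []) x).1 (by rwa [Ideal.ofList_nil])
    · exact (regMod_iff_isSMulRegular (Ideal.ofList [x]) y).1 (by
        rwa [Ideal.ofList_cons, Ideal.ofList_nil, sup_bot_eq])
    · exact (regMod_iff_isSMulRegular (Ideal.ofList [x, y]) z).1 (by
        rwa [Ideal.ofList_cons, Ideal.ofList_cons, Ideal.ofList_nil, sup_bot_eq])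
    · simp only [List.length_cons, List.length_nil] at hi; omega⟩
  exact_mod_cast Depth.le_idealDepth_of_isWeaklyRegular (I := maximalIdeal R) hw
    (by intro r hr; simp only [List.mem_cons, List.not_mem_nil, or_false] at hr
        rcases hr with rfl | rfl | rfl <;> assumption)

end Groth.Agent.ParaFormal
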