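import Groth.Agent.ParaFormal.Trivialize
import Groth.Agent.ParaFormal.DepthSeq
import Groth.Agent.ParaFLib.Spread
import Groth.Agent.ParaFLib.Local

/-!
Line bundles on punctured spectra from cocycles, and the deformation theorem.
-/

set_option backward.isDefEq.respectTransparency.types false
set_option maxHeartbeats 800000

noncomputable section

universe u

open CategoryTheory AlgebraicGeometry TopologicalSpace Opposite

namespace Groth.Agent.ParaFormal

open Groth.Agent.QCoh Groth.Agent.Props.GenLocus Groth.Agent.ParaFLib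
open Groth.Agent.ParaFLib.OpenData Groth.Agent.ParaFLib.Spread

section Psi

variable {R : Type u} [CommRing R]

instance algebraSections {V : (Spec (CommRingCat.of R)).Opens} : Algebra R Γ(Spec (CommRingCat.of R), V) :=
  inferInstanceAs (Algebra R ((Spec.structureSheaf R).presheaf.obj (op V)))

theorem algebraMap_eq {V : (Spec (CommRingCat.of R)).Opens} :
    algebraMap R Γ(Spec (CommRingCat.of R), V) = ((Scheme.ΓSpecIso (CommRingCat.of R)).inv ≫
      (Spec (CommRingCat.of R)).presheaf.map (homOfLE le_top).op).hom := rfl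

instance isLocalizationSections (f : R) :
    IsLocalization.Away f Γ(Spec (CommRingCat.of R), PrimeSpectrum.basicOpen f) :=
  inferInstanceAs (IsLocalization.Away f
    ((Spec.structureSheaf R).obj.obj (op <| PrimeSpectrum.basicOpen f)))

/-- The basic open of `a` in `Spec R`. -/
abbrev Dop (a : R) : (Spec (CommRingCat.of R)).Opens := PrimeSpectrum.basicOpen a

theorem rres_algebraMap {V W : (Spec (CommRingCat.of R)).Opens} (h : V ≤ W) (r : R) :
    rres h (algebraMap R Γ(Spec (CommRingCat.of R), W) r) = algebraMap R Γ(Spec (CommRingCat.of R), V) r := by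
  rw [algebraMap_eq, algebraMap_eq]
  show ((Spec (CommRingCat.of R)).presheaf.map (homOfLE (le_top (a := W))).op ≫
      (Spec (CommRingCat.of R)).presheaf.map (homOfLE h).op).hom
        ((Scheme.ΓSpecIso (CommRingCat.of R)).inv r) = _
  rw [← Functor.map_comp]
  rfl

theorem isUnit_on (a : R) {V : (Spec (CommRingCat.of R)).Opens} (h : V ≤ Dop a) :
    IsUnit (algebraMap R Γ(Spec (CommRingCat.of R), V) a) := by
  rw [← rres_algebraMap h a]
  exact (IsLocalization.Away.algebraMap_isUnit (S := Γ(Spec (CommRingCat.of R), PrimeSpectrum.basicOpen a)) a).map _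

/-- `R_a → Γ(V)` for `V ⊆ D(a)`. -/
def psi (a : R) {V : (Spec (CommRingCat.of R)).Opens} (h : V ≤ Dop a) :
    Loc a →+* Γ(Spec (CommRingCat.of R), V) :=
  IsLocalization.Away.lift (S := Loc a) a (g := algebraMap R Γ(Spec (CommRingCat.of R), V)) (isUnit_on a h)

theorem psi_algebraMap (a : R) {V : (Spec (CommRingCat.of R)).Opens} (h : V ≤ Dop a) (r : R) :
    psi a h (algebraMap R (Loc a) r) = algebraMap R Γ(Spec (CommRingCat.of R), V) r :=
  IsLocalization.Away.lift_eq _ _ r

theorem rres_psi (a : R) {V W : (Spec (CommRingCat.of R)).Opens} (h : V ≤ W) (h' : W ≤ Dop a) (x : Loc a) :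
    rres h (psi a h' x) = psi a (h.trans h') x :=
  RingHom.congr_fun (IsLocalization.ringHom_ext (Submonoid.powers a)
    (show ((rres h).hom.comp (psi a h')).comp (algebraMap R (Loc a)) =
        (psi a (h.trans h')).comp (algebraMap R (Loc a)) from RingHom.ext fun r => by
      simp only [RingHom.comp_apply, psi_algebraMap]
      exact rres_algebraMap h r)) x

theorem psi_ρ {a b : R} (hab : a ∣ b) {V : (Spec (CommRingCat.of R)).Opens} (h : V ≤ Dop b)
    (h' : V ≤ Dop a) (x : Loc a) : psi b h (ρ hab x) = psi a h' x :=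
  RingHom.congr_fun (IsLocalization.ringHom_ext (Submonoid.powers a)
    (show ((psi b h).comp (ρ hab)).comp (algebraMap R (Loc a)) = (psi a h').comp (algebraMap R (Loc a)) from
      RingHom.ext fun r => by simp only [RingHom.comp_apply, ρ_algebraMap, psi_algebraMap])) x

theorem psi_bijective (a : R) {V : (Spec (CommRingCat.of R)).Opens} (h : V ≤ Dop a) (h' : Dop a ≤ V) :
    Function.Bijective (psi a h) := by
  obtain rfl : V = Dop a := le_antisymm h h'
  haveI : IsLocalization.Away a Γ(Spec (CommRingCat.of R), Dop a) :=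
    inferInstanceAs (IsLocalization.Away a Γ(Spec (CommRingCat.of R), PrimeSpectrum.basicOpen a))
  let e := IsLocalization.algEquiv (Submonoid.powers a) (Loc a) Γ(Spec (CommRingCat.of R), Dop a)
  have : (psi a h : Loc a → Γ(Spec (CommRingCat.of R), Dop a)) = e := by
    funext x
    exact RingHom.congr_fun (IsLocalization.ringHom_ext (Submonoid.powers a)
      (show (psi a h).comp (algebraMap R (Loc a)) = (e : Loc a →+* _).comp (algebraMap R (Loc a)) from
        RingHom.ext fun r => by simp [psi_algebraMap])) x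
  rw [this]
  exact e.bijective

theorem Dop_mul (a b : R) : Dop (a * b) = Dop a ⊓ Dop b := PrimeSpectrum.basicOpen_mul a b

end Psi

variable {A : Type u} [CommRing A] [IsLocalRing A] [IsNoetherianRing A]

/-- The transition functions of a cocycle on basic opens, in localizations. -/
theorem exists_cocycle (D : Data (FEt.puncturedSpec A)) (f : D.ι → A) (hO : ∀ i, D.O i = Dop (f i)) :
    ∃ g : ∀ i j, Loc (f i * f j),
      (∀ i j V (h : V ≤ Dop (f i * f j)) (h' : V ≤ D.O i ⊓ D.O j), psi _ h (g i j) = rres h' (D.a i j)) ∧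
      (∀ i, g i i = 1) ∧ (∀ i j, IsUnit (g i j)) ∧
      ∀ i j k, ρ (dvd_mul_right (f i * f j) (f k)) (g i j) *
        ρ (show f j * f k ∣ f i * f j * f k from ⟨f i, by ring⟩) (g j k) =
        ρ (show f i * f k ∣ f i * f j * f k from ⟨f j, by ring⟩) (g i k) := by
  have hle : ∀ i j, D.O i ⊓ D.O j = Dop (f i * f j) := fun i j => by rw [hO, hO, Dop_mul]
  choose g hg using fun i j => (psi_bijective (f i * f j) (hle i j).le (hle i j).ge).2 (D.a i j)
  have hg' : ∀ i j V (h : V ≤ Dop (f i * f j)) (h' : V ≤ D.O i ⊓ D.O j),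
      psi _ h (g i j) = rres h' (D.a i j) := by
    intro i j V h h'
    rw [← hg i j, rres_psi]
  have hself : ∀ i, g i i = 1 := fun i => (psi_bijective (f i * f i) (hle i i).le (hle i i).ge).1
    (by rw [hg, D.self, map_one])
  have hcoc : ∀ i j k, ρ (dvd_mul_right (f i * f j) (f k)) (g i j) *
      ρ (show f j * f k ∣ f i * f j * f k from ⟨f i, by ring⟩) (g j k) =
      ρ (show f i * f k ∣ f i * f j * f k from ⟨f j, by ring⟩) (g i k) := by
    intro i j k
    have h1 : Dop (f i * f j * f k) ≤ Dop (f i * f j) := by rw [Dop_mul]; exact inf_le_left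
    have h2 : Dop (f i * f j * f k) ≤ Dop (f j * f k) := by
      rw [Dop_mul, Dop_mul, Dop_mul]; exact inf_le_inf_right _ inf_le_right
    have h3 : Dop (f i * f j * f k) ≤ Dop (f i * f k) := by
      rw [Dop_mul, Dop_mul, Dop_mul]; exact inf_le_inf_right _ inf_le_left
    apply (psi_bijective (f i * f j * f k) le_rfl le_rfl).1
    rw [map_mul, psi_ρ _ _ h1, psi_ρ _ _ h2, psi_ρ _ _ h3, hg' i j _ h1 (h1.trans (hle i j).ge),
      hg' j k _ h2 (h2.trans (hle j k).ge), hg' i k _ h3 (h3.trans (hle i k).ge)]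
    exact D.coc i j k _ _ _ _
  refine ⟨g, hg', hself, fun i j => ?_, hcoc⟩
  have hD : Dop (f i * f j) ≤ Dop (f j * f i) := by rw [mul_comm (f i)]
  refine (isUnit_map_iff (RingEquiv.ofBijective _ (psi_bijective (f i * f j) le_rfl le_rfl)) (g i j)).1 ?_
  refine IsUnit.of_mul_eq_one (psi (f j * f i) hD (g j i)) ?_
  show psi (f i * f j) le_rfl (g i j) * _ = 1
  rw [hg' i j _ le_rfl (hle i j).ge, hg' j i _ hD (hD.trans (hle j i).ge),
    D.coc i j i _ (hle i j).ge (hD.trans (hle j i).ge) (by rw [inf_idem]; exact (hle i j).ge.trans inf_le_left),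
    D.self, map_one]

/-- The deformation theorem for punctured spectra, in terms of cocycles. -/
theorem triv_of_triv_quotient (J : Ideal A) (hJ : J ≠ ⊤) [IsLocalRing (A ⧸ J)]
    (G : GrData J) (hG : G.Indep ⊥) (hd : (3 : ℕ∞) ≤ LocCoh.depth (A ⧸ J) (A ⧸ J))
    (D : Data (FEt.puncturedSpec A)) [Finite D.ι] (f : D.ι → A) (hO : ∀ i, D.O i = Dop (f i))
    (P : (Spec (CommRingCat.of (A ⧸ J))).Opens)
    (hP : Spec.map (CommRingCat.ofHom (Ideal.Quotient.mk J)) ⁻¹ᵁ FEt.puncturedSpec A = P)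
    (h : Triv (pull (Spec.map (CommRingCat.ofHom (Ideal.Quotient.mk J))) D hP)) : Triv D := by
  classical
  haveI := Fintype.ofFinite D.ι
  let q := Spec.map (CommRingCat.ofHom (Ideal.Quotient.mk J))
  let π := Ideal.Quotient.mk J
  obtain ⟨x, y, z, hxm, hym, hzm, hx, hy, hz⟩ := exists_regMod_triple J hJ hd
  obtain ⟨g, hg', hself, hgu, hg⟩ := exists_cocycle D f hO
  -- the punctured spectrum
  have hfm : IsLocalRing.maximalIdeal A ≤ (Ideal.span (Set.range f)).radical := by
    rw [Ideal.radical_eq_sInf]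
    refine le_sInf fun p ⟨hp, hpp⟩ => ?_
    by_contra hne
    let pt : PrimeSpectrum A := ⟨p, hpp⟩
    have hpt : pt ∈ FEt.puncturedSpec A := fun e => hne (by
      have h1 : pt = IsLocalRing.closedPoint A := e
      exact (congrArg PrimeSpectrum.asIdeal h1).ge)
    obtain ⟨i, hi⟩ := Opens.mem_iSup.mp (D.cover hpt)
    rw [hO] at hi
    exact hi (hp (Ideal.subset_span ⟨i, rfl⟩))
  -- sections over the quotient
  have hpre : ∀ a : A, q ⁻¹ᵁ Dop a = Dop (π a) := fun a => rfl
  have hq : ∀ (a : A) (V : (Spec (CommRingCat.of (A ⧸ J))).Opens) (hV : V ≤ Dop (π a)),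
      ∀ r : A, algebraMap (A ⧸ J) Γ(Spec (CommRingCat.of (A ⧸ J)), V) (π r) =
        q.appLE (Dop a) V hV (algebraMap A Γ(Spec (CommRingCat.of A), Dop a) r) := by
    intro a V hV r
    rw [algebraMap_eq, algebraMap_eq]
    have h1 : (Scheme.ΓSpecIso (CommRingCat.of A)).inv ≫ q.appTop =
        CommRingCat.ofHom π ≫ (Scheme.ΓSpecIso (CommRingCat.of (A ⧸ J))).inv :=
      (Scheme.ΓSpecIso_inv_naturality (CommRingCat.ofHom π)).symm
    have h2 : CommRingCat.ofHom π ≫ (Scheme.ΓSpecIso (CommRingCat.of (A ⧸ J))).inv ≫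
          (Spec (CommRingCat.of (A ⧸ J))).presheaf.map (homOfLE (le_top (a := V))).op =
        ((Scheme.ΓSpecIso (CommRingCat.of A)).inv ≫
          (Spec (CommRingCat.of A)).presheaf.map (homOfLE (le_top (a := Dop a))).op) ≫
          q.appLE (Dop a) V hV := by
      have h4 : q.appTop ≫ (Spec (CommRingCat.of (A ⧸ J))).presheaf.map (homOfLE (le_top (a := V))).op =
          q.appLE ⊤ V le_top := rfl
      rw [← Category.assoc, ← h1, Category.assoc, Category.assoc, Scheme.Hom.map_appLE, h4]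
    exact ConcreteCategory.congr_hom h2 r
  have hlift : ∀ (a : A) (b : Γ(Spec (CommRingCat.of (A ⧸ J)), q ⁻¹ᵁ Dop a)),
      ∃ u : Loc a, q.appLE (Dop a) (q ⁻¹ᵁ Dop a) le_rfl (psi a le_rfl u) = b := by
    intro a b
    obtain ⟨c, hc⟩ := (psi_bijective (π a) (hpre a).le (hpre a).ge).2 b
    obtain ⟨n, r, hr⟩ := exists_num c
    obtain ⟨r, rfl⟩ := Ideal.Quotient.mk_surjective r
    obtain ⟨w, hw⟩ := (isUnit_pow a n).exists_right_inv
    refine ⟨algebraMap A (Loc a) r * w, ?_⟩
    have hpa : q.appLE (Dop a) (q ⁻¹ᵁ Dop a) le_rfl (psi a le_rfl (algebraMap A (Loc a) a)) =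
        psi (π a) (hpre a).le (algebraMap (A ⧸ J) (Loc (π a)) (π a)) := by
      rw [psi_algebraMap, psi_algebraMap]
      exact (hq a _ (hpre a).le a).symm
    refine ((isUnit_pow (π a) n).map (psi (π a) (hpre a).le)).mul_right_cancel ?_
    rw [← hc, ← map_mul, hr, map_pow, ← hpa, ← map_pow, ← map_mul, ← map_pow, ← map_mul, mul_assoc,
      mul_comm w, hw, mul_one, psi_algebraMap, psi_algebraMap]
    exact (hq a _ (hpre a).le r).symm
  have hker : ∀ (a : A) (u : Loc a) (V : (Spec (CommRingCat.of (A ⧸ J))).Opens) (hV : V ≤ Dop (π a))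
      (_ : Dop (π a) ≤ V), q.appLE (Dop a) V hV (psi a le_rfl u) = 0 →
        u ∈ J.map (algebraMap A (Loc a)) := by
    intro a u V hV hV' h0
    obtain ⟨n, r, hr⟩ := exists_num u
    have h1 : psi (π a) hV (algebraMap (A ⧸ J) (Loc (π a)) (π r)) = 0 := by
      rw [psi_algebraMap, hq a V hV, ← psi_algebraMap a le_rfl, ← hr, map_mul, map_mul, h0, zero_mul]
    have h2 := (psi_bijective (π a) hV hV').1 (h1.trans (map_zero _).symm)
    obtain ⟨⟨_, k, rfl⟩, hk⟩ := (IsLocalization.map_eq_zero_iff (Submonoid.powers (π a)) (Loc (π a)) _).1 h2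
    refine (Ideal.mul_unit_mem_iff_mem _ (isUnit_pow a n)).1 ?_
    rw [hr]
    refine mem_map_iff.2 ⟨k, Ideal.Quotient.eq_zero_iff_mem.1 ?_⟩
    rw [map_mul, map_pow]
    exact hk
  -- a trivialization modulo J
  obtain ⟨c₀, hu₀, hc₀⟩ := h
  let c : ∀ i, Γ(Spec (CommRingCat.of (A ⧸ J)), q ⁻¹ᵁ D.O i) := c₀
  choose d hd using fun i => (hu₀ i).exists_right_inv
  have hqO : ∀ i, q ⁻¹ᵁ Dop (f i) = q ⁻¹ᵁ D.O i := fun i => by rw [hO]
  choose u hu using fun i => hlift (f i) (rres (hqO i).le (c i))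
  choose w hw using fun i => hlift (f i) (rres (hqO i).le (d i))
  have huw : ∀ i, u i * w i - 1 ∈ J.map (algebraMap A (Loc (f i))) := fun i => by
    refine hker (f i) _ (q ⁻¹ᵁ Dop (f i)) (hpre _).le (hpre _).ge ?_
    show q.appLE (Dop (f i)) (q ⁻¹ᵁ Dop (f i)) le_rfl (psi (f i) le_rfl (u i * w i - 1)) = 0
    rw [map_sub, map_sub, map_mul, map_mul, map_one, map_one, sub_eq_zero]
    refine (congrArg₂ (· * ·) (hu i) (hw i)).trans ?_
    rw [← map_mul]
    exact (congrArg (rres (hqO i).le) (hd i)).trans (map_one _)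
  have hu₀' : ∀ i j, ρ (dvd_mul_right (f i) (f j)) (u i) - g i j * ρ (dvd_mul_left (f j) (f i)) (u j) ∈
      J.map (algebraMap A (Loc (f i * f j))) := by
    intro i j
    refine hker (f i * f j) _ (q ⁻¹ᵁ Dop (f i * f j)) (hpre _).le (hpre _).ge ?_
    have hij : Dop (f i * f j) ≤ D.O i ⊓ D.O j := by rw [hO, hO, Dop_mul]
    have hi : Dop (f i * f j) ≤ Dop (f i) := by rw [Dop_mul]; exact inf_le_left
    have hj : Dop (f i * f j) ≤ Dop (f j) := by rw [Dop_mul]; exact inf_le_right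
    have e1 := congrArg (rres (show q ⁻¹ᵁ Dop (f i * f j) ≤ (pull q D hP).O i ⊓ (pull q D hP).O j from
      q.preimage_mono hij)) (hc₀ i j)
    simp only [pull, map_mul, rres_rres, rres_appLE_app] at e1
    have key : ∀ (l : D.ι) (hl : Dop (f i * f j) ≤ Dop (f l)),
        q.appLE (Dop (f i * f j)) (q ⁻¹ᵁ Dop (f i * f j)) le_rfl (psi (f l) hl (u l)) =
          rres ((q.preimage_mono hl).trans (hqO l).le) (c l) := by
      intro l hl
      rw [← rres_psi (f l) hl le_rfl, appLE_rres]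
      refine Eq.trans ?_ ((congrArg (rres (q.preimage_mono hl)) (hu l)).trans (rres_rres _ _ _))
      rw [rres_appLE]
    show q.appLE (Dop (f i * f j)) (q ⁻¹ᵁ Dop (f i * f j)) le_rfl (psi (f i * f j) le_rfl
      (ρ (dvd_mul_right (f i) (f j)) (u i) - g i j * ρ (dvd_mul_left (f j) (f i)) (u j))) = 0
    rw [map_sub, map_mul, psi_ρ _ _ hi, psi_ρ _ _ hj, hg' i j _ le_rfl hij, map_sub, map_mul, key i hi,
      key j hj, appLE_rres, sub_eq_zero]
    refine e1.trans ((map_mul (rres _).hom _ _).trans ((mul_comm _ _).trans (congrArg₂ (· * ·) ?_ ?_)))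
    · exact rres_appLE ..
    · exact rres_rres _ _ _
  obtain ⟨σ, hσu, hσ⟩ := exists_triv hJ G hG f hfm hxm hym hzm hx hy hz g hgu hself hg u w huw hu₀'
  refine ⟨fun i => rres (hO i).le (psi (f i) le_rfl (σ i)), fun i => ((hσu i).map _).map _, fun i j => ?_⟩
  have hij : D.O i ⊓ D.O j ≤ Dop (f i * f j) := by rw [hO, hO, Dop_mul]
  rw [rres_rres, rres_rres, rres_psi, rres_psi, ← psi_ρ (dvd_mul_right (f i) (f j)) hij,
    ← psi_ρ (dvd_mul_left (f j) (f i)) hij, hσ i j, map_mul, hg' i j _ hij le_rfl, rres_self, mul_comm]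

/-- A finite cover of the punctured spectrum by basic opens with generators. -/
theorem exists_gens {M : (Spec (CommRingCat.of A)).Modules}
    (hM : PicF.IsInvertible (M.restrict (FEt.puncturedSpec A).ι)) :
    ∃ (ι : Type u) (_ : Finite ι) (f : ι → A) (_ : ∀ i, Dop (f i) ≤ FEt.puncturedSpec A)
      (_ : FEt.puncturedSpec A ≤ iSup fun i => Dop (f i)) (e : ∀ i, Γ(M, Dop (f i))),
      ∀ i, IsGen M (Dop (f i)) (e i) := by
  classical
  let U := FEt.puncturedSpec A
  have hloc : ∀ x : (U : Set (Spec (CommRingCat.of A))), ∃ a : A, x.1 ∈ Dop a ∧ Dop a ≤ U ∧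
      ∃ e : Γ(M, Dop a), IsGen M (Dop a) e := by
    rintro ⟨x, hx⟩
    obtain ⟨V, σ, hxV, hVU, hσ⟩ := exists_isGen_of_invertible_restrict hM hx
    obtain ⟨a, hxa, hle⟩ : ∃ a : A, x ∈ Dop a ∧ Dop a ≤ V := by
      obtain ⟨_, ⟨a, rfl⟩, hxa, hle⟩ :=
        PrimeSpectrum.isTopologicalBasis_basic_opens.exists_subset_of_mem_open hxV V.2
      exact ⟨a, hxa, hle⟩
    exact ⟨a, hxa, hle.trans hVU, _, hσ.restrict hle⟩
  choose a hxa hle e he using hloc
  have hcpt : IsCompact (U : Set (Spec (CommRingCat.of A))) :=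
    NoetherianSpace.isCompact (α := PrimeSpectrum A) _
  obtain ⟨t, ht⟩ := hcpt.elim_finite_subcover (fun x => (Dop (a x) : Set (Spec (CommRingCat.of A))))
    (fun x => (Dop (a x)).2) fun x hx => Set.mem_iUnion.2 ⟨⟨x, hx⟩, hxa _⟩
  refine ⟨t, inferInstance, fun i => a i.1, fun i => hle _, fun x hx => ?_, fun i => e i.1, fun i => he _⟩
  obtain ⟨i, hi, hxi⟩ := Set.mem_iUnion₂.1 (ht hx)
  exact Opens.mem_iSup.2 ⟨⟨i, hi⟩, hxi⟩

/-- A line bundle on the punctured spectrum is trivial if its cocycles become coboundaries modulo `J`. -/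
theorem nonempty_iso_of_triv_quotient (J : Ideal A) (hJ : J ≠ ⊤) [IsLocalRing (A ⧸ J)]
    (G : GrData J) (hG : G.Indep ⊥) (hd : (3 : ℕ∞) ≤ LocCoh.depth (A ⧸ J) (A ⧸ J))
    (M : (Spec (CommRingCat.of A)).Modules)
    (hM : PicF.IsInvertible (M.restrict (FEt.puncturedSpec A).ι))
    (P : (Spec (CommRingCat.of (A ⧸ J))).Opens)
    (hP : Spec.map (CommRingCat.ofHom (Ideal.Quotient.mk J)) ⁻¹ᵁ FEt.puncturedSpec A = P)
    (h : ∀ {ι : Type u} (O : ι → (Spec (CommRingCat.of A)).Opens) (hle : ∀ i, O i ≤ FEt.puncturedSpec A)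
      (hcov : FEt.puncturedSpec A ≤ iSup O) (e : ∀ i, Γ(M, O i)) (he : ∀ i, IsGen M (O i) (e i)),
      Triv (pull (Spec.map (CommRingCat.ofHom (Ideal.Quotient.mk J))) (ofGens O hle hcov e he) hP)) :
    Nonempty (M.restrict (FEt.puncturedSpec A).ι ≅ Coh.structureModule _) := by
  obtain ⟨ι, _, f, hle, hcov, e, he⟩ := exists_gens hM
  let D := ofGens (fun i => Dop (f i)) hle hcov e he
  haveI : Finite D.ι := ‹Finite ι›
  have ht := triv_of_triv_quotient J hJ G hG hd D f (fun i => rfl) P hP (h _ hle hcov e he)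
  obtain ⟨σ, hσ⟩ := exists_isGen_of_triv D e he (ofGens_rel _ hle hcov e he) ht
  exact nonempty_iso_of_isGen hσ

theorem preimage_punctured {B : Type u} [CommRing B] [IsLocalRing B] (π : A →+* B)
    (hπ : Function.Surjective π) :
    Spec.map (CommRingCat.ofHom π) ⁻¹ᵁ FEt.puncturedSpec A = FEt.puncturedSpec B := by
  ext p
  show ¬ (PrimeSpectrum.comap π p = IsLocalRing.closedPoint A) ↔ ¬ (p = IsLocalRing.closedPoint B)
  haveI := IsLocalHom.of_surjective π hπ
  have h0 : PrimeSpectrum.comap π (IsLocalRing.closedPoint B) = IsLocalRing.closedPoint A :=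
    IsLocalRing.comap_closedPoint π
  refine not_congr ⟨fun h => PrimeSpectrum.comap_injective_of_surjective π hπ (h.trans h0.symm), fun h => h ▸ h0⟩

/-- Punctured spectra: if the quotient has trivial Picard group, so has the ring. -/
theorem picTrivial_of_quotient (J : Ideal A) (hJ : J ≠ ⊤) [IsLocalRing (A ⧸ J)]
    (G : GrData J) (hG : G.Indep ⊥) (hd : (3 : ℕ∞) ≤ LocCoh.depth (A ⧸ J) (A ⧸ J))
    (h0 : ParaF.PicTrivial (FEt.puncturedSpec (A ⧸ J) : Scheme.{u})) :
    ParaF.PicTrivial (FEt.puncturedSpec A : Scheme.{u}) := by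
  intro L hL
  let U := FEt.puncturedSpec A
  let M := (Scheme.Modules.pushforward U.ι).obj L
  have hM : PicF.IsInvertible (M.restrict U.ι) :=
    PicCl.isInvertible_of_iso (restrictPushforwardIso U.ι L).symm hL
  obtain ⟨φ⟩ := nonempty_iso_of_triv_quotient J hJ G hG hd M hM _
    (preimage_punctured (Ideal.Quotient.mk J) Ideal.Quotient.mk_surjective)
    fun O hle hcov e he => triv_of_picTrivial h0 _
  exact ⟨(restrictPushforwardIso U.ι L).symm ≪≫ φ⟩

/-- The depth part. -/
theorem three_le_depth_of_quotient (J : Ideal A) (hJ : J ≠ ⊤) [IsLocalRing (A ⧸ J)]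
    (G : GrData J) (hG : G.Indep ⊥) (hd : (3 : ℕ∞) ≤ LocCoh.depth (A ⧸ J) (A ⧸ J)) :
    (3 : ℕ∞) ≤ LocCoh.depth A A := by
  obtain ⟨x, y, z, hxm, hym, hzm, hx, hy, hz⟩ := exists_regMod_triple J hJ hd
  have h1 : RegMod ((⊥ : Ideal A) ⊔ J) x := by rwa [bot_sup_eq]
  have hGx := G.indep_sup hG h1
  have h2 : RegMod ((⊥ ⊔ Ideal.span {x}) ⊔ J) y := by rwa [bot_sup_eq, sup_comm]
  have hGy := G.indep_sup hGx h2
  have h3 : RegMod ((⊥ ⊔ Ideal.span {x} ⊔ Ideal.span {y}) ⊔ J) z := by
    rwa [bot_sup_eq, sup_comm, ← sup_assoc]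
  refine three_le_depth hxm hym hzm (G.regMod hJ hG h1) ?_ ?_
  · simpa using G.regMod hJ hGx h2
  · simpa using G.regMod hJ hGy h3

end Groth.Agent.ParaFormal
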