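import Groth.Agent.ParaFormal.AlgCocycle
import Groth.Agent.LocCoh.KoszulLim
import Groth.Agent.LocCoh.Support
import Mathlib.Algebra.Module.LocalizedModule.IsLocalization

/-!
Čech cochains of `A/tA` and local cohomology: the hypotheses of algebraisation from finiteness.
-/

set_option autoImplicit false
set_option maxHeartbeats 800000

universe u

open Groth.Agent.KoszulCech (L loc tp C cdM cdM_apply res res_loc res_res res_congr aug H1 Caug)

namespace Groth.Agent.ParaFormal.LocCohBridge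

noncomputable section

variable {A : Type u} [CommRing A] (t : A)

/-- The quotient `A/tA` as a module. -/
abbrev Q : Type u := A ⧸ Ideal.span {t}

/-- Reduction `A_g → (A/tA)_g`. -/
def θ (g : A) : Loc g →ₗ[A] L g (Q t) :=
  IsLocalizedModule.map (Submonoid.powers g) (Algebra.linearMap A (Loc g)) (loc g (Q t)) (Ideal.span {t}).mkQ

theorem θ_algebraMap (g r : A) : θ t g (algebraMap A (Loc g) r) = loc g (Q t) ((Ideal.span {t}).mkQ r) :=
  IsLocalizedModule.map_apply (Submonoid.powers g) (Algebra.linearMap A (Loc g)) (loc g (Q t)) _ r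

theorem θ_surjective (g : A) : Function.Surjective (θ t g) :=
  IsLocalizedModule.map_surjective (Submonoid.powers g) (Algebra.linearMap A (Loc g)) (loc g (Q t)) _
    (Submodule.mkQ_surjective _)

theorem θ_eq_zero_iff (g : A) (x : Loc g) : θ t g x = 0 ↔ tl t g ∣ x := by
  have he : Function.Exact (LinearMap.lsmul A A t) (Ideal.span {t}).mkQ := fun a => by
    rw [Submodule.mkQ_apply, Submodule.Quotient.mk_eq_zero, Ideal.mem_span_singleton']
    exact ⟨fun ⟨c, hc⟩ => ⟨c, by rw [← hc]; simp [mul_comm]⟩, fun ⟨c, hc⟩ => ⟨c, by rw [← hc]; simp [mul_comm]⟩⟩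
  have h := IsLocalizedModule.map_exact (Submonoid.powers g) (Algebra.linearMap A (Loc g))
    (Algebra.linearMap A (Loc g)) (loc g (Q t)) _ _ he x
  rw [θ, h]
  have hmap : ∀ y, IsLocalizedModule.map (Submonoid.powers g) (Algebra.linearMap A (Loc g))
      (Algebra.linearMap A (Loc g)) (LinearMap.lsmul A A t) y = tl t g * y := fun y => by
    have : IsLocalizedModule.map (Submonoid.powers g) (Algebra.linearMap A (Loc g))
        (Algebra.linearMap A (Loc g)) (LinearMap.lsmul A A t) = LinearMap.lsmul A (Loc g) t :=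
      IsLocalizedModule.ext (Submonoid.powers g) (Algebra.linearMap A (Loc g))
        (IsLocalizedModule.map_units (Algebra.linearMap A (Loc g)))
        (LinearMap.ext fun r => by
          rw [LinearMap.comp_apply, LinearMap.comp_apply, IsLocalizedModule.map_apply]
          simp [Algebra.smul_def])
    rw [this, LinearMap.lsmul_apply, Algebra.smul_def]
  exact ⟨fun ⟨y, hy⟩ => ⟨y, by rw [← hy, hmap]⟩, fun ⟨y, hy⟩ => ⟨y, by rw [hmap, hy]⟩⟩

theorem θ_ρ {g g' : A} (h : g ∣ g') (x : Loc g) : θ t g' (ρ h x) = res h (Q t) (θ t g x) := by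
  obtain ⟨n, r, hr⟩ := exists_num x
  have hu := IsLocalizedModule.map_units (S := Submonoid.powers g') (loc g' (Q t))
  apply ((Module.End.isUnit_iff _).1 (Groth.Agent.KoszulCech.isUnit_of_dvd h (Q t) ⟨g ^ n, n, rfl⟩)).1
  simp only [Module.algebraMap_end_apply]
  have e1 : g ^ n • ρ h x = algebraMap A (Loc g') r := by
    rw [Algebra.smul_def, map_pow, ← ρ_algebraMap h g, ← ρ_algebraMap h r, ← map_pow, ← map_mul,
      ← hr, mul_comm]
  have e2 : g ^ n • x = algebraMap A (Loc g) r := by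
    rw [Algebra.smul_def, map_pow, ← hr, mul_comm]
  rw [← map_smul, e1, ← map_smul (res h (Q t)), ← map_smul (θ t g), e2, θ_algebraMap, θ_algebraMap, res_loc]

/-- Reduction followed by restriction. -/
def R {a g : A} (h : a ∣ g) : Loc a →ₗ[A] L g (Q t) := (res h (Q t)).comp (θ t a)

theorem R_ρ {a a' g : A} (h : a ∣ a') (h' : a' ∣ g) (x : Loc a) : R t h' (ρ h x) = R t (h.trans h') x := by
  simp only [R, LinearMap.comp_apply, θ_ρ, res_res]

theorem res_R {a g g' : A} (h : a ∣ g) (h' : g ∣ g') (x : Loc a) :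
    res h' (Q t) (R t h x) = R t (h.trans h') x := by
  simp only [R, LinearMap.comp_apply, res_res]

theorem res_refl {g : A} (x : L g (Q t)) : res (dvd_refl g) (Q t) x = x :=
  congr($(Groth.Agent.KoszulCech.ext_loc (dvd_refl g) (φ := res (dvd_refl g) (Q t)) (ψ := LinearMap.id)
    (fun m => by simp)) x)

theorem R_surjective {a g : A} (h : a ∣ g) (h' : g ∣ a) : Function.Surjective (R t h) := fun y => by
  obtain ⟨x, hx⟩ := θ_surjective t a (res h' (Q t) y)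
  exact ⟨x, by rw [R, LinearMap.comp_apply, hx, res_res, res_refl]⟩

theorem R_eq_zero_iff {a g : A} (h : a ∣ g) (h' : g ∣ a) (x : Loc a) : R t h x = 0 ↔ tl t a ∣ x := by
  rw [← θ_eq_zero_iff, R, LinearMap.comp_apply]
  refine ⟨fun e => ?_, fun e => by rw [e, map_zero]⟩
  have := congrArg (res h' (Q t)) e
  rwa [res_res, res_refl, map_zero] at this

variable {ι : Type u} (f : ι → A)

theorem dvd_tp₀ (x : Fin 1 → ι) : f (x 0) ∣ tp f x := dvd_of_eq (by simp [tp])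

theorem dvd_tp₁ (x : Fin 2 → ι) : f (x 0) * f (x 1) ∣ tp f x := dvd_of_eq (by simp [tp, Fin.prod_univ_two])

theorem dvd_tp₂ (x : Fin 3 → ι) : f (x 0) * f (x 1) * f (x 2) ∣ tp f x :=
  dvd_of_eq (by simp [tp, Fin.prod_univ_three])

theorem dvd_tp₃ (x : Fin 4 → ι) : f (x 0) * f (x 1) * f (x 2) * f (x 3) ∣ tp f x :=
  dvd_of_eq (by simp [tp, Fin.prod_univ_four])

/-- Comparison of `0`-cochains. -/
def Φ₀ : (∀ i, Loc (f i)) →ₗ[A] C f 0 (Q t) :=
  LinearMap.pi fun x => (R t (dvd_tp₀ f x)).comp (LinearMap.proj (x 0))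

/-- Comparison of `1`-cochains. -/
def Φ₁ : (∀ i j, Loc (f i * f j)) →ₗ[A] C f 1 (Q t) where
  toFun c x := R t (dvd_tp₁ f x) (c (x 0) (x 1))
  map_add' c c' := funext fun _ => map_add _ _ _
  map_smul' r c := funext fun _ => map_smul _ r _

/-- Comparison of `2`-cochains. -/
def Φ₂ : (∀ i j k, Loc (f i * f j * f k)) →ₗ[A] C f 2 (Q t) where
  toFun c x := R t (dvd_tp₂ f x) (c (x 0) (x 1) (x 2))
  map_add' c c' := funext fun _ => map_add _ _ _
  map_smul' r c := funext fun _ => map_smul _ r _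

theorem Φ₀_apply (d : ∀ i, Loc (f i)) (x : Fin 1 → ι) : Φ₀ t f d x = R t (dvd_tp₀ f x) (d (x 0)) := rfl

theorem Φ₁_apply (c : ∀ i j, Loc (f i * f j)) (x : Fin 2 → ι) :
    Φ₁ t f c x = R t (dvd_tp₁ f x) (c (x 0) (x 1)) := rfl

theorem Φ₂_apply (c : ∀ i j k, Loc (f i * f j * f k)) (x : Fin 3 → ι) :
    Φ₂ t f c x = R t (dvd_tp₂ f x) (c (x 0) (x 1) (x 2)) := rfl

theorem dvd_pair (x : Fin 2 → ι) : f (x 0) ∣ tp f x ∧ f (x 1) ∣ tp f x :=
  ⟨(dvd_mul_right _ _).trans (dvd_tp₁ f x), (dvd_mul_left _ _).trans (dvd_tp₁ f x)⟩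

theorem cdM_Φ₀ (d : ∀ i, Loc (f i)) (x : Fin 2 → ι) :
    cdM f (Q t) 0 (Φ₀ t f d) x = R t (dvd_tp₁ f x)
      (ρ (dvd_mul_left (f (x 1)) (f (x 0))) (d (x 1)) - ρ (dvd_mul_right (f (x 0)) (f (x 1))) (d (x 0))) := by
  rw [cdM_apply, Fin.sum_univ_two]
  simp only [Φ₀_apply, res_R, map_sub, R_ρ, Fin.val_zero, Fin.val_one, pow_zero, pow_one, one_smul,
    neg_one_zsmul, ← sub_eq_add_neg]
  rfl

theorem cdM_Φ₁ (c : ∀ i j, Loc (f i * f j)) (x : Fin 3 → ι) :
    cdM f (Q t) 1 (Φ₁ t f c) x = R t (dvd_tp₂ f x)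
      (ρ (dvd_mul_right (f (x 0) * f (x 1)) (f (x 2))) (c (x 0) (x 1)) +
        ρ (show f (x 1) * f (x 2) ∣ f (x 0) * f (x 1) * f (x 2) from ⟨f (x 0), by ring⟩) (c (x 1) (x 2)) -
        ρ (show f (x 0) * f (x 2) ∣ f (x 0) * f (x 1) * f (x 2) from ⟨f (x 1), by ring⟩) (c (x 0) (x 2))) := by
  rw [cdM_apply, Fin.sum_univ_three]
  simp only [Φ₁_apply, res_R, map_sub, map_add, R_ρ]
  have e1 : ((1 : Fin 3) : ℕ) = 1 := rfl
  have e2 : ((2 : Fin 3) : ℕ) = 2 := rfl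
  simp only [Fin.val_zero, e1, e2, pow_zero, pow_one, one_smul, neg_one_zsmul, neg_one_sq]
  conv_rhs => rw [show ∀ a b c : L (tp f x) (Q t), a + b - c = b + -c + a from fun a b c => by abel]
  rfl

theorem cdM_Φ₂ (c : ∀ i j k, Loc (f i * f j * f k)) (x : Fin 4 → ι) :
    cdM f (Q t) 2 (Φ₂ t f c) x = R t (dvd_tp₃ f x)
      (ρ (show f (x 1) * f (x 2) * f (x 3) ∣ f (x 0) * f (x 1) * f (x 2) * f (x 3) from ⟨f (x 0), by ring⟩)
          (c (x 1) (x 2) (x 3)) -
        ρ (show f (x 0) * f (x 2) * f (x 3) ∣ f (x 0) * f (x 1) * f (x 2) * f (x 3) from ⟨f (x 1), by ring⟩)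
          (c (x 0) (x 2) (x 3)) +
        ρ (show f (x 0) * f (x 1) * f (x 3) ∣ f (x 0) * f (x 1) * f (x 2) * f (x 3) from ⟨f (x 2), by ring⟩)
          (c (x 0) (x 1) (x 3)) -
        ρ (dvd_mul_right (f (x 0) * f (x 1) * f (x 2)) (f (x 3))) (c (x 0) (x 1) (x 2))) := by
  rw [cdM_apply, Fin.sum_univ_four]
  simp only [Φ₂_apply, res_R, map_sub, map_add, R_ρ]
  have e1 : ((1 : Fin 4) : ℕ) = 1 := rfl
  have e2 : ((2 : Fin 4) : ℕ) = 2 := rfl
  have e3 : ((3 : Fin 4) : ℕ) = 3 := rfl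
  simp only [Fin.val_zero, e1, e2, e3, pow_zero, pow_succ, one_mul, mul_neg, neg_mul, mul_one, neg_neg, one_smul,
    neg_one_zsmul, ← sub_eq_add_neg]
  rfl

theorem Φ₀_surjective : Function.Surjective (Φ₀ t f) := fun s => by
  choose d hd using fun i => R_surjective t (dvd_tp₀ f fun _ : Fin 1 => i) (dvd_of_eq (by simp [tp]))
    (s fun _ => i)
  refine ⟨d, funext fun x => ?_⟩
  obtain ⟨i, rfl⟩ : ∃ i, x = fun _ => i := ⟨x 0, funext fun a => by fin_cases a; rfl⟩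
  exact hd i

theorem Φ₁_surjective : Function.Surjective (Φ₁ t f) := fun s => by
  choose d hd using fun i j => R_surjective t (dvd_tp₁ f ![i, j]) (dvd_of_eq (by simp [tp, Fin.prod_univ_two]))
    (s ![i, j])
  refine ⟨d, funext fun x => ?_⟩
  obtain ⟨i, j, rfl⟩ : ∃ i j, x = ![i, j] := ⟨x 0, x 1, funext fun a => by fin_cases a <;> rfl⟩
  exact hd i j

theorem Φ₀_eq_zero {d : ∀ i, Loc (f i)} (h : Φ₀ t f d = 0) : d ∈ Null0 f t := fun i => by
  have h1 : R t (dvd_tp₀ f fun _ : Fin 1 => i) (d i) = 0 := congrFun h fun _ => i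
  exact (R_eq_zero_iff t (dvd_tp₀ f fun _ : Fin 1 => i) (dvd_of_eq (by simp [tp])) (d i)).1 h1

theorem mem_ker_of_mem_Cyc0 {d : ∀ i, Loc (f i)} (hd : d ∈ Cyc0 f t) :
    Φ₀ t f d ∈ LinearMap.ker (cdM f (Q t) 0) := funext fun x => by
  rw [cdM_Φ₀, Pi.zero_apply]
  refine (R_eq_zero_iff t (dvd_tp₁ f x) (dvd_of_eq (by simp [tp, Fin.prod_univ_two])) _).2 ?_
  have := (hd (x 0) (x 1)).neg_right
  rwa [neg_sub] at this

theorem mem_ker_of_mem_Cyc1 {c : ∀ i j, Loc (f i * f j)} (hc : c ∈ Cyc1 f t) :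
    Φ₁ t f c ∈ LinearMap.ker (cdM f (Q t) 1) := funext fun x => by
  rw [cdM_Φ₁, Pi.zero_apply]
  exact (R_eq_zero_iff t (dvd_tp₂ f x) (dvd_of_eq (by simp [tp, Fin.prod_univ_three])) _).2 (hc _ _ _)

/-- Finitely generated submodules lift along surjections. -/
theorem exists_fg_map_eq {M N : Type*} [AddCommGroup M] [Module A M] [AddCommGroup N] [Module A N]
    (φ : M →ₗ[A] N) (hφ : Function.Surjective φ) {S : Submodule A N} (hS : S.FG) :
    ∃ T : Submodule A M, T.FG ∧ T.map φ = S := by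
  classical
  obtain ⟨s, hs⟩ := hS
  choose g hg using hφ
  refine ⟨Submodule.span A ↑(s.image g), Submodule.fg_span (s.image g).finite_toSet, ?_⟩
  rw [Submodule.map_span, Finset.coe_image, ← Set.image_comp,
    show (φ ∘ g) = id from funext hg, Set.image_id, hs]

/-- A submodule with finite quotient by `N` is finitely generated modulo `N`. -/
theorem exists_fg_of_finite_quotient {M : Type u} [AddCommGroup M] [Module A M] (K N : Submodule A M)
    [h : Module.Finite A (K ⧸ N.comap K.subtype)] : ∃ S : Submodule A M, S.FG ∧ K ≤ S ⊔ N := by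
  obtain ⟨T, hT, hTQ⟩ := exists_fg_map_eq (N.comap K.subtype).mkQ (Submodule.mkQ_surjective _) h.fg_top
  refine ⟨T.map K.subtype, hT.map _, fun x hx => ?_⟩
  obtain ⟨y, hy, hyx⟩ : (N.comap K.subtype).mkQ ⟨x, hx⟩ ∈ T.map (N.comap K.subtype).mkQ := by
    rw [hTQ]; exact Submodule.mem_top
  have h2 : (⟨x, hx⟩ : K) - y ∈ N.comap K.subtype := (Submodule.Quotient.eq _).1 hyx.symm
  exact Submodule.mem_sup.2 ⟨(y : M), Submodule.mem_map_of_mem hy, x - (y : M), h2, add_sub_cancel _ _⟩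

theorem fgMod0_of_finite (h : Module.Finite A (Caug f (Q t))) : FGMod (Cyc0 f t) (Null0 f t) := by
  obtain ⟨S, hS, hle⟩ := exists_fg_of_finite_quotient (h := h) _ _
  have hrange : (LinearMap.range (aug f (Q t))).FG := by
    rw [← Submodule.map_top]; exact Module.Finite.fg_top.map _
  obtain ⟨T, hT, hTS⟩ := exists_fg_map_eq (Φ₀ t f) (Φ₀_surjective t f) (hS.sup hrange)
  refine ⟨T, hT, fun d hd => ?_⟩
  obtain ⟨s, hs, hsd⟩ := hTS.ge (hle (mem_ker_of_mem_Cyc0 t f hd))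
  exact Submodule.mem_sup.2 ⟨s, hs, d - s, Φ₀_eq_zero t f (by rw [map_sub, hsd, sub_self]), add_sub_cancel _ _⟩

theorem fgMod1_of_finite (h : Module.Finite A (H1 f (Q t) 0)) : FGMod (Cyc1 f t) (Null1 f t) := by
  obtain ⟨S, hS, hle⟩ := exists_fg_of_finite_quotient (h := h) _ _
  obtain ⟨T, hT, hTS⟩ := exists_fg_map_eq (Φ₁ t f) (Φ₁_surjective t f) hS
  refine ⟨T, hT, fun c hc => ?_⟩
  obtain ⟨y, hy, z, ⟨e, he⟩, hyz⟩ := Submodule.mem_sup.1 (hle (mem_ker_of_mem_Cyc1 t f hc))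
  obtain ⟨s, hs, hsy⟩ := hTS.ge hy
  obtain ⟨d, rfl⟩ := Φ₀_surjective t f e
  refine Submodule.mem_sup.2 ⟨s, hs, c - s, ⟨-d, fun i j => ?_⟩, add_sub_cancel _ _⟩
  have h1 : Φ₁ t f (c - s) ![i, j] = cdM f (Q t) 0 (Φ₀ t f d) ![i, j] := by
    rw [map_sub, hsy, ← hyz, he, add_sub_cancel_left]
  rw [cdM_Φ₀, Φ₁_apply, ← sub_eq_zero, ← map_sub,
    R_eq_zero_iff t (dvd_tp₁ f ![i, j]) (dvd_of_eq (by simp [tp, Fin.prod_univ_two]))] at h1
  simp only [Pi.neg_apply, map_neg, Pi.sub_apply]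
  simp only [Matrix.cons_val_zero, Matrix.cons_val_one, Pi.sub_apply] at h1
  rw [neg_sub_neg]
  exact h1

theorem hTwo_of_subsingleton (h : Subsingleton (H1 f (Q t) 1)) : HTwo f (Ideal.span {t}) := by
  intro c hc
  have hk : Φ₂ t f c ∈ LinearMap.ker (cdM f (Q t) 2) := funext fun x => by
    rw [cdM_Φ₂, Pi.zero_apply]
    exact (R_eq_zero_iff t (dvd_tp₃ f x) (dvd_of_eq (by simp [tp, Fin.prod_univ_four])) _).2
      (mem_map_iff_dvd.1 (hc _ _ _ _))
  obtain ⟨s, hs⟩ := (Submodule.Quotient.mk_eq_zero _).1 (h.elim (Submodule.Quotient.mk ⟨_, hk⟩) 0)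
  replace hs : cdM f (Q t) 1 s = Φ₂ t f c := hs
  obtain ⟨d, rfl⟩ := Φ₁_surjective t f s
  refine ⟨d, fun i j k => mem_map_iff_dvd.2 ?_⟩
  have h1 := congrFun hs.symm ![i, j, k]
  rw [cdM_Φ₁, Φ₂_apply, ← sub_eq_zero, ← map_sub,
    R_eq_zero_iff t (dvd_tp₂ f ![i, j, k]) (dvd_of_eq (by simp [tp, Fin.prod_univ_three]))] at h1
  exact h1

variable [IsNoetherianRing A] [Fintype ι]

/-- Local cohomology only depends on the radical. -/
theorem nonempty_H_equiv_of_radical_eq {I J : Ideal A} (h : I.radical = J.radical) (i : ℕ) (M : Type u)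
    [AddCommGroup M] [Module A M] : Nonempty (_root_.LocCoh.H I i M ≃ₗ[A] _root_.LocCoh.H J i M) := by
  obtain ⟨a, ha⟩ := Ideal.exists_pow_le_of_le_radical_of_fg (I := I ⊔ J) (J := I)
    (sup_le Ideal.le_radical (h ▸ Ideal.le_radical)) (IsNoetherian.noetherian _)
  obtain ⟨b, hb⟩ := Ideal.exists_pow_le_of_le_radical_of_fg (I := I ⊔ J) (J := J)
    (sup_le (h ▸ Ideal.le_radical) Ideal.le_radical) (IsNoetherian.noetherian _)
  exact ⟨(LinearEquiv.ofBijective _ (Groth.Agent.LocCoh.hm_bijective_of_pow_le le_sup_left ha i (ModuleCat.of A M))).symm.trans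
    (LinearEquiv.ofBijective _ (Groth.Agent.LocCoh.hm_bijective_of_pow_le le_sup_right hb i (ModuleCat.of A M)))⟩

/-- The algebraisation hypotheses follow from the finiteness of local cohomology. -/
theorem cech_hypotheses (I : Ideal A) (hI : I.radical = (Ideal.span (Set.range f)).radical)
    (h₁ : Module.Finite A (_root_.LocCoh.H I 1 (Q t))) (h₂ : Module.Finite A (_root_.LocCoh.H I 2 (Q t)))
    (h₃ : Subsingleton (_root_.LocCoh.H I 3 (Q t))) :
    HTwo f (Ideal.span {t}) ∧ FGMod (Cyc0 f t) (Null0 f t) ∧ FGMod (Cyc1 f t) (Null1 f t) := by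
  classical
  let fs := (Finset.univ.image f).toList
  have hf : ∀ a, a ∈ fs ↔ ∃ i, f i = a := fun a => by simp [fs]
  have hspan : Ideal.span {a : A | a ∈ fs} = Ideal.span (Set.range f) := by
    congr 1; ext a; exact hf a
  have hH : ∀ i : ℕ, Nonempty (_root_.LocCoh.H I i (Q t) ≃ₗ[A]
      Groth.Agent.KoszulCech.limH fs (ModuleCat.of A (Q t)) ((i : ℤ) - fs.length)) := fun i => by
    obtain ⟨e⟩ := nonempty_H_equiv_of_radical_eq (hI.trans (congrArg Ideal.radical hspan).symm) i (Q t)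
    obtain ⟨e'⟩ := Groth.Agent.LocCoh.nonempty_H_equiv_limH fs i (Q t)
    exact ⟨e.trans e'⟩
  obtain ⟨e₁⟩ := hH 1
  obtain ⟨e₂⟩ := hH 2
  obtain ⟨e₃⟩ := hH 3
  obtain ⟨c₁⟩ := Groth.Agent.KoszulCech.nonempty_Caug_equiv f fs (Q t) hf
  obtain ⟨c₂⟩ := Groth.Agent.KoszulCech.nonempty_H1_equiv f fs hf 0 (Q t)
  obtain ⟨c₃⟩ := Groth.Agent.KoszulCech.nonempty_H1_equiv f fs hf 1 (Q t)
  exact ⟨hTwo_of_subsingleton t f ((c₃.trans e₃.symm).toEquiv.subsingleton),
    fgMod0_of_finite t f (Module.Finite.equiv (e₁.trans c₁.symm)),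
    fgMod1_of_finite t f (Module.Finite.equiv (e₂.trans c₂.symm))⟩

end

end Groth.Agent.ParaFormal.LocCohBridge
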