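import Groth.Agent.ParaFormal.Algebraise

/-!
Cocycles on a hypersurface algebraise: from `A/tA` to `A` for `A` complete along `t`.
-/

set_option autoImplicit false
set_option maxHeartbeats 800000

universe u

open IsLocalRing

namespace Groth.Agent.ParaFormal

variable {A B : Type u} [CommRing A] [CommRing B] (π : A →+* B)

/-- Reduction of localizations along a ring map. -/
noncomputable def red {a : A} {b : B} (h : π a = b) : Loc a →+* Loc b :=
  IsLocalization.Away.lift (S := Loc a) a (g := (algebraMap B (Loc b)).comp π)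
    (by rw [RingHom.comp_apply, h]; exact IsLocalization.Away.algebraMap_isUnit b)

@[simp]
theorem red_algebraMap {a : A} {b : B} (h : π a = b) (x : A) :
    red π h (algebraMap A (Loc a) x) = algebraMap B (Loc b) (π x) :=
  IsLocalization.Away.lift_eq _ _ x

theorem red_ρ {a a' : A} {b b' : B} (ha : π a = b) (ha' : π a' = b') (h : a ∣ a') (h' : b ∣ b') (x : Loc a) :
    red π ha' (ρ h x) = ρ h' (red π ha x) :=
  RingHom.congr_fun (IsLocalization.ringHom_ext (Submonoid.powers a)
    (show ((red π ha').comp (ρ h)).comp (algebraMap A (Loc a)) =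
        ((ρ h').comp (red π ha)).comp (algebraMap A (Loc a))
      from RingHom.ext fun y => by simp)) x

theorem red_surjective (hπ : Function.Surjective π) {a : A} {b : B} (h : π a = b) :
    Function.Surjective (red π h) := by
  intro y
  obtain ⟨n, r, hr⟩ := exists_num y
  obtain ⟨r, rfl⟩ := hπ r
  obtain ⟨w, hw⟩ := (isUnit_pow a n).exists_right_inv
  refine ⟨algebraMap A (Loc a) r * w, (isUnit_pow b n).mul_right_cancel ?_⟩
  rw [hr]
  have h1 : algebraMap B (Loc b) b ^ n = red π h (algebraMap A (Loc a) a ^ n) := by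
    rw [map_pow, red_algebraMap, h]
  rw [h1, ← map_mul, mul_assoc, mul_comm w, hw, mul_one, red_algebraMap]

theorem red_eq_zero_of_dvd {t : A} (ht : π t = 0) {a : A} {b : B} (h : π a = b) {x : Loc a}
    (hx : tl t a ∣ x) : red π h x = 0 := by
  obtain ⟨c, rfl⟩ := hx
  rw [map_mul, red_algebraMap, ht, map_zero, zero_mul]

theorem dvd_of_red_eq_zero {t : A} (hker : RingHom.ker π = Ideal.span {t}) {a : A} {b : B} (h : π a = b)
    {x : Loc a} (hx : red π h x = 0) : tl t a ∣ x := by
  obtain ⟨n, r, hr⟩ := exists_num x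
  have h1 : algebraMap B (Loc b) (π r) = 0 := by
    rw [← red_algebraMap π h r, ← hr, map_mul, hx, zero_mul]
  obtain ⟨⟨_, k, rfl⟩, hk⟩ := (IsLocalization.map_eq_zero_iff (Submonoid.powers b) (Loc b) _).1 h1
  have h2 : a ^ k * r ∈ Ideal.span {t} := by
    rw [← hker, RingHom.mem_ker, map_mul, map_pow, h]
    exact hk
  rw [← mem_map_iff_dvd]
  refine (Ideal.mul_unit_mem_iff_mem _ (isUnit_pow a n)).1 ?_
  rw [hr]
  exact mem_map_iff.2 ⟨k, h2⟩

variable [IsNoetherianRing A] {ι : Type*} [Fintype ι]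

/-- A cocycle on `A/t` algebraises, up to a coboundary, if `A` is `t`-adically complete and the Čech
cohomology of `A/t` on the cover is zero in degree two and finitely generated in degrees zero and one. -/
theorem exists_algebraic_cocycle' {t : A} (hreg : IsSMulRegular A t) [IsAdicComplete (Ideal.span {t}) A]
    (f : ι → A) (hH : HTwo f (Ideal.span {t})) (hfg0 : FGMod (Cyc0 f t) (Null0 f t))
    (hfg1 : FGMod (Cyc1 f t) (Null1 f t))
    (hπ : Function.Surjective π) (hker : RingHom.ker π = Ideal.span {t})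
    (g : ∀ i j, Loc (π (f i) * π (f j))) (hself : ∀ i, g i i = 1)
    (hg : ∀ i j k, ρ (dvd_mul_right (π (f i) * π (f j)) (π (f k))) (g i j) *
        ρ (show π (f j) * π (f k) ∣ π (f i) * π (f j) * π (f k) from ⟨π (f i), by ring⟩) (g j k) =
        ρ (show π (f i) * π (f k) ∣ π (f i) * π (f j) * π (f k) from ⟨π (f j), by ring⟩) (g i k)) :
    ∃ (D : ι → A) (r : ι → ι → A) (m K : ι → ℕ),
      (∀ i, π (D i) = π (f i) ^ (m i + 1)) ∧ (∀ i, D i * (r i i - D i) = 0) ∧
      (∀ i j k, D i * (r i j * r j k - D j * r i k) = 0) ∧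
      ∀ i j, algebraMap B (Loc (π (f i) * π (f j))) (π (r i j)) *
          algebraMap B (Loc (π (f i) * π (f j))) (π (f i)) ^ K i =
        algebraMap B (Loc (π (f i) * π (f j))) (π (f i)) ^ (m i + 1) * g i j *
          algebraMap B (Loc (π (f i) * π (f j))) (π (f j)) ^ K j := by
  have ht0 : π t = 0 := by
    rw [← RingHom.mem_ker, hker]; exact Ideal.mem_span_singleton_self t
  choose g₁ hg₁ using fun i j => red_surjective π hπ (map_mul π (f i) (f j)) (g i j)
  have h3 : ∀ i j k, π (f i * f j * f k) = π (f i) * π (f j) * π (f k) := fun i j k => by simp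
  have hcoc : Coc f t 1 g₁ := by
    refine ⟨fun i j k => ?_, fun i => ?_⟩ <;> rw [pow_one]
    · refine dvd_of_red_eq_zero π hker (h3 i j k) ?_
      rw [map_sub, map_mul, red_ρ π (map_mul π (f i) (f j)) (h3 i j k) _ (dvd_mul_right _ _),
        red_ρ π (map_mul π (f j) (f k)) (h3 i j k) _ ⟨π (f i), by ring⟩,
        red_ρ π (map_mul π (f i) (f k)) (h3 i j k) _ ⟨π (f j), by ring⟩, hg₁, hg₁, hg₁, hg, sub_self]
    · refine dvd_of_red_eq_zero π hker (map_mul π (f i) (f i)) ?_
      rw [map_sub, hg₁, hself, map_one, sub_self]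
  obtain ⟨G, hG, hG1, hcompat⟩ := exists_family hreg hH hcoc
  let F : Formal f t :=
    { G := G
      coc := hG
      compat := hcompat
      reg := hreg
      fg0 := hfg0
      fg1 := hfg1 }
  obtain ⟨D, r, m, K, hD, hrr, hrc, hrg⟩ := F.exists_algebraisation
  refine ⟨fun i => D i * f i, fun i j => r i j * f i, m, K, fun i => ?_, fun i => ?_, fun i j k => ?_,
    fun i j => ?_⟩
  · obtain ⟨c, hc⟩ := hD i
    have := congrArg π hc
    rw [map_sub, map_pow, map_mul π t c, ht0, zero_mul, sub_eq_zero] at this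
    rw [map_mul, this, pow_succ]
  · linear_combination f i * f i * hrr i
  · linear_combination f i * f i * f j * hrc i j k
  · have h := red_eq_zero_of_dvd π ht0 (map_mul π (f i) (f j)) (hrg i j)
    simp only [F, hG1, map_sub, map_mul, map_pow, red_algebraMap, hg₁] at h
    simp only [map_mul, pow_succ]
    linear_combination algebraMap B (Loc (π (f i) * π (f j))) (π (f i)) * h


variable [IsLocalRing A]

/-- A cocycle on `A/t` algebraises, up to a coboundary, if `A` is `t`-adically complete and `A/t` has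
depth at least four. -/
theorem exists_algebraic_cocycle {t : A} (hreg : IsSMulRegular A t) [IsAdicComplete (Ideal.span {t}) A]
    [IsLocalRing (A ⧸ Ideal.span {t})]
    (hd : (4 : ℕ∞) ≤ LocCoh.depth (A ⧸ Ideal.span {t}) (A ⧸ Ideal.span {t}))
    (f : ι → A) (hf : maximalIdeal A ≤ (Ideal.span (Set.range f)).radical)
    (hπ : Function.Surjective π) (hker : RingHom.ker π = Ideal.span {t})
    (g : ∀ i j, Loc (π (f i) * π (f j))) (hself : ∀ i, g i i = 1)
    (hg : ∀ i j k, ρ (dvd_mul_right (π (f i) * π (f j)) (π (f k))) (g i j) *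
        ρ (show π (f j) * π (f k) ∣ π (f i) * π (f j) * π (f k) from ⟨π (f i), by ring⟩) (g j k) =
        ρ (show π (f i) * π (f k) ∣ π (f i) * π (f j) * π (f k) from ⟨π (f j), by ring⟩) (g i k)) :
    ∃ (D : ι → A) (r : ι → ι → A) (m K : ι → ℕ),
      (∀ i, π (D i) = π (f i) ^ (m i + 1)) ∧ (∀ i, D i * (r i i - D i) = 0) ∧
      (∀ i j k, D i * (r i j * r j k - D j * r i k) = 0) ∧
      ∀ i j, algebraMap B (Loc (π (f i) * π (f j))) (π (r i j)) *
          algebraMap B (Loc (π (f i) * π (f j))) (π (f i)) ^ K i =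
        algebraMap B (Loc (π (f i) * π (f j))) (π (f i)) ^ (m i + 1) * g i j *
          algebraMap B (Loc (π (f i) * π (f j))) (π (f j)) ^ K j := by
  obtain ⟨x, y, z, w, hxm, hym, hzm, hwm, hx, hy, hz, hw⟩ := exists_regMod_quad (Ideal.span {t}) hd
  exact exists_algebraic_cocycle' π hreg f (hTwo_of_regMod (hf hxm) (hf hym) (hf hzm) (hf hwm) hx hy hz hw)
    (fgMod0_of_glue (glue_of_regMod (hf hxm) (hf hym) hx hy))
    (fgMod1_of_hOne (hOne_of_regMod (hf hxm) (hf hym) (hf hzm) hx hy hz)) hπ hker g hself hg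

end Groth.Agent.ParaFormal
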