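import Groth.Agent.ParaFormal.Lift
import Mathlib.RingTheory.AdicCompletion.Basic
import Mathlib.LinearAlgebra.Matrix.Charpoly.LinearMap
import Mathlib.RingTheory.Noetherian.Basic

/-!
Algebraisation of a formal line bundle along a regular element.
-/

set_option autoImplicit false
set_option maxHeartbeats 800000

universe u

namespace Groth.Agent.ParaFormal

variable {A : Type u} [CommRing A] {ι : Type*} {f : ι → A} {t : A}

theorem dvd_ρ₁ {a b : A} (h : a ∣ b) {x : Loc a} (hx : tl t a ∣ x) : tl t b ∣ ρ h x := by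
  obtain ⟨c, rfl⟩ := hx
  exact ⟨ρ h c, by rw [map_mul, ρ_algebraMap]⟩

/-- A family is a section modulo `t ^ n`. -/
def IsSecMod (t : A) (n : ℕ) (g : ∀ i j, Loc (f i * f j)) (s : ∀ i, Loc (f i)) : Prop :=
  ∀ i j, tl t (f i * f j) ^ n ∣ ρ (dvd_mul_right (f i) (f j)) (s i) - g i j * ρ (dvd_mul_left (f j) (f i)) (s j)

/-- The dual transition functions. -/
noncomputable def gdual (g : ∀ i j, Loc (f i * f j)) : ∀ i j, Loc (f i * f j) := fun i j =>
  ρ (dvd_of_eq (mul_comm (f j) (f i))) (g j i)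

theorem Coc.dual {n : ℕ} {g : ∀ i j, Loc (f i * f j)} (hg : Coc f t n g) : Coc f t n (gdual g) := by
  refine ⟨fun i j k => ?_, fun i => ?_⟩
  · have h := dvd_ρ (show f k * f j * f i ∣ f i * f j * f k from ⟨1, by ring⟩) (hg.coc k j i)
    simp only [gdual, map_sub, map_mul, ρ_ρ] at h ⊢
    obtain ⟨c, hc⟩ := h
    exact ⟨c, by linear_combination hc⟩
  · simp only [gdual, ρ_self]
    exact hg.self i

theorem dual_rel {n : ℕ} {g : ∀ i j, Loc (f i * f j)} (hg : Coc f t n g) {u : ∀ i, Loc (f i)}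
    (hu : IsSecMod t n (gdual g) u) (i j : ι) :
    tl t (f i * f j) ^ n ∣
      g i j * ρ (dvd_mul_right (f i) (f j)) (u i) - ρ (dvd_mul_left (f j) (f i)) (u j) := by
  obtain ⟨a, ha⟩ := hu i j
  obtain ⟨b, hb⟩ := hg.mul_inv i j
  simp only [gdual] at ha
  exact ⟨g i j * a + ρ (dvd_mul_left (f j) (f i)) (u j) * b,
    by linear_combination g i j * ha + ρ (dvd_mul_left (f j) (f i)) (u j) * hb⟩

theorem IsSecMod.congr {n : ℕ} {g g' : ∀ i j, Loc (f i * f j)} {s : ∀ i, Loc (f i)} (hs : IsSecMod t n g s)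
    (h : ∀ i j, tl t (f i * f j) ^ n ∣ g' i j - g i j) : IsSecMod t n g' s := fun i j => by
  obtain ⟨a, ha⟩ := hs i j
  obtain ⟨b, hb⟩ := h i j
  exact ⟨a - ρ (dvd_mul_left (f j) (f i)) (s j) * b,
    by linear_combination ha - ρ (dvd_mul_left (f j) (f i)) (s j) * hb⟩

theorem IsSecMod.of_le {n m : ℕ} (hmn : m ≤ n) {g : ∀ i j, Loc (f i * f j)} {s : ∀ i, Loc (f i)}
    (hs : IsSecMod t n g s) : IsSecMod t m g s := fun i j => (pow_dvd_pow _ hmn).trans (hs i j)

variable [Fintype ι]

/-- A section equal to a power of `f k` on `D (f k)`. -/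
theorem exists_secMod {n : ℕ} {g : ∀ i j, Loc (f i * f j)} (hg : Coc f t n g) (k : ι) :
    ∃ N, ∀ N', N ≤ N' → ∃ s : ∀ i, Loc (f i), IsSecMod t n g s ∧
      tl t (f k) ^ n ∣ s k - algebraMap A (Loc (f k)) (f k) ^ N' := by
  classical
  choose m d hd using fun i => exists_ρ_eq (dvd_refl _) (dvd_mul_right (f i) (f k)) (g i k)
  let N := Finset.univ.sup m
  let d' : ∀ i, Loc (f i) := fun i => algebraMap A (Loc (f i)) (f k) ^ (N - m i) * d i
  have hd' : ∀ i, ρ (dvd_mul_right (f i) (f k)) (d' i) = algebraMap A (Loc (f i * f k)) (f k) ^ N * g i k :=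
    fun i => by
      simp only [d', map_mul, map_pow, ρ_algebraMap, hd, ← mul_assoc, ← pow_add,
        Nat.sub_add_cancel (Finset.le_sup (f := m) (Finset.mem_univ i)), N]
  have hz : ∀ i j, ∃ M, algebraMap A (Loc (f i * f j)) (f k) ^ M *
      (ρ (dvd_mul_right (f i) (f j)) (d' i) - g i j * ρ (dvd_mul_left (f j) (f i)) (d' j)) ∈
        (Ideal.span {t ^ n}).map (algebraMap A (Loc (f i * f j))) := by
    intro i j
    refine pow_mul_mem_of_ρ_mem (dvd_refl _) (dvd_mul_right (f i * f j) (f k)) ?_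
    have e1 := congrArg (ρ (show f i * f k ∣ f i * f j * f k from ⟨f j, by ring⟩)) (hd' i)
    have e2 := congrArg (ρ (show f j * f k ∣ f i * f j * f k from ⟨f i, by ring⟩)) (hd' j)
    simp only [map_mul, map_pow, ρ_algebraMap, ρ_ρ] at e1 e2
    simp only [map_sub, map_mul, ρ_ρ, mem_map_pow_iff]
    obtain ⟨c, hc⟩ := hg.coc i j k
    exact ⟨-(algebraMap A _ (f k) ^ N * c), by
      rw [e1, e2]; linear_combination (-(algebraMap A (Loc (f i * f j * f k)) (f k) ^ N)) * hc⟩
  choose M hM using hz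
  have hk : ∃ M₀, algebraMap A (Loc (f k)) (f k) ^ M₀ * (d' k - algebraMap A (Loc (f k)) (f k) ^ N) ∈
      (Ideal.span {t ^ n}).map (algebraMap A (Loc (f k))) := by
    refine pow_mul_mem_of_ρ_mem (dvd_refl _) (dvd_mul_right (f k) (f k)) ?_
    obtain ⟨c, hc⟩ := hg.self k
    simp only [map_sub, map_pow, ρ_algebraMap, hd', mem_map_pow_iff]
    exact ⟨algebraMap A _ (f k) ^ N * c, by linear_combination algebraMap A (Loc (f k * f k)) (f k) ^ N * hc⟩
  obtain ⟨M₀, hM₀⟩ := hk
  let Mx := Finset.univ.sup (fun p : ι × ι => M p.1 p.2) + M₀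
  refine ⟨N + Mx, fun N' hN' => ⟨fun i => algebraMap A (Loc (f i)) (f k) ^ (N' - N) * d' i, fun i j => ?_, ?_⟩⟩
  · obtain ⟨e, he⟩ : ∃ e, N' - N = M i j + e := ⟨_, (Nat.add_sub_cancel' (show M i j ≤ N' - N by
      have := Finset.le_sup (f := fun p : ι × ι => M p.1 p.2) (Finset.mem_univ (i, j))
      simp only at this
      omega)).symm⟩
    obtain ⟨c, hc⟩ := mem_map_pow_iff.1 (hM i j)
    simp only [map_mul, map_pow, ρ_algebraMap, he, pow_add]
    exact ⟨algebraMap A _ (f k) ^ e * c, by linear_combination algebraMap A (Loc (f i * f j)) (f k) ^ e * hc⟩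
  · obtain ⟨e, he⟩ : ∃ e, N' - N = M₀ + e := ⟨_, (Nat.add_sub_cancel' (by omega)).symm⟩
    obtain ⟨c, hc⟩ := mem_map_pow_iff.1 hM₀
    show _ ∣ algebraMap A (Loc (f k)) (f k) ^ (N' - N) * d' k - _
    rw [show N' = M₀ + e + N by omega, Nat.add_sub_cancel, pow_add, pow_add]
    exact ⟨algebraMap A _ (f k) ^ e * c, by linear_combination algebraMap A (Loc (f k)) (f k) ^ e * hc⟩

/-- `C` is finitely generated modulo `N`. -/
def FGMod {M : Type*} [AddCommGroup M] [Module A M] (C N : Submodule A M) : Prop :=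
  ∃ S : Submodule A M, S.FG ∧ C ≤ S ⊔ N

theorem FGMod.pi {κ M : Type*} [Finite κ] [AddCommGroup M] [Module A M] {C N : Submodule A M} (h : FGMod C N) :
    FGMod (Submodule.pi Set.univ fun _ : κ => C) (Submodule.pi Set.univ fun _ : κ => N) := by
  classical
  haveI := Fintype.ofFinite κ
  obtain ⟨S, hS, hle⟩ := h
  refine ⟨⨆ k, S.map (LinearMap.single A (fun _ : κ => M) k), Submodule.fg_iSup _ fun k => hS.map _,
    fun x hx => ?_⟩
  choose y hy z hz hyz using fun k => Submodule.mem_sup.1 (hle (hx k trivial))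
  refine Submodule.mem_sup.2 ⟨y, ?_, z, fun k _ => hz k, funext hyz⟩
  rw [← Finset.univ_sum_single y]
  exact Submodule.sum_mem _ fun k _ => Submodule.mem_iSup_of_mem k ⟨y k, hy k, rfl⟩

/-- An increasing chain containing `N` stabilises inside a submodule finitely generated modulo `N`. -/
theorem FGMod.exists_stab [IsNoetherianRing A] {M : Type*} [AddCommGroup M] [Module A M] {C N : Submodule A M}
    (h : FGMod C N) (P : ℕ →o Submodule A M) (hN : ∀ j, N ≤ P j) :
    ∃ j₀, ∀ j, j₀ ≤ j → P j ⊓ C ≤ P j₀ := by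
  obtain ⟨S, hS, hle⟩ := h
  haveI := isNoetherian_of_fg_of_noetherian S hS
  obtain ⟨j₀, hj₀⟩ := monotone_stabilizes_iff_noetherian.mpr (inferInstance : IsNoetherian A S)
    ⟨fun j => (P j).comap S.subtype, fun i j hij => Submodule.comap_mono (P.mono hij)⟩
  refine ⟨j₀, fun j hj x hx => ?_⟩
  obtain ⟨y, hy, z, hz, rfl⟩ := Submodule.mem_sup.1 (hle hx.2)
  refine add_mem ?_ (hN j₀ hz)
  have h1 : (⟨y, hy⟩ : S) ∈ (P j).comap S.subtype := by
    have := sub_mem hx.1 (hN j hz)
    rwa [add_sub_cancel_right] at this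
  rw [show (P j).comap S.subtype = (P j₀).comap S.subtype from (hj₀ j hj).symm] at h1
  exact h1

section Cochains

variable (f : ι → A) (t : A)

/-- Cochains vanishing modulo `t`. -/
def Null0 : Submodule A (∀ i, Loc (f i)) where
  carrier := {d | ∀ i, tl t (f i) ∣ d i}
  zero_mem' := fun i => by simp
  add_mem' := fun ha hb i => dvd_add (ha i) (hb i)
  smul_mem' := fun r d hd i => by rw [Pi.smul_apply, Algebra.smul_def]; exact dvd_mul_of_dvd_right (hd i) _

/-- Cochains which agree modulo `t`. -/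
def Cyc0 : Submodule A (∀ i, Loc (f i)) where
  carrier := {d | ∀ i j, tl t (f i * f j) ∣
    ρ (dvd_mul_right (f i) (f j)) (d i) - ρ (dvd_mul_left (f j) (f i)) (d j)}
  zero_mem' := fun i j => by simp
  add_mem' := fun {a b} ha hb i j => by
    have := dvd_add (ha i j) (hb i j)
    simp only [Pi.add_apply, map_add]
    convert this using 1
    ring
  smul_mem' := fun r d hd i j => by
    have := dvd_mul_of_dvd_right (hd i j) (algebraMap A _ r)
    simp only [Pi.smul_apply, Algebra.smul_def, map_mul, ρ_algebraMap]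
    convert this using 1
    ring

/-- One-cochains which are coboundaries modulo `t`. -/
def Null1 : Submodule A (∀ i j, Loc (f i * f j)) where
  carrier := {c | ∃ d : ∀ i, Loc (f i), ∀ i j, tl t (f i * f j) ∣
    c i j - (ρ (dvd_mul_right (f i) (f j)) (d i) - ρ (dvd_mul_left (f j) (f i)) (d j))}
  zero_mem' := ⟨0, fun i j => by simp⟩
  add_mem' := fun {a b} ⟨d, hd⟩ ⟨d', hd'⟩ => ⟨d + d', fun i j => by
    have := dvd_add (hd i j) (hd' i j)
    simp only [Pi.add_apply, map_add]
    convert this using 1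
    ring⟩
  smul_mem' := fun r c ⟨d, hd⟩ => ⟨fun i => algebraMap A _ r * d i, fun i j => by
    have := dvd_mul_of_dvd_right (hd i j) (algebraMap A _ r)
    simp only [Pi.smul_apply, Algebra.smul_def, map_mul, ρ_algebraMap]
    convert this using 1
    ring⟩

/-- One-cocycles modulo `t`. -/
def Cyc1 : Submodule A (∀ i j, Loc (f i * f j)) where
  carrier := {c | ∀ i j k, tl t (f i * f j * f k) ∣ ρ (dvd_mul_right (f i * f j) (f k)) (c i j) +
    ρ (show f j * f k ∣ f i * f j * f k from ⟨f i, by ring⟩) (c j k) -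
    ρ (show f i * f k ∣ f i * f j * f k from ⟨f j, by ring⟩) (c i k)}
  zero_mem' := fun i j k => by simp
  add_mem' := fun {a b} ha hb i j k => by
    have := dvd_add (ha i j k) (hb i j k)
    simp only [Pi.add_apply, map_add]
    convert this using 1
    ring
  smul_mem' := fun r c hc i j k => by
    have := dvd_mul_of_dvd_right (hc i j k) (algebraMap A _ r)
    simp only [Pi.smul_apply, Algebra.smul_def, map_mul, ρ_algebraMap]
    convert this using 1
    ring

end Cochains

omit [Fintype ι] in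
theorem fgMod0_of_glue (h : Glue f (Ideal.span {t})) : FGMod (Cyc0 f t) (Null0 f t) := by
  refine ⟨LinearMap.range (LinearMap.pi fun i => Algebra.linearMap A (Loc (f i))), ?_, fun d hd => ?_⟩
  · rw [← Submodule.map_top]; exact Module.Finite.fg_top.map _
  · obtain ⟨a, ha⟩ := h d fun i j => mem_map_iff_dvd.2 (hd i j)
    exact Submodule.mem_sup.2 ⟨fun i => algebraMap A (Loc (f i)) a, ⟨a, rfl⟩,
      fun i => d i - algebraMap A (Loc (f i)) a, fun i => mem_map_iff_dvd.1 (ha i), funext fun i => by simp⟩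

omit [Fintype ι] in
theorem fgMod1_of_hOne (h : HOne f (Ideal.span {t})) : FGMod (Cyc1 f t) (Null1 f t) := by
  refine ⟨⊥, Submodule.fg_bot, fun c hc => Submodule.mem_sup_right ?_⟩
  obtain ⟨d, hd⟩ := h c fun i j k => mem_map_iff_dvd.2 (hc i j k)
  exact ⟨d, fun i j => mem_map_iff_dvd.1 (hd i j)⟩

variable [IsNoetherianRing A]

/-- The data of a formal line bundle with finiteness results. -/
structure Formal (f : ι → A) (t : A) where
  /-- transition functions -/
  G : ℕ → ∀ i j, Loc (f i * f j)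
  coc : ∀ n, Coc f t n (G n)
  compat : ∀ n m, n ≤ m → ∀ i j, tl t (f i * f j) ^ n ∣ G m i j - G n i j
  reg : IsSMulRegular A t
  fg0 : FGMod (Cyc0 f t) (Null0 f t)
  fg1 : FGMod (Cyc1 f t) (Null1 f t)

/-- A large number of steps after which obstructions stabilise: lifts exist. -/
theorem Formal.exists_next (F : Formal f t) :
    ∃ j₀ : ℕ, ∀ j, j₀ ≤ j → ∀ s, IsSecMod t j (F.G j) s →
      ∃ s', IsSecMod t (j + 1) (F.G (j + 1)) s' ∧ ∀ i, tl t (f i) ^ (j - j₀) ∣ s' i - s i := by
  classical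
  choose NW hNW using fun k => exists_secMod (F.coc 1) k
  choose NU hNU using fun k => exists_secMod (F.coc 1).dual k
  let N₁ := Finset.univ.sup NW + Finset.univ.sup NU
  choose w hw hwk using fun k => hNW k N₁ ((Finset.le_sup (Finset.mem_univ k)).trans (Nat.le_add_right _ _))
  choose u hu huk using fun k => hNU k N₁ ((Finset.le_sup (Finset.mem_univ k)).trans (Nat.le_add_left _ _))
  choose iv hiv using fun i => (isUnit_pow (f i) N₁).exists_right_inv
  let P : ℕ → Submodule A (ι × ι → ∀ i, Loc (f i)) := fun j =>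
    { carrier := {a | ∃ (s : ∀ i, Loc (f i)) (c : ∀ i l, Loc (f i * f l)) (σ : ι → ∀ i, Loc (f i)),
        (∀ i l, tl t (f i * f l) ^ (j + 1) ∣ ρ (dvd_mul_right (f i) (f l)) (s i) -
          F.G (j + 1) i l * ρ (dvd_mul_left (f l) (f i)) (s l) - tl t (f i * f l) ^ j * c i l) ∧
        (∀ k i l, tl t (f i * f l) ∣ ρ (dvd_mul_right (f i) (f l)) (σ k i) -
          ρ (dvd_mul_left (f l) (f i)) (σ k l) - ρ (dvd_mul_right (f i) (f l)) (u k i) * c i l) ∧
        ∀ k l i, tl t (f i) ∣ a (k, l) i - (w k i * u k i * σ l i - w k i * u l i * σ k i)}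
      zero_mem' := ⟨0, 0, 0, fun i l => by simp, fun k i l => by simp, fun k l i => by simp⟩
      add_mem' := fun {a a'} ⟨s, c, σ, h1, h2, h3⟩ ⟨s', c', σ', h1', h2', h3'⟩ =>
        ⟨s + s', c + c', σ + σ', fun i l => by
          have := dvd_add (h1 i l) (h1' i l)
          simp only [Pi.add_apply, map_add]
          convert this using 1
          ring, fun k i l => by
          have := dvd_add (h2 k i l) (h2' k i l)
          simp only [Pi.add_apply, map_add]
          convert this using 1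
          ring, fun k l i => by
          have := dvd_add (h3 k l i) (h3' k l i)
          simp only [Pi.add_apply, map_add]
          convert this using 1
          ring⟩
      smul_mem' := fun r a ⟨s, c, σ, h1, h2, h3⟩ =>
        ⟨fun i => algebraMap A _ r * s i, fun i l => algebraMap A _ r * c i l,
          fun k i => algebraMap A _ r * σ k i, fun i l => by
          have := dvd_mul_of_dvd_right (h1 i l) (algebraMap A _ r)
          simp only [map_mul, ρ_algebraMap]
          convert this using 1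
          ring, fun k i l => by
          have := dvd_mul_of_dvd_right (h2 k i l) (algebraMap A _ r)
          simp only [map_mul, ρ_algebraMap]
          convert this using 1
          ring, fun k l i => by
          have := dvd_mul_of_dvd_right (h3 k l i) (algebraMap A _ r)
          simp only [Pi.smul_apply, Algebra.smul_def, map_mul]
          convert this using 1
          ring⟩ }
  have hmono : Monotone P := monotone_nat_of_le_succ fun j => by
    rintro a ⟨s, c, σ, h1, h2, h3⟩
    refine ⟨fun i => tl t (f i) * s i, c, σ, fun i l => ?_, h2, h3⟩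
    obtain ⟨x, hx⟩ := h1 i l
    obtain ⟨y, hy⟩ := F.compat (j + 1) (j + 1 + 1) (Nat.le_succ _) i l
    simp only [map_mul, ρ_algebraMap]
    exact ⟨x - ρ (dvd_mul_left (f l) (f i)) (s l) * y, by
      linear_combination tl t (f i * f l) * hx - tl t (f i * f l) * ρ (dvd_mul_left (f l) (f i)) (s l) * hy⟩
  obtain ⟨j₀, hj₀⟩ := (FGMod.pi (κ := ι × ι) F.fg0).exists_stab ⟨P, hmono⟩ fun j a ha =>
    ⟨0, 0, 0, fun i l => by simp, fun k i l => by simp, fun k l i => by simpa using ha (k, l) trivial i⟩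
  let P₁ : ℕ → Submodule A (ι → ∀ i l, Loc (f i * f l)) := fun j =>
    { carrier := {a | ∃ (s : ∀ i, Loc (f i)) (c : ∀ i l, Loc (f i * f l)),
        (∀ i l, tl t (f i * f l) ^ (j + 1) ∣ ρ (dvd_mul_right (f i) (f l)) (s i) -
          F.G (j + 1) i l * ρ (dvd_mul_left (f l) (f i)) (s l) - tl t (f i * f l) ^ j * c i l) ∧
        ∀ k, (a k - fun i l => ρ (dvd_mul_right (f i) (f l)) (u k i) * c i l) ∈ Null1 f t}
      zero_mem' := ⟨0, 0, fun i l => by simp, fun k => by
        convert (Null1 f t).zero_mem using 1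
        funext i l
        simp⟩
      add_mem' := fun {a a'} ⟨s, c, h1, h2⟩ ⟨s', c', h1', h2'⟩ => ⟨s + s', c + c', fun i l => by
          have := dvd_add (h1 i l) (h1' i l)
          simp only [Pi.add_apply, map_add]
          convert this using 1
          ring, fun k => by
          convert add_mem (h2 k) (h2' k) using 1
          funext i l
          simp only [Pi.add_apply, Pi.sub_apply]
          ring⟩
      smul_mem' := fun r a ⟨s, c, h1, h2⟩ =>
        ⟨fun i => algebraMap A _ r * s i, fun i l => algebraMap A _ r * c i l, fun i l => by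
          have := dvd_mul_of_dvd_right (h1 i l) (algebraMap A _ r)
          simp only [map_mul, ρ_algebraMap]
          convert this using 1
          ring, fun k => by
          convert Submodule.smul_mem _ r (h2 k) using 1
          funext i l
          simp only [Pi.smul_apply, Pi.sub_apply]
          simp only [Algebra.smul_def]
          ring⟩ }
  have hmono₁ : Monotone P₁ := monotone_nat_of_le_succ fun j => by
    rintro a ⟨s, c, h1, h2⟩
    refine ⟨fun i => tl t (f i) * s i, c, fun i l => ?_, h2⟩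
    obtain ⟨x, hx⟩ := h1 i l
    obtain ⟨y, hy⟩ := F.compat (j + 1) (j + 1 + 1) (Nat.le_succ _) i l
    simp only [map_mul, ρ_algebraMap]
    exact ⟨x - ρ (dvd_mul_left (f l) (f i)) (s l) * y, by
      linear_combination tl t (f i * f l) * hx - tl t (f i * f l) * ρ (dvd_mul_left (f l) (f i)) (s l) * hy⟩
  obtain ⟨j₁, hj₁⟩ := (FGMod.pi (κ := ι) F.fg1).exists_stab ⟨P₁, hmono₁⟩ fun j a ha =>
    ⟨0, 0, fun i l => by simp, fun k => by
      have h : a k ∈ Null1 f t := ha k trivial
      convert h using 1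
      funext i l
      simp⟩
  refine ⟨j₀ + j₁, fun j hj s hs => ?_⟩
  -- the obstruction cocycles
  have hobs : ∀ (J : ℕ) (_ : 0 < J + 1) (s : ∀ i, Loc (f i)), IsSecMod t J (F.G J) s →
      ∃ c : ∀ i l, Loc (f i * f l), (∀ i l, ρ (dvd_mul_right (f i) (f l)) (s i) -
          F.G (J + 1) i l * ρ (dvd_mul_left (f l) (f i)) (s l) = tl t (f i * f l) ^ J * c i l) ∧
        ∀ k, (fun i l => ρ (dvd_mul_right (f i) (f l)) (u k i) * c i l) ∈ Cyc1 f t := by
    intro J _ s hs
    have hs' : IsSecMod t J (F.G (J + 1)) s := hs.congr fun i l => F.compat _ _ (Nat.le_succ _) i l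
    choose c hc using hs'
    have hccoc : ∀ i l m, tl t (f i * f l * f m) ∣
        ρ (dvd_mul_right (f i * f l) (f m)) (c i l) +
          ρ (dvd_mul_right (f i * f l) (f m)) (F.G (J + 1) i l) *
            ρ (show f l * f m ∣ f i * f l * f m from ⟨f i, by ring⟩) (c l m) -
          ρ (show f i * f m ∣ f i * f l * f m from ⟨f l, by ring⟩) (c i m) := by
      intro i l m
      have e1 := congrArg (ρ (dvd_mul_right (f i * f l) (f m))) (hc i l)
      have e2 := congrArg (ρ (show f l * f m ∣ f i * f l * f m from ⟨f i, by ring⟩)) (hc l m)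
      have e3 := congrArg (ρ (show f i * f m ∣ f i * f l * f m from ⟨f l, by ring⟩)) (hc i m)
      simp only [map_sub, map_mul, map_pow, ρ_algebraMap, ρ_ρ] at e1 e2 e3
      obtain ⟨x, hx⟩ := (F.coc (J + 1)).coc i l m
      rw [← pow_one (tl t (f i * f l * f m))]
      refine dvd_cancel F.reg (n := J)
        ⟨-(x * ρ (show f m ∣ f i * f l * f m from dvd_mul_left _ _) (s m)), ?_⟩
      set Pg := ρ (dvd_mul_right (f i * f l) (f m)) (F.G (J + 1) i l)
      linear_combination (-1 : Loc (f i * f l * f m)) * e1 - Pg * e2 + e3 -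
        ρ (show f m ∣ f i * f l * f m from dvd_mul_left _ _) (s m) * hx
    have hu' : ∀ k i l, tl t (f i * f l) ∣ F.G (J + 1) i l * ρ (dvd_mul_right (f i) (f l)) (u k i) -
        ρ (dvd_mul_left (f l) (f i)) (u k l) := fun k i l => by
      obtain ⟨x, hx⟩ := dual_rel (F.coc 1) (hu k) i l
      obtain ⟨y, hy⟩ := F.compat 1 (J + 1) (by omega) i l
      exact ⟨x + y * ρ (dvd_mul_right (f i) (f l)) (u k i), by
        linear_combination hx + ρ (dvd_mul_right (f i) (f l)) (u k i) * hy⟩
    refine ⟨c, hc, fun k i l m => ?_⟩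
    obtain ⟨x, hx⟩ := hccoc i l m
    obtain ⟨y, hy⟩ := dvd_ρ₁ (dvd_mul_right (f i * f l) (f m)) (hu' k i l)
    simp only [map_sub, map_mul, ρ_ρ] at hy ⊢
    set ui := ρ ((dvd_mul_right (f i) (f l)).trans (dvd_mul_right (f i * f l) (f m))) (u k i)
    set clm := ρ (show f l * f m ∣ f i * f l * f m from ⟨f i, by ring⟩) (c l m)
    exact ⟨ui * x - clm * y, by linear_combination ui * hx - clm * hy⟩
  -- first correction: the classes in degree one
  obtain ⟨e₁, he₁⟩ : ∃ e, j = j₁ + e := ⟨j - j₁, by omega⟩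
  obtain ⟨cs, hcs, hcs'⟩ := hobs j (Nat.succ_pos _) s hs
  obtain ⟨sA, cA, hA1, hA2⟩ : (fun k i l => ρ (dvd_mul_right (f i) (f l)) (u k i) * cs i l) ∈ P₁ j₁ :=
    hj₁ j (by omega) ⟨⟨s, cs, fun i l => ⟨0, by rw [mul_zero, sub_eq_zero]; exact hcs i l⟩,
      fun k => by simp only [sub_self]; exact (Null1 f t).zero_mem⟩, fun k _ => hcs' k⟩
  let s' : ∀ i, Loc (f i) := fun i => s i - tl t (f i) ^ e₁ * sA i
  have hs'' : ∀ i l, tl t (f i * f l) ^ (j + 1) ∣ ρ (dvd_mul_right (f i) (f l)) (s' i) -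
      F.G (j + 1) i l * ρ (dvd_mul_left (f l) (f i)) (s' l) - tl t (f i * f l) ^ j * (cs i l - cA i l) := by
    intro i l
    obtain ⟨x, hx⟩ := hA1 i l
    obtain ⟨y, hy⟩ := F.compat (j₁ + 1) (j + 1) (by omega) i l
    simp only [s', map_sub, map_mul, map_pow, ρ_algebraMap]
    have hcc := hcs i l
    subst he₁
    refine ⟨-x + y * ρ (dvd_mul_left (f l) (f i)) (sA l), ?_⟩
    linear_combination hcc - tl t (f i * f l) ^ e₁ * hx +
      tl t (f i * f l) ^ e₁ * ρ (dvd_mul_left (f l) (f i)) (sA l) * hy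
  obtain ⟨d, rfl⟩ : ∃ d, j = j₀ + d := ⟨j - j₀, by omega⟩
  have hsec' : IsSecMod t (j₀ + d) (F.G (j₀ + d)) s' := fun i l => by
    obtain ⟨x, hx⟩ := hs'' i l
    obtain ⟨y, hy⟩ := F.compat (j₀ + d) (j₀ + d + 1) (Nat.le_succ _) i l
    exact ⟨tl t (f i * f l) * x + (cs i l - cA i l) + y * ρ (dvd_mul_left (f l) (f i)) (s' l), by
      linear_combination hx + ρ (dvd_mul_left (f l) (f i)) (s' l) * hy⟩
  choose c0' hc0' using hs''
  let c : ∀ i l, Loc (f i * f l) := fun i l => cs i l - cA i l + tl t (f i * f l) * c0' i l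
  have hc : ∀ i l, ρ (dvd_mul_right (f i) (f l)) (s' i) -
      F.G (j₀ + d + 1) i l * ρ (dvd_mul_left (f l) (f i)) (s' l) = tl t (f i * f l) ^ (j₀ + d) * c i l :=
    fun i l => by
      simp only [c]
      linear_combination hc0' i l
  have hu' : ∀ k i l, tl t (f i * f l) ∣ F.G (j₀ + d + 1) i l * ρ (dvd_mul_right (f i) (f l)) (u k i) -
      ρ (dvd_mul_left (f l) (f i)) (u k l) := fun k i l => by
    obtain ⟨x, hx⟩ := dual_rel (F.coc 1) (hu k) i l
    obtain ⟨y, hy⟩ := F.compat 1 (j₀ + d + 1) (by omega) i l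
    exact ⟨x + y * ρ (dvd_mul_right (f i) (f l)) (u k i), by
      linear_combination hx + ρ (dvd_mul_right (f i) (f l)) (u k i) * hy⟩
  have hσ : ∀ k, ∃ σ : ∀ i, Loc (f i), ∀ i l, tl t (f i * f l) ∣
      ρ (dvd_mul_right (f i) (f l)) (σ i) - ρ (dvd_mul_left (f l) (f i)) (σ l) -
        ρ (dvd_mul_right (f i) (f l)) (u k i) * c i l := by
    intro k
    obtain ⟨σ, hσ⟩ := hA2 k
    refine ⟨σ, fun i l => ?_⟩
    obtain ⟨x, hx⟩ := hσ i l
    simp only [Pi.sub_apply] at hx
    simp only [c]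
    exact ⟨-x - ρ (dvd_mul_right (f i) (f l)) (u k i) * c0' i l, by linear_combination -hx⟩
  choose σ hσ using hσ
  let a : ι × ι → ∀ i, Loc (f i) := fun p i =>
    w p.1 i * u p.1 i * σ p.2 i - w p.1 i * u p.2 i * σ p.1 i
  have haC : ∀ p, a p ∈ Cyc0 f t := by
    rintro ⟨k, l⟩ i m
    have hwu : ∀ l, tl t (f i * f m) ∣ ρ (dvd_mul_right (f i) (f m)) (w k i * u l i) -
        ρ (dvd_mul_left (f m) (f i)) (w k m * u l m) := fun l => by
      obtain ⟨x, hx⟩ := hw k i m
      obtain ⟨y, hy⟩ := dual_rel (F.coc 1) (hu l) i m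
      rw [pow_one] at hx hy
      simp only [map_mul]
      exact ⟨ρ (dvd_mul_right (f i) (f m)) (u l i) * x + ρ (dvd_mul_left (f m) (f i)) (w k m) * y, by
        linear_combination ρ (dvd_mul_right (f i) (f m)) (u l i) * hx +
          ρ (dvd_mul_left (f m) (f i)) (w k m) * hy⟩
    obtain ⟨p, hp⟩ := hwu k
    obtain ⟨q, hq⟩ := hwu l
    obtain ⟨x, hx⟩ := hσ l i m
    obtain ⟨y, hy⟩ := hσ k i m
    simp only [map_mul] at hp hq
    simp only [a, map_sub, map_mul]
    set W := ρ (dvd_mul_right (f i) (f m)) (w k i)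
    set Uk := ρ (dvd_mul_right (f i) (f m)) (u k i)
    set Ul := ρ (dvd_mul_right (f i) (f m)) (u l i)
    set Sk := ρ (dvd_mul_left (f m) (f i)) (σ k m)
    set Sl := ρ (dvd_mul_left (f m) (f i)) (σ l m)
    exact ⟨W * Uk * x - W * Ul * y + Sl * p - Sk * q, by
      linear_combination W * Uk * hx - W * Ul * hy + Sl * hp - Sk * hq⟩
  have ha : ∀ (p : ι × ι) i, tl t (f i) ∣ a p i -
      (w p.1 i * u p.1 i * σ p.2 i - w p.1 i * u p.2 i * σ p.1 i) := fun p i => by simp [a]
  have hmem : a ∈ P (j₀ + d) ⊓ Submodule.pi Set.univ (fun _ => Cyc0 f t) :=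
    ⟨⟨s', c, σ, fun i l => ⟨0, by rw [mul_zero, sub_eq_zero]; exact hc i l⟩, hσ, fun k l i => ha (k, l) i⟩,
      fun p _ => haC p⟩
  obtain ⟨s₀, c₀, σ₀, h1, h2, h3⟩ : a ∈ P j₀ := by
    exact hj₀ (j₀ + d) (Nat.le_add_right _ _) hmem
  let e : ∀ i, Loc (f i) := fun i => (σ i i - σ₀ i i) * iv i
  have he : ∀ l i, tl t (f i) ∣ σ l i - σ₀ l i - u l i * e i := by
    intro l i
    obtain ⟨x, hx⟩ := ha (i, l) i
    obtain ⟨y, hy⟩ := h3 i l i
    obtain ⟨p, hp⟩ := hwk i
    obtain ⟨q, hq⟩ := huk i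
    rw [pow_one] at hp hq
    simp only [e]
    set Z := σ l i - σ₀ l i
    set Z' := σ i i - σ₀ i i
    set Fn := algebraMap A (Loc (f i)) (f i) ^ N₁
    have h4 : tl t (f i) ∣ Fn * (Fn * Z - u l i * Z') := ⟨y - x - (u i i * p + Fn * q) * Z + p * u l i * Z', by
      linear_combination hy - hx - (u i i * Z) * hp - Fn * Z * hq + (u l i * Z') * hp⟩
    obtain ⟨r, hr⟩ := h4
    refine ⟨iv i * iv i * r, ?_⟩
    linear_combination (iv i * iv i) * hr + (u l i * Z' * iv i - Z * (Fn * iv i + 1)) * hiv i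
  have hdiff : ∀ i m, tl t (f i * f m) ∣ c i m - c₀ i m -
      (ρ (dvd_mul_right (f i) (f m)) (e i) - F.G (j₀ + d + 1) i m * ρ (dvd_mul_left (f m) (f i)) (e m)) := by
    intro i m
    obtain ⟨x, hx⟩ := hσ i i m
    obtain ⟨y, hy⟩ := h2 i i m
    obtain ⟨p, hp⟩ := dvd_ρ₁ (dvd_mul_right (f i) (f m)) (he i i)
    obtain ⟨q, hq⟩ := dvd_ρ₁ (dvd_mul_left (f m) (f i)) (he i m)
    obtain ⟨z, hz⟩ := dvd_ρ (dvd_mul_right (f i) (f m)) (huk i)
    obtain ⟨v, hv⟩ := hu' i i m
    have hiv' := congrArg (ρ (dvd_mul_right (f i) (f m))) (hiv i)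
    simp only [map_sub, map_mul, map_pow, map_one, ρ_algebraMap, pow_one] at hp hq hz hiv'
    set E := c i m - c₀ i m -
      (ρ (dvd_mul_right (f i) (f m)) (e i) - F.G (j₀ + d + 1) i m * ρ (dvd_mul_left (f m) (f i)) (e m))
    have h5 : tl t (f i * f m) ∣ ρ (dvd_mul_right (f i) (f m)) (u i i) * E :=
      ⟨y - x + p - q + v * ρ (dvd_mul_left (f m) (f i)) (e m), by
        simp only [E]
        linear_combination hy - hx + hp - hq + ρ (dvd_mul_left (f m) (f i)) (e m) * hv⟩
    obtain ⟨r, hr⟩ := h5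
    exact ⟨ρ (dvd_mul_right (f i) (f m)) (iv i) * (r - E * z), by
      linear_combination ρ (dvd_mul_right (f i) (f m)) (iv i) * hr -
        (ρ (dvd_mul_right (f i) (f m)) (iv i) * E) * hz - E * hiv'⟩
  refine ⟨fun i => s' i - tl t (f i) ^ d * s₀ i - tl t (f i) ^ (j₀ + d) * e i, fun i m => ?_, fun i => ?_⟩
  · obtain ⟨x, hx⟩ := h1 i m
    obtain ⟨y, hy⟩ := F.compat (j₀ + 1) (j₀ + d + 1) (by omega) i m
    obtain ⟨z, hz⟩ := hdiff i m
    have hcc := hc i m
    simp only [map_sub, map_mul, map_pow, ρ_algebraMap]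
    refine ⟨z - x + y * ρ (dvd_mul_left (f m) (f i)) (s₀ m), ?_⟩
    linear_combination hcc + tl t (f i * f m) ^ (j₀ + d) * hz - tl t (f i * f m) ^ d * hx +
      tl t (f i * f m) ^ d * ρ (dvd_mul_left (f m) (f i)) (s₀ m) * hy
  · obtain ⟨d', hd'⟩ : ∃ d', d = (j₀ + d - (j₀ + j₁)) + d' := ⟨d - (j₀ + d - (j₀ + j₁)), by omega⟩
    obtain ⟨e', he'⟩ : ∃ e', e₁ = (j₀ + d - (j₀ + j₁)) + e' := ⟨e₁ - (j₀ + d - (j₀ + j₁)), by omega⟩
    generalize hm : j₀ + d - (j₀ + j₁) = m' at hd' he' ⊢
    subst hd' he'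
    exact ⟨-(tl t (f i) ^ e' * sA i + tl t (f i) ^ d' * s₀ i + tl t (f i) ^ (j₀ + d') * e i), by
      simp only [s']; ring⟩

/-- An element killing a finite module, congruent to a power of a scalar. -/
theorem exists_pow_congr_annihilate {M : Type*} [AddCommGroup M] [Module A M] [Module.Finite A M] {e : A}
    (h : ∀ x : M, ∃ y : M, e • x = t • y) : ∃ (d : A) (m : ℕ), t ∣ d - e ^ m ∧ ∀ x : M, d • x = 0 := by
  classical
  let φ : Module.End A M := algebraMap A (Module.End A M) e
  obtain ⟨p, hp, -, hcoeff, hp0⟩ :=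
    LinearMap.exists_monic_and_coeff_mem_pow_and_aeval_eq_zero_of_range_le_smul A φ (Ideal.span {t}) (by
      rintro _ ⟨x, rfl⟩
      obtain ⟨y, hy⟩ := h x
      show e • x ∈ _
      rw [hy]
      exact Submodule.smul_mem_smul (Ideal.mem_span_singleton_self t) trivial)
  refine ⟨p.eval e, p.natDegree, ?_, fun x => ?_⟩
  · rw [← Ideal.mem_span_singleton, Polynomial.eval_eq_sum_range, Finset.sum_range_succ, hp.coeff_natDegree,
      one_mul, add_sub_cancel_right]
    refine Ideal.sum_mem _ fun k hk => Ideal.mul_mem_right _ _ ?_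
    exact Ideal.pow_le_self (by have := Finset.mem_range.1 hk; omega) (hcoeff k)
  · have h1 := LinearMap.congr_fun hp0 x
    rw [Polynomial.aeval_algebraMap_apply] at h1
    simpa using h1

theorem smul_mk {a : A} {n : ℕ} (r : A) (z : Loc a) :
    r • (Ideal.Quotient.mk (Ideal.span {tl t a ^ n}) z) = Ideal.Quotient.mk _ (algebraMap A (Loc a) r * z) := by
  rw [← Algebra.smul_def]
  rfl

/-- The ambient module of sections, as an additive group. -/
noncomputable instance ambientAddCommGroup {f : ι → A} {t : A} :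
    AddCommGroup (∀ (n : ℕ) (i : ι), Loc (f i) ⧸ Ideal.span {tl t (f i) ^ n}) := inferInstance

/-- The module of sections of a formal line bundle. -/
def Formal.M (F : Formal f t) :
    Submodule A (∀ (n : ℕ) (i : ι), Loc (f i) ⧸ Ideal.span {tl t (f i) ^ n}) where
  carrier := {x | ∃ S : ℕ → ∀ i, Loc (f i), (∀ n, IsSecMod t n (F.G n) (S n)) ∧
    (∀ n i, tl t (f i) ^ n ∣ S (n + 1) i - S n i) ∧ ∀ n i, x n i = Ideal.Quotient.mk _ (S n i)}
  zero_mem' := ⟨0, fun n i j => by simp, fun n i => by simp, fun n i => by simp⟩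
  add_mem' := fun {x y} ⟨S, h1, h2, h3⟩ ⟨S', h1', h2', h3'⟩ => ⟨S + S', fun n i j => by
      have := dvd_add (h1 n i j) (h1' n i j)
      simp only [Pi.add_apply, map_add]
      convert this using 1
      ring, fun n i => by
      have := dvd_add (h2 n i) (h2' n i)
      simp only [Pi.add_apply]
      convert this using 1
      ring, fun n i => by simp [h3, h3']⟩
  smul_mem' := fun r x ⟨S, h1, h2, h3⟩ => ⟨fun n i => algebraMap A _ r * S n i, fun n i j => by
      have := dvd_mul_of_dvd_right (h1 n i j) (algebraMap A _ r)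
      simp only [map_mul, ρ_algebraMap]
      convert this using 1
      ring, fun n i => by
      have := dvd_mul_of_dvd_right (h2 n i) (algebraMap A _ r)
      convert this using 1
      ring, fun n i => by
      rw [Pi.smul_apply, Pi.smul_apply, h3, smul_mk]⟩

/-- The algebraisation of a formal line bundle. -/
theorem Formal.exists_algebraisation (F : Formal f t) [IsAdicComplete (Ideal.span {t}) A] :
    ∃ (D : ι → A) (r : ι → ι → A) (m K : ι → ℕ),
      (∀ i, t ∣ D i - f i ^ m i) ∧ (∀ i, D i * (r i i - D i) = 0) ∧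
      (∀ i j k, D i * (r i j * r j k - D j * r i k) = 0) ∧
      ∀ i j, tl t (f i * f j) ∣ algebraMap A _ (r i j) * algebraMap A (Loc (f i * f j)) (f i) ^ K i -
        algebraMap A (Loc (f i * f j)) (f i) ^ m i * F.G 1 i j *
          algebraMap A (Loc (f i * f j)) (f j) ^ K j := by
  classical
  obtain ⟨j₀, hnext⟩ := F.exists_next
  let mk : ∀ (n : ℕ) (i : ι), Loc (f i) →+* Loc (f i) ⧸ Ideal.span {tl t (f i) ^ n} := fun n i =>
    Ideal.Quotient.mk _
  have hmk : ∀ n i x y, mk n i x = mk n i y ↔ tl t (f i) ^ n ∣ x - y := fun n i x y => by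
    simp only [mk, Ideal.Quotient.eq, Ideal.mem_span_singleton]
  have hchain : ∀ {S : ℕ → ∀ i, Loc (f i)}, (∀ n i, tl t (f i) ^ n ∣ S (n + 1) i - S n i) →
      ∀ n m, n ≤ m → ∀ i, tl t (f i) ^ n ∣ S m i - S n i := fun {S} h n m hnm i => by
    induction m, hnm using Nat.le_induction with
    | base => simp
    | succ m hnm ih =>
      have := dvd_add ((pow_dvd_pow _ hnm).trans (h m i)) ih
      simpa using this
  -- a chart vanishes modulo t if and only if it vanishes everywhere after inverting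
  have hdiv : ∀ x ∈ F.M, (∀ i, x 1 i = 0) → ∃ y ∈ F.M, x = t • y := by
    rintro x ⟨S, h1, h2, h3⟩ hx
    have hz : ∀ n i, tl t (f i) ∣ S (n + 1) i := fun n i => by
      have e1 := (hmk 1 i (S 1 i) 0).1 (by rw [map_zero]; exact (h3 1 i).symm.trans (hx i))
      rw [pow_one, sub_zero] at e1
      have e2 := hchain h2 1 (n + 1) (by omega) i
      rw [pow_one] at e2
      simpa using dvd_add e2 e1
    choose Z hZ using hz
    refine ⟨fun n i => mk n i (Z n i), ⟨Z, fun n i j => ?_, fun n i => ?_, fun n i => rfl⟩, ?_⟩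
    · refine dvd_cancel F.reg (n := 1) ?_
      obtain ⟨p, hp⟩ := h1 (n + 1) i j
      obtain ⟨q, hq⟩ := F.compat n (n + 1) (Nat.le_succ n) i j
      rw [hZ, hZ, map_mul, map_mul, ρ_algebraMap, ρ_algebraMap] at hp
      rw [Nat.add_comm 1 n, pow_one]
      exact ⟨p + q * ρ (dvd_mul_left (f j) (f i)) (Z n j), by
        linear_combination hp + (tl t (f i * f j) * ρ (dvd_mul_left (f j) (f i)) (Z n j)) * hq⟩
    · refine dvd_cancel F.reg (n := 1) ?_
      have := h2 (n + 1) i
      rw [hZ, hZ] at this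
      rw [Nat.add_comm 1 n, pow_one, mul_sub]
      exact this
    · funext n i
      rw [h3, Pi.smul_apply, Pi.smul_apply, smul_mk]
      show _ = mk n i (tl t (f i) * Z n i)
      rw [← hZ, hmk, ← neg_sub, dvd_neg]
      exact h2 n i
  have htf : ∀ x ∈ F.M, t • x = 0 → x = 0 := by
    rintro x ⟨S, h1, h2, h3⟩ hx
    funext n i
    have e := congrFun (congrFun hx (n + 1)) i
    rw [Pi.smul_apply, Pi.smul_apply, h3, smul_mk] at e
    have e1 := (hmk (n + 1) i (tl t (f i) * S (n + 1) i) 0).1 (by rw [map_zero]; exact e)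
    rw [sub_zero, Nat.add_comm] at e1
    have e2 : tl t (f i) ^ n ∣ S (n + 1) i := dvd_cancel F.reg (n := 1) (by rw [pow_one]; rwa [Nat.add_comm n 1])
    rw [h3]
    refine Ideal.Quotient.eq_zero_iff_mem.2 (Ideal.mem_span_singleton.2 ?_)
    simpa using dvd_sub e2 (h2 n i)
  -- finite generation
  choose NU hNU using fun k => exists_secMod (F.coc 1).dual k
  choose u hu huk using fun k => hNU k (NU k) le_rfl
  let R : Submodule A (ι → ∀ i, Loc (f i)) :=
    { carrier := {a | ∃ S : ℕ → ∀ i, Loc (f i), (∀ n, IsSecMod t n (F.G n) (S n)) ∧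
        (∀ n i, tl t (f i) ^ n ∣ S (n + 1) i - S n i) ∧
        ∀ l i, tl t (f i) ∣ a l i - u l i * S 1 i}
      zero_mem' := ⟨0, fun n i j => by simp, fun n i => by simp, fun l i => by simp⟩
      add_mem' := fun {a b} ⟨S, h1, h2, h3⟩ ⟨S', h1', h2', h3'⟩ => ⟨S + S', fun n i j => by
          have := dvd_add (h1 n i j) (h1' n i j)
          simp only [Pi.add_apply, map_add]
          convert this using 1
          ring, fun n i => by
          have := dvd_add (h2 n i) (h2' n i)
          simp only [Pi.add_apply]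
          convert this using 1
          ring, fun l i => by
          have := dvd_add (h3 l i) (h3' l i)
          simp only [Pi.add_apply, map_add]
          convert this using 1
          ring⟩
      smul_mem' := fun r a ⟨S, h1, h2, h3⟩ => ⟨fun n i => algebraMap A _ r * S n i, fun n i j => by
          have := dvd_mul_of_dvd_right (h1 n i j) (algebraMap A _ r)
          simp only [map_mul, ρ_algebraMap]
          convert this using 1
          ring, fun n i => by
          have := dvd_mul_of_dvd_right (h2 n i) (algebraMap A _ r)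
          convert this using 1
          ring, fun l i => by
          have := dvd_mul_of_dvd_right (h3 l i) (algebraMap A _ r)
          simp only [Pi.smul_apply, Algebra.smul_def, map_mul]
          convert this using 1
          ring⟩ }
  obtain ⟨T, hT, hTle⟩ := FGMod.pi (κ := ι) F.fg0
  haveI := isNoetherian_of_fg_of_noetherian T hT
  obtain ⟨ν, β, hβ⟩ := Submodule.fg_iff_exists_fin_generating_family.1
    (IsNoetherian.noetherian (R.comap T.subtype))
  let α : Fin ν → ι → ∀ i, Loc (f i) := fun q => (β q).1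
  have hαR : ∀ q, α q ∈ R := fun q =>
    (show β q ∈ R.comap T.subtype from hβ ▸ Submodule.subset_span ⟨q, rfl⟩)
  choose SX hX1 hX2 hX3 using hαR
  let X : Fin ν → F.M := fun q => ⟨fun n i => mk n i (SX q n i), SX q, hX1 q, hX2 q, fun n i => rfl⟩
  have happrox : ∀ x : F.M, ∃ (c : Fin ν → A) (y : F.M), x = (∑ q, c q • X q) + t • y := by
    rintro ⟨x, S, h1, h2, h3⟩
    let b : ι → ∀ i, Loc (f i) := fun l i => u l i * S 1 i
    have hbC : ∀ l, b l ∈ Cyc0 f t := fun l i m => by
        obtain ⟨p, hp⟩ := h1 1 i m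
        obtain ⟨q, hq⟩ := dual_rel (F.coc 1) (hu l) i m
        rw [pow_one] at hp hq
        simp only [b, map_mul]
        exact ⟨ρ (dvd_mul_right (f i) (f m)) (u l i) * p + ρ (dvd_mul_left (f m) (f i)) (S 1 m) * q, by
          linear_combination ρ (dvd_mul_right (f i) (f m)) (u l i) * hp +
            ρ (dvd_mul_left (f m) (f i)) (S 1 m) * hq⟩
    obtain ⟨z₀, hz₀, n₀, hn₀, hzn⟩ := Submodule.mem_sup.1 (hTle (fun l _ => hbC l))
    have hb : b ∈ R := ⟨S, h1, h2, fun l i => by simp [b]⟩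
    have hn0R : n₀ ∈ R := ⟨0, fun n i j => by simp, fun n i => by simp,
      fun l i => by simpa using hn₀ l trivial i⟩
    have hz₀R : z₀ ∈ R := by
      have := sub_mem hb hn0R
      rwa [← hzn, add_sub_cancel_right] at this
    obtain ⟨c, hc'⟩ : ∃ c : Fin ν → A, ∑ q, c q • β q = ⟨z₀, hz₀⟩ :=
      (Submodule.mem_span_range_iff_exists_fun A).1 (hβ.symm ▸ (hz₀R : (⟨z₀, hz₀⟩ : T) ∈ R.comap T.subtype))
    have hc : ∑ q, c q • α q = z₀ := by
      have := congrArg Subtype.val hc'
      simpa [α] using this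
    obtain ⟨y, hy, hxy⟩ := hdiv (x - ∑ q, c q • (X q).1)
      (sub_mem ⟨S, h1, h2, h3⟩ (Submodule.sum_mem _ fun q _ => Submodule.smul_mem _ _ (X q).2)) fun i => by
      have e1 : (x - ∑ q, c q • (X q).1) 1 i = mk 1 i (S 1 i - ∑ q, algebraMap A _ (c q) * SX q 1 i) := by
        simp only [Pi.sub_apply, Finset.sum_apply, Pi.smul_apply, h3, map_sub, map_sum, X, mk, smul_mk]
      rw [e1, ← map_zero (mk 1 i), hmk, pow_one, sub_zero]
      obtain ⟨p, hp⟩ : tl t (f i) ∣ z₀ i i - u i i * S 1 i := by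
        have e0 : z₀ i i = u i i * S 1 i - n₀ i i :=
          eq_sub_of_add_eq (congrFun (congrFun hzn i) i)
        rw [e0, sub_sub_cancel_left, dvd_neg]
        exact hn₀ i trivial i
      choose p' hp' using fun q => hX3 q i i
      obtain ⟨z, hz⟩ := huk i
      rw [pow_one] at hz
      obtain ⟨iv, hiv⟩ := (isUnit_pow (f i) (NU i)).exists_right_inv
      have hai : z₀ i i = ∑ q, algebraMap A _ (c q) * α q i i := by
        rw [← hc]
        simp [Finset.sum_apply, Algebra.smul_def]
      have hsum : ∑ q, algebraMap A (Loc (f i)) (c q) * (u i i * SX q 1 i) =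
          (∑ q, algebraMap A _ (c q) * α q i i) -
            ∑ q, algebraMap A _ (c q) * (tl t (f i) * p' q) := by
        rw [← Finset.sum_sub_distrib]
        exact Finset.sum_congr rfl fun q _ => by linear_combination (-(algebraMap A (Loc (f i)) (c q))) * hp' q
      set E := S 1 i - ∑ q, algebraMap A _ (c q) * SX q 1 i
      have hE : u i i * E = tl t (f i) * (-p + ∑ q, algebraMap A _ (c q) * p' q) := by
        rw [mul_add, Finset.mul_sum]
        simp only [E, mul_sub, Finset.mul_sum]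
        have e2 : ∑ q, u i i * (algebraMap A (Loc (f i)) (c q) * SX q 1 i) =
            ∑ q, algebraMap A _ (c q) * (u i i * SX q 1 i) := Finset.sum_congr rfl fun q _ => by ring
        have e3 : ∑ q, tl t (f i) * (algebraMap A (Loc (f i)) (c q) * p' q) =
            ∑ q, algebraMap A _ (c q) * (tl t (f i) * p' q) := Finset.sum_congr rfl fun q _ => by ring
        rw [e2, e3, hsum, ← hai]
        linear_combination (-1 : Loc (f i)) * hp
      exact ⟨iv * ((-p + ∑ q, algebraMap A _ (c q) * p' q) - z * E),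
        by linear_combination iv * hE - (iv * E) * hz - E * hiv⟩
    refine ⟨c, ⟨y, hy⟩, Subtype.ext ?_⟩
    simp only [Submodule.coe_add, AddSubmonoidClass.coe_finset_sum, SetLike.val_smul]
    exact (sub_eq_iff_eq_add'.1 hxy)
  haveI hMfin : Module.Finite A F.M := ⟨Submodule.fg_iff_exists_fin_generating_family.2 ⟨ν, X, by
    refine eq_top_iff.2 fun x _ => ?_
    choose c y hy using happrox
    let xs : ℕ → F.M := fun n => Nat.rec x (fun _ z => y z) n
    let cs : ℕ → Fin ν → A := fun n q => ∑ k ∈ Finset.range n, t ^ k * c (xs k) q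
    have hxs : ∀ n, x = (∑ q, cs n q • X q) + t ^ n • xs n := by
      intro n
      induction n with
      | zero => simp [cs, xs]
      | succ n ih =>
        conv_lhs => rw [ih, hy (xs n)]
        simp only [cs, Finset.sum_range_succ, add_smul, Finset.sum_add_distrib, smul_add, Finset.smul_sum,
          smul_smul, pow_succ, add_assoc]
        rfl
    have hlim : ∀ q, ∃ L, ∀ n, cs n q - L ∈ Ideal.span {t ^ n} := fun q => by
      obtain ⟨L, hL⟩ := IsPrecomplete.prec (I := Ideal.span {t}) inferInstance (f := fun n => cs n q)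
        fun {m n} hmn => by
          rw [SModEq.sub_mem, smul_eq_mul, Ideal.mul_top, Ideal.span_singleton_pow, Ideal.mem_span_singleton,
            ← dvd_neg, neg_sub]
          show t ^ m ∣ cs n q - cs m q
          simp only [cs, ← Finset.sum_Ico_eq_sub _ hmn]
          exact Finset.dvd_sum fun k hk => Dvd.dvd.mul_right (pow_dvd_pow t (Finset.mem_Ico.1 hk).1) _
      exact ⟨L, fun n => by
        have := hL n
        rwa [SModEq.sub_mem, smul_eq_mul, Ideal.mul_top, Ideal.span_singleton_pow] at this⟩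
    choose L hL using hlim
    have hx : x = ∑ q, L q • X q := by
      refine Subtype.ext (funext fun n => funext fun i => ?_)
      have e := hxs n
      have hkill : ∀ (b : A) (z : Loc (f i) ⧸ Ideal.span {tl t (f i) ^ n}), b ∈ Ideal.span {t ^ n} →
          b • z = 0 := fun b z hb => by
        obtain ⟨z, rfl⟩ := Ideal.Quotient.mk_surjective z
        obtain ⟨b, rfl⟩ := Ideal.mem_span_singleton'.1 hb
        rw [smul_mk]
        show mk n i (algebraMap A _ (b * t ^ n) * z) = 0
        rw [← map_zero (mk n i), hmk, sub_zero, map_mul, map_pow]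
        exact ⟨algebraMap A _ b * z, by ring⟩
      have e1 := congrArg (fun z : F.M => z.1 n i) e
      simp only [Submodule.coe_add, AddSubmonoidClass.coe_finset_sum, SetLike.val_smul, Pi.add_apply,
        Finset.sum_apply, Pi.smul_apply] at e1 ⊢
      rw [e1, hkill _ _ (Ideal.mem_span_singleton_self _), add_zero]
      refine Finset.sum_congr rfl fun q _ => ?_
      rw [← sub_eq_zero, ← sub_smul]
      exact hkill _ _ (hL q n)
    rw [hx]
    exact Submodule.sum_mem _ fun q _ => Submodule.smul_mem _ _ (Submodule.subset_span ⟨q, rfl⟩)⟩⟩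
  -- local generators
  choose NW hNW using fun k => exists_secMod (F.coc (j₀ + 1)) k
  have hW : ∀ k, ∃ (W : F.M) (S : ℕ → ∀ i, Loc (f i)), (∀ n, IsSecMod t n (F.G n) (S n)) ∧
      (∀ n i, tl t (f i) ^ n ∣ S (n + 1) i - S n i) ∧ (∀ n i, W.1 n i = mk n i (S n i)) ∧
      tl t (f k) ∣ S 1 k - algebraMap A (Loc (f k)) (f k) ^ NW k := by
    intro k
    obtain ⟨s, hs, hsk⟩ := hNW k (NW k) le_rfl
    choose nx hnx hnx' using hnext
    let T : ∀ n, {s : ∀ i, Loc (f i) // IsSecMod t (j₀ + 1 + n) (F.G (j₀ + 1 + n)) s} :=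
      fun n => Nat.rec ⟨s, hs⟩ (fun n z => ⟨nx (j₀ + 1 + n) (by omega) z.1 z.2,
        hnx (j₀ + 1 + n) (by omega) z.1 z.2⟩) n
    have hT : ∀ n i, tl t (f i) ^ (n + 1) ∣ (T (n + 1)).1 i - (T n).1 i := fun n i => by
      have := hnx' (j₀ + 1 + n) (by omega) (T n).1 (T n).2 i
      rwa [show j₀ + 1 + n - j₀ = n + 1 by omega] at this
    have h1 : ∀ n, IsSecMod t n (F.G n) (T n).1 := fun n => ((T n).2.of_le (by omega)).congr fun i j => by
      rw [← dvd_neg, neg_sub]
      exact F.compat n (j₀ + 1 + n) (by omega) i j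
    have h2 : ∀ n i, tl t (f i) ^ n ∣ (T (n + 1)).1 i - (T n).1 i := fun n i =>
      (pow_dvd_pow _ (Nat.le_succ n)).trans (hT n i)
    refine ⟨⟨fun n i => mk n i ((T n).1 i), fun n => (T n).1, h1, h2, fun n i => rfl⟩, fun n => (T n).1, h1, h2,
      fun n i => rfl, ?_⟩
    have e1 : tl t (f k) ∣ (T 1).1 k - (T 0).1 k := by simpa using hT 0 k
    have e2 : tl t (f k) ∣ s k - algebraMap A (Loc (f k)) (f k) ^ NW k :=
      (dvd_pow_self _ (Nat.succ_ne_zero j₀)).trans hsk
    simpa [T] using dvd_add e1 e2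
  choose W SW hW1 hW2 hW3 hWk using hW
  have hD : ∀ k, ∃ (D : A) (m : ℕ), t ∣ D - f k ^ m ∧ (∀ x : F.M, ∃ r : A, D • x = r • W k) ∧
      ∀ a : A, a • W k = 0 → D * a = 0 := by
    intro k
    obtain ⟨iv, hiv⟩ := (isUnit_pow (f k) (NW k)).exists_right_inv
    have hsmall : ∀ x : F.M, ∃ (L : ℕ) (r : A) (y : F.M), f k ^ L • x = r • W k + t • y := by
      rintro ⟨x, S, h1, h2, h3⟩
      obtain ⟨L, r, hr⟩ := exists_num (S 1 k * iv)
      obtain ⟨z, hz⟩ := hWk k
      let E : ∀ i, Loc (f i) := fun i => algebraMap A _ (f k ^ L) * S 1 i - algebraMap A _ r * SW k 1 i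
      have hEk : tl t (f k) ∣ E k := ⟨-(algebraMap A _ r * z), by
        simp only [E, map_pow]
        linear_combination (-(algebraMap A (Loc (f k)) r)) * hz +
          algebraMap A (Loc (f k)) (f k) ^ NW k * hr -
            (S 1 k * algebraMap A (Loc (f k)) (f k) ^ L) * hiv⟩
      have hEs : ∀ i, ∃ M, tl t (f i) ∣ algebraMap A (Loc (f i)) (f k) ^ M * E i := by
        intro i
        have : ρ (dvd_mul_right (f i) (f k)) (E i) ∈ (Ideal.span {t}).map (algebraMap A (Loc (f i * f k))) := by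
          rw [mem_map_iff_dvd]
          obtain ⟨p, hp⟩ := h1 1 i k
          obtain ⟨q, hq⟩ := hW1 k 1 i k
          obtain ⟨v, hv⟩ := dvd_ρ₁ (dvd_mul_left (f k) (f i)) (hEk)
          simp only [E, map_sub, map_mul, map_pow, ρ_algebraMap, pow_one] at hp hq hv ⊢
          exact ⟨algebraMap A _ (f k) ^ L * p - algebraMap A _ r * q + F.G 1 i k * v, by
            linear_combination algebraMap A (Loc (f i * f k)) (f k) ^ L * hp -
              algebraMap A (Loc (f i * f k)) r * hq + F.G 1 i k * hv⟩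
        obtain ⟨M, hM⟩ := pow_mul_mem_of_ρ_mem (dvd_refl _) (dvd_mul_right (f i) (f k)) this
        exact ⟨M, mem_map_iff_dvd.1 hM⟩
      choose M hM using hEs
      let Mx := Finset.univ.sup M
      obtain ⟨y, hy, hxy⟩ := hdiv ((f k ^ (Mx + L)) • x - (r * f k ^ Mx) • (W k).1)
        (sub_mem (Submodule.smul_mem _ _ ⟨S, h1, h2, h3⟩) (Submodule.smul_mem _ _ (W k).2)) fun i => by
        rw [Pi.sub_apply, Pi.sub_apply, Pi.smul_apply, Pi.smul_apply, Pi.smul_apply, Pi.smul_apply, h3, hW3,
          smul_mk, smul_mk]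
        show mk 1 i (algebraMap A _ _ * S 1 i) - mk 1 i (algebraMap A _ _ * SW k 1 i) = 0
        rw [sub_eq_zero, hmk, pow_one]
        obtain ⟨p, hp⟩ := hM i
        have hle : M i ≤ Mx := Finset.le_sup (f := M) (Finset.mem_univ i)
        rw [← Nat.add_sub_cancel' hle]
        simp only [E, map_mul, map_pow, pow_add] at hp ⊢
        exact ⟨algebraMap A _ (f k) ^ (Mx - M i) * p, by
          linear_combination algebraMap A (Loc (f i)) (f k) ^ (Mx - M i) * hp⟩
      exact ⟨Mx + L, r * f k ^ Mx, ⟨y, hy⟩, Subtype.ext (by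
        simp only [Submodule.coe_add, SetLike.val_smul]
        exact sub_eq_iff_eq_add'.1 hxy)⟩
    obtain ⟨ν', Y, hY⟩ := Submodule.fg_iff_exists_fin_generating_family.1 hMfin.fg_top
    choose L r y hy using fun q => hsmall (Y q)
    let Lx := Finset.univ.sup L
    let N : Submodule A F.M := Submodule.span A {W k}
    have hquot : ∀ z : F.M ⧸ N, ∃ y : F.M ⧸ N, f k ^ Lx • z = t • y := by
      intro z
      obtain ⟨z, rfl⟩ := Submodule.Quotient.mk_surjective _ z
      obtain ⟨c, rfl⟩ := (Submodule.mem_span_range_iff_exists_fun A).1 (hY.symm ▸ Submodule.mem_top (x := z))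
      refine ⟨Submodule.Quotient.mk (∑ q, (c q * f k ^ (Lx - L q)) • y q), ?_⟩
      rw [← Submodule.Quotient.mk_smul, ← Submodule.Quotient.mk_smul, Submodule.Quotient.eq,
        Finset.smul_sum, Finset.smul_sum, ← Finset.sum_sub_distrib]
      refine Submodule.sum_mem _ fun q _ => Submodule.mem_span_singleton.2 ⟨c q * f k ^ (Lx - L q) * r q, ?_⟩
      rw [← Nat.sub_add_cancel (show L q ≤ Lx from Finset.le_sup (f := L) (Finset.mem_univ q)), pow_add,
        Nat.add_sub_cancel, smul_smul, smul_smul,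
        show f k ^ (Lx - L q) * f k ^ L q * c q = c q * f k ^ (Lx - L q) * f k ^ L q by ring,
        mul_smul _ (f k ^ L q), hy, smul_add, smul_smul, smul_smul, mul_comm (c q * f k ^ (Lx - L q)) t]
      exact (add_sub_cancel_right _ _).symm
    obtain ⟨d, m₁, hd, hdz⟩ := exists_pow_congr_annihilate hquot
    let B : Ideal A :=
      { carrier := {a | a • W k = 0}
        zero_mem' := zero_smul A _
        add_mem' := fun {a b} (ha : a • W k = 0) (hb : b • W k = 0) => by
          show (a + b) • W k = 0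
          rw [add_smul, ha, hb, add_zero]
        smul_mem' := fun c a (ha : a • W k = 0) => by
          show (c * a) • W k = 0
          rw [mul_smul, ha, smul_zero] }
    have hann : ∀ a ∈ B, ∃ (M : ℕ) (a' : A), a' ∈ B ∧ f k ^ M * a = t * a' := by
      intro a ha
      have e := congrArg (fun z : F.M => z.1 1 k) (show a • W k = 0 from ha)
      simp only [SetLike.val_smul, Pi.smul_apply, hW3, mk, smul_mk, ZeroMemClass.coe_zero,
        Pi.zero_apply] at e
      have e1 : tl t (f k) ∣ algebraMap A (Loc (f k)) a * SW k 1 k := by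
        have e' := (hmk 1 k (algebraMap A _ a * SW k 1 k) 0).1 (by rw [map_zero]; exact e)
        simpa using e'
      obtain ⟨p, hp⟩ := e1
      obtain ⟨z, hz⟩ := hWk k
      have e2 : tl t (f k) ∣ algebraMap A (Loc (f k)) a := ⟨iv * (p - algebraMap A _ a * z), by
        linear_combination iv * hp - (iv * algebraMap A (Loc (f k)) a) * hz -
          algebraMap A (Loc (f k)) a * hiv⟩
      rw [← mem_map_iff_dvd, mem_map_iff] at e2
      obtain ⟨M, hM⟩ := e2
      obtain ⟨a', ha'⟩ := Ideal.mem_span_singleton.1 hM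
      refine ⟨M, a', ?_, ha'⟩
      show a' • W k = 0
      have h0 : t • (a' • W k) = 0 := by
        rw [smul_smul, ← ha', mul_smul, show a • W k = 0 from ha, smul_zero]
      exact Subtype.ext (htf _ (a' • W k).2 (congrArg Subtype.val h0))
    obtain ⟨ν₂, b, hb⟩ := Submodule.fg_iff_exists_fin_generating_family.1 (IsNoetherian.noetherian B)
    choose M a' ha' hMa using fun q => hann (b q) (hb ▸ Submodule.subset_span ⟨q, rfl⟩)
    let Mb := Finset.univ.sup M
    have hBq : ∀ z : B, ∃ y : B, f k ^ Mb • z = t • y := by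
      rintro ⟨z, hz⟩
      obtain ⟨c, rfl⟩ := (Submodule.mem_span_range_iff_exists_fun A).1 (hb.symm ▸ hz)
      refine ⟨∑ q, (c q * f k ^ (Mb - M q)) • (⟨a' q, ha' q⟩ : B), Subtype.ext ?_⟩
      simp only [SetLike.val_smul, AddSubmonoidClass.coe_finset_sum, Finset.smul_sum, smul_eq_mul, Finset.mul_sum]
      refine Finset.sum_congr rfl fun q _ => ?_
      rw [← Nat.sub_add_cancel (show M q ≤ Mb from Finset.le_sup (f := M) (Finset.mem_univ q)), pow_add,
        Nat.add_sub_cancel]
      linear_combination (c q * f k ^ (Mb - M q)) * hMa q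
    obtain ⟨d', m₂, hd', hdb⟩ := exists_pow_congr_annihilate hBq
    refine ⟨d * d', Lx * m₁ + Mb * m₂, ?_, fun x => ?_, fun a ha => ?_⟩
    · obtain ⟨p, hp⟩ := hd
      obtain ⟨q, hq⟩ := hd'
      rw [pow_add, pow_mul, pow_mul]
      exact ⟨p * d' + (f k ^ Lx) ^ m₁ * q, by linear_combination d' * hp + (f k ^ Lx) ^ m₁ * hq⟩
    · have h := hdz (Submodule.Quotient.mk x)
      rw [← Submodule.Quotient.mk_smul, Submodule.Quotient.mk_eq_zero, Submodule.mem_span_singleton] at h
      obtain ⟨r, hr⟩ := h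
      exact ⟨d' * r, by rw [mul_comm d, mul_smul, ← hr, smul_smul]⟩
    · have h := congrArg Subtype.val (hdb ⟨a, ha⟩)
      simp only [SetLike.val_smul, smul_eq_mul, ZeroMemClass.coe_zero] at h
      rw [mul_assoc, h, mul_zero]
  choose D m hDm hDx hDa using hD
  choose r hr using fun k l => hDx k (W l)
  refine ⟨D, r, m, NW, hDm, fun i => hDa i _ ?_, fun i j k => hDa i _ ?_, fun i j => ?_⟩
  · exact (sub_smul (r i i) (D i) (W i)).trans (sub_eq_zero.2 (hr i i).symm)
  · have e : (D j * r i k) • W i = (r i j * r j k) • W i := by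
      rw [mul_smul, ← hr i k, smul_comm, hr j k, smul_comm, hr i j, smul_smul, mul_comm]
    exact (sub_smul (r i j * r j k) (D j * r i k) (W i)).trans (sub_eq_zero.2 e.symm)
  · have e := congrArg (fun z : F.M => z.1 1 i) (hr i j)
    simp only [SetLike.val_smul, Pi.smul_apply, hW3, mk, smul_mk] at e
    have e1 := (hmk 1 i (algebraMap A _ (D i) * SW j 1 i) (algebraMap A _ (r i j) * SW i 1 i)).1 e
    rw [pow_one] at e1
    obtain ⟨p, hp⟩ := dvd_ρ₁ (dvd_mul_right (f i) (f j)) (e1)
    obtain ⟨q, hq⟩ := dvd_ρ₁ (dvd_mul_right (f i) (f j)) (hWk i)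
    obtain ⟨q', hq'⟩ := dvd_ρ₁ (dvd_mul_left (f j) (f i)) (hWk j)
    obtain ⟨v, hv⟩ := hW1 j 1 i j
    obtain ⟨a, ha⟩ := hDm i
    have ha' := congrArg (algebraMap A (Loc (f i * f j))) ha
    simp only [map_sub, map_mul, map_pow, ρ_algebraMap, pow_one] at hp hq hq' hv ha'
    set Dl := algebraMap A (Loc (f i * f j)) (D i)
    set Fm := algebraMap A (Loc (f i * f j)) (f i) ^ m i
    set Sj := ρ (dvd_mul_left (f j) (f i)) (SW j 1 j)
    exact ⟨-p + Dl * v + F.G 1 i j * Sj * algebraMap A _ a + F.G 1 i j * Fm * q' -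
        algebraMap A _ (r i j) * q, by
      linear_combination (-1 : Loc (f i * f j)) * hp + Dl * hv + F.G 1 i j * Sj * ha' +
        F.G 1 i j * Fm * hq' - algebraMap A (Loc (f i * f j)) (r i j) * hq⟩

end Groth.Agent.ParaFormal
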