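import Groth.Agent.ParaFormal.Bridge
import Groth.Agent.Props.GenPull
import Mathlib.AlgebraicGeometry.IdealSheaf.Functorial

/-!
Triviality on a closed subscheme in terms of cocycles, and principal ideals.
-/

set_option backward.isDefEq.respectTransparency.types false

noncomputable section

universe u

open CategoryTheory Limits AlgebraicGeometry TopologicalSpace Opposite

namespace Groth.Agent.ParaFormal

open Groth.Agent.QCoh Groth.Agent.Props.GenLocus Groth.Agent.Props.GenPull Groth.Agent.ParaFLib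
open Groth.Agent.ParaFLib.OpenData Groth.Agent.ParaFLib.Spread

/-- A global generator of the pulled back module trivializes the pulled back cocycle. -/
theorem triv_pull_of_isGen {X Z : Scheme.{u}} (q : Z ⟶ X) {M : X.Modules} {U : X.Opens} {P : Z.Opens}
    (hP : q ⁻¹ᵁ U = P) {ι : Type u} (O : ι → X.Opens) (hle : ∀ i, O i ≤ U) (hcov : U ≤ iSup O)
    (e : ∀ i, Γ(M, O i)) (he : ∀ i, IsGen M (O i) (e i))
    (σ : Γ((Scheme.Modules.pullback q).obj M, P)) (hσ : IsGen _ P σ) :
    Triv (pull q (ofGens O hle hcov e he) hP) := by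
  refine triv_of_isGen _ (fun i => pb q (e i)) (fun i => isGen_pb q (he i)) (fun i j => ?_) σ hσ
  have h := congrArg (LFFrame.unitSec q M (O i ⊓ O j)) (ofGens_rel O hle hcov e he i j)
  refine (LFFrame.unitSec_res q M _ _).symm.trans (h.trans ?_)
  refine (LFFrame.unitSec_smul q M _ _ _).trans (congrArg₂ (· • ·) ?_ (LFFrame.unitSec_res q M _ _))
  exact (ConcreteCategory.congr_hom (Scheme.Hom.appLE_eq_app q (U := O i ⊓ O j)) _).symm

/-- Triviality on the closed subscheme of `U` gives a generator on its preimage. -/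
theorem exists_isGen_of_pullback_comap {X Z : Scheme.{u}} (q : Z ⟶ X) [QuasiCompact q] {U : X.Opens}
    (L : (U : Scheme.{u}).Modules)
    (h : Nonempty ((Scheme.Modules.pullback (q.ker.comap U.ι).subschemeι).obj L ≅ Coh.structureModule _)) :
    ∃ σ : Γ((Scheme.Modules.pullback q).obj ((Scheme.Modules.pushforward U.ι).obj L), q ⁻¹ᵁ U),
      IsGen _ (q ⁻¹ᵁ U) σ := by
  obtain ⟨φ⟩ := h
  let M := (Scheme.Modules.pushforward U.ι).obj L
  let P : Z.Opens := q ⁻¹ᵁ U
  have hw : q.resLE U P le_rfl ≫ U.ι = (P.ι ≫ q.toImage) ≫ q.ker.subschemeι := by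
    rw [Category.assoc, Scheme.Hom.resLE_comp_ι]
    exact congrArg (P.ι ≫ ·) q.toImage_imageι.symm
  let h := pullback.lift (f := U.ι) (g := q.ker.subschemeι) _ _ hw ≫ (q.ker.comapIso U.ι).inv
  have hh : h ≫ (q.ker.comap U.ι).subschemeι = q.resLE U P le_rfl := by
    rw [Category.assoc, Scheme.IdealSheafData.comapIso_inv_subschemeι]
    exact pullback.lift_fst ..
  let ψ : ((Scheme.Modules.pullback q).obj M).restrict P.ι ≅ Coh.structureModule (P : Scheme.{u}) :=
    (Scheme.Modules.restrictFunctorIsoPullback P.ι).app _ ≪≫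
      (Scheme.Modules.pullbackComp P.ι q).app M ≪≫
      (Scheme.Modules.pullbackCongr (Scheme.Hom.resLE_comp_ι q le_rfl).symm).app M ≪≫
      ((Scheme.Modules.pullbackComp (q.resLE U P le_rfl) U.ι).app M).symm ≪≫
      (Scheme.Modules.pullback (q.resLE U P le_rfl)).mapIso
        (((Scheme.Modules.restrictFunctorIsoPullback U.ι).app M).symm ≪≫ restrictPushforwardIso U.ι L) ≪≫
      (Scheme.Modules.pullbackCongr hh.symm).app L ≪≫
      ((Scheme.Modules.pullbackComp h _).app L).symm ≪≫
      (Scheme.Modules.pullback h).mapIso φ ≪≫ Groth.Agent.QCoh.pullbackUnitIso h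
  exact exists_isGen_of_iso ψ

/-- The graded basis of a principal ideal with regular generator. -/
theorem exists_grData_singleton {A : Type u} [CommRing A] {t : A} (ht : IsSMulRegular A t) :
    ∃ G : GrData (Ideal.span {t}), G.Indep ⊥ := by
  refine ⟨⟨fun _ => 1, fun n _ => t ^ n, fun n i => Ideal.pow_mem_pow (Ideal.mem_span_singleton_self t) n,
    fun n => ?_⟩, fun n c hc i => ?_⟩
  · rw [Ideal.span_singleton_pow, Set.range_const]
    exact le_sup_left
  · rw [bot_sup_eq] at hc ⊢
    obtain rfl : i = 0 := Subsingleton.elim _ _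
    rw [Ideal.span_singleton_pow, Ideal.mem_span_singleton'] at hc
    obtain ⟨d, hd⟩ := hc
    have hd' : d * t ^ (n + 1) = t ^ n * c 0 := hd.trans (by simp)
    refine Ideal.mem_span_singleton'.2 ⟨d, (ht.pow n) ?_⟩
    show t ^ n * (d * t) = t ^ n * c 0
    rw [← hd']; ring

end Groth.Agent.ParaFormal
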