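import Groth.Agent.ParaFormal.AlgCocycle
import Groth.Agent.ParaFormal.Hypersurface
import Groth.Agent.ParaFLib.StalkPair
import Groth.Agent.ParaFLib.PuncturedLocal
import Groth.Agent.AmpleLib.GenIso
import Groth.Agent.S2865
import Mathlib.RingTheory.Ideal.KrullsHeightTheorem

/-!
Extension of line bundles from a hypersurface section of a punctured spectrum.
-/

set_option backward.isDefEq.respectTransparency.types false
set_option maxHeartbeats 800000

noncomputable section

universe u

open CategoryTheory Limits AlgebraicGeometry TopologicalSpace Opposite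

namespace Groth.Agent.ParaFormal

open Groth.Agent.QCoh Groth.Agent.Props.GenLocus Groth.Agent.Props.GenPull Groth.Agent.ParaFLib
open Groth.Agent.ParaFLib.OpenData Groth.Agent.ParaFLib.Spread

/-- Parafactoriality is invariant under isomorphism. -/
theorem parafactorial_of_ringEquiv {A B : Type u} [CommRing A] [IsNoetherianRing A] [IsLocalRing A]
    [CommRing B] [IsNoetherianRing B] [IsLocalRing B] (e : A ≃+* B) (h : ParaF.IsParafactorialLocalRing B) :
    ParaF.IsParafactorialLocalRing A := by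
  letI : Algebra A B := e.toRingHom.toAlgebra
  haveI : IsLocalHom (algebraMap A B) := IsLocalHom.of_surjective _ e.surjective
  haveI : Module.Flat A B :=
    RingHom.flat_algebraMap_iff.mp (RingHom.Flat.of_bijective (f := algebraMap A B) e.bijective)
  have hm : (IsLocalRing.maximalIdeal A).map (algebraMap A B) = IsLocalRing.maximalIdeal B :=
    IsLocalRing.map_maximalIdeal_of_surjective _ e.surjective
  refine Groth.Agent.S2865.result A B ?_ h
  letI := Ideal.Quotient.field (IsLocalRing.maximalIdeal B)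
  rw [hm]
  exact ringKrullDim_eq_zero_of_field _

/-- A prime such that only the maximal ideal contains it and `t` has a one-dimensional quotient. -/
theorem dim_quotient_eq_one {A : Type u} [CommRing A] [IsLocalRing A] [IsNoetherianRing A] {t : A}
    (p : Ideal A) [p.IsPrime] (htm : t ∈ IsLocalRing.maximalIdeal A) (htp : t ∉ p)
    (h : ∀ q : Ideal A, q.IsPrime → p ≤ q → t ∈ q → q = IsLocalRing.maximalIdeal A) :
    ringKrullDim (A ⧸ p) = 1 := by
  haveI : IsLocalRing (A ⧸ p) := IsLocalRing.of_surjective' (Ideal.Quotient.mk p) Ideal.Quotient.mk_surjective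
  let τ := Ideal.Quotient.mk p t
  have hmk : IsLocalRing.maximalIdeal A ≤ (IsLocalRing.maximalIdeal (A ⧸ p)).comap (Ideal.Quotient.mk p) :=
    (IsLocalRing.eq_maximalIdeal (Ideal.comap_isMaximal_of_surjective (Ideal.Quotient.mk p)
      Ideal.Quotient.mk_surjective (K := IsLocalRing.maximalIdeal (A ⧸ p)))).ge
  have hmin : IsLocalRing.maximalIdeal (A ⧸ p) ∈ (Ideal.span {τ}).minimalPrimes := by
    refine ⟨⟨inferInstance, (Ideal.span_singleton_le_iff_mem _).2 (hmk htm)⟩, fun q hq _ => ?_⟩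
    obtain ⟨hqp, hqt⟩ := hq
    haveI := hqp
    have h1 := h (q.comap (Ideal.Quotient.mk p)) inferInstance
      (fun x hx => by rw [Ideal.mem_comap, Ideal.Quotient.eq_zero_iff_mem.2 hx]; exact q.zero_mem)
      ((Ideal.span_singleton_le_iff_mem q).1 hqt)
    intro y hy
    obtain ⟨y, rfl⟩ := Ideal.Quotient.mk_surjective y
    have h2 : y ∈ IsLocalRing.maximalIdeal A := by
      have := IsLocalRing.eq_maximalIdeal (Ideal.comap_isMaximal_of_surjective (Ideal.Quotient.mk p)
        Ideal.Quotient.mk_surjective (K := IsLocalRing.maximalIdeal (A ⧸ p)))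
      rw [← this]; exact hy
    rw [← h1] at h2
    exact h2
  have hle := Ideal.height_le_one_of_isPrincipal_of_mem_minimalPrimes _ _ hmin
  have hne : (IsLocalRing.maximalIdeal (A ⧸ p)).height ≠ 0 := by
    rw [Ne, Ideal.height_eq_zero_iff_eq_bot]
    intro h0
    exact htp (Ideal.Quotient.eq_zero_iff_mem.1 (Ideal.mem_bot.1 (h0 ▸ hmk htm)))
  rw [← IsLocalRing.maximalIdeal_height_eq_ringKrullDim,
    le_antisymm hle (Order.one_le_iff_ne_zero.2 hne)]
  rfl

variable {A : Type u} [CommRing A]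

theorem appLE_algebraMap {B : Type u} [CommRing B] (π : A →+* B) {W : (Spec (CommRingCat.of A)).Opens}
    {V : (Spec (CommRingCat.of B)).Opens} (h : V ≤ Spec.map (CommRingCat.ofHom π) ⁻¹ᵁ W) (r : A) :
    (Spec.map (CommRingCat.ofHom π)).appLE W V h (algebraMap A Γ(Spec (CommRingCat.of A), W) r) =
      algebraMap B Γ(Spec (CommRingCat.of B), V) (π r) := by
  let q := Spec.map (CommRingCat.ofHom π)
  rw [algebraMap_eq, algebraMap_eq]
  have h1 : (Scheme.ΓSpecIso (CommRingCat.of A)).inv ≫ q.appTop =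
      CommRingCat.ofHom π ≫ (Scheme.ΓSpecIso (CommRingCat.of B)).inv :=
    (Scheme.ΓSpecIso_inv_naturality (CommRingCat.ofHom π)).symm
  have h2 : CommRingCat.ofHom π ≫ (Scheme.ΓSpecIso (CommRingCat.of B)).inv ≫
        (Spec (CommRingCat.of B)).presheaf.map (homOfLE (le_top (a := V))).op =
      ((Scheme.ΓSpecIso (CommRingCat.of A)).inv ≫
        (Spec (CommRingCat.of A)).presheaf.map (homOfLE (le_top (a := W))).op) ≫ q.appLE W V h := by
    have h4 : q.appTop ≫ (Spec (CommRingCat.of B)).presheaf.map (homOfLE (le_top (a := V))).op =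
        q.appLE ⊤ V le_top := rfl
    rw [← Category.assoc, ← h1, Category.assoc, Category.assoc, Scheme.Hom.map_appLE, h4]
  exact (ConcreteCategory.congr_hom h2 r).symm

/-- An invertible module from algebraic transition numerators. -/
theorem exists_module_of_numerators {ι : Type u} (D : ι → A) (r : ι → ι → A)
    (hrr : ∀ i, D i * (r i i - D i) = 0) (hrc : ∀ i j k, D i * (r i j * r j k - D j * r i k) = 0) :
    ∃ M : (Spec (CommRingCat.of A)).Modules,
      PicF.IsInvertible (M.restrict (⨆ i, Dop (D i)).ι) ∧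
      ∃ (a : ∀ i j, Γ(Spec (CommRingCat.of A), Dop (D i) ⊓ Dop (D j))) (e : ∀ i, Γ(M, Dop (D i))),
        (∀ i, IsGen M (Dop (D i)) (e i)) ∧
        (∀ i j, algebraMap A Γ(Spec (CommRingCat.of A), Dop (D i) ⊓ Dop (D j)) (D i) * a i j =
          algebraMap A _ (r i j)) ∧
        ∀ i j, res M (inf_le_right : Dop (D i) ⊓ Dop (D j) ≤ _) (e j) =
          a i j • res M (inf_le_left : Dop (D i) ⊓ Dop (D j) ≤ _) (e i) := by
  let α : ∀ (V : (Spec (CommRingCat.of A)).Opens), A →+* Γ(Spec (CommRingCat.of A), V) :=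
    fun V => algebraMap A _
  let a : ∀ i j, Γ(Spec (CommRingCat.of A), Dop (D i) ⊓ Dop (D j)) := fun i j =>
    α (Dop (D i) ⊓ Dop (D j)) (r i j) * ↑((isUnit_on (D i) (inf_le_left : Dop (D i) ⊓ Dop (D j) ≤ _)).unit⁻¹)
  have hspec : ∀ i j, α _ (D i) * a i j = α _ (r i j) := fun i j => by
    simp only [a]
    rw [mul_left_comm]
    erw [IsUnit.mul_val_inv, mul_one]
  have hres : ∀ i j V (h : V ≤ Dop (D i) ⊓ Dop (D j)), α V (D i) * rres h (a i j) = α V (r i j) :=
    fun i j V h => by
      have := congrArg (rres h) (hspec i j)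
      rw [map_mul, rres_algebraMap, rres_algebraMap] at this
      exact this
  let C : Data (⨆ i, Dop (D i)) :=
    { ι := ι
      O := fun i => Dop (D i)
      a := a
      le := fun i => le_iSup (fun i => Dop (D i)) i
      cover := le_rfl
      self := fun i => by
        have hu := isUnit_on (D i) (inf_le_left : Dop (D i) ⊓ Dop (D i) ≤ _)
        refine hu.mul_left_cancel ?_
        rw [mul_one]
        refine (hspec i i).trans (hu.mul_left_cancel (sub_eq_zero.1 ?_))
        rw [← map_mul, ← map_mul, ← map_sub, ← mul_sub, hrr, map_zero]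
      coc := fun i j k V h₁ h₂ h₃ => by
        have hi := isUnit_on (D i) (h₁.trans inf_le_left)
        have hj := isUnit_on (D j) (h₁.trans inf_le_right)
        refine (hi.mul hj).mul_left_cancel ?_
        have e1 := hres i j V h₁
        have e2 := hres j k V h₂
        have e3 := hres i k V h₃
        have e0 : α V (r i j) * α V (r j k) = α V (D j) * α V (r i k) := by
          refine hi.mul_left_cancel (sub_eq_zero.1 ?_)
          simp only [← map_mul, ← map_sub, ← mul_sub, hrc, map_zero, α]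
        simp only [α] at e0 e1 e2 e3
        linear_combination (algebraMap A Γ(Spec (CommRingCat.of A), V) (D j) * rres h₂ (a j k)) * e1 +
          (algebraMap A Γ(Spec (CommRingCat.of A), V) (r i j)) * e2 + e0 -
          (algebraMap A Γ(Spec (CommRingCat.of A), V) (D j)) * e3 }
  obtain ⟨M, hM, e, he, hrel⟩ := exists_module C
  exact ⟨M, hM, a, e, he, hspec, hrel⟩

variable [IsNoetherianRing A]

/-- Extension of an invertible module over points with parafactorial local rings. -/
theorem exists_extension {V U : (Spec (CommRingCat.of A)).Opens} (h : V ≤ U)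
    (hst : ∀ p : PrimeSpectrum A, p ∈ U → p ∉ V →
      ParaF.IsParafactorialLocalRing (Localization.AtPrime p.asIdeal))
    (M₀ : (Spec (CommRingCat.of A)).Modules) (hM₀ : PicF.IsInvertible (M₀.restrict V.ι)) :
    ∃ M : (Spec (CommRingCat.of A)).Modules, PicF.IsInvertible (M.restrict U.ι) ∧
      Nonempty (M.restrict V.ι ≅ M₀.restrict V.ι) := by
  let X := Spec (CommRingCat.of A)
  let j : (V : Scheme.{u}) ⟶ (U : Scheme.{u}) := X.homOfLE h
  let V' : (U : Scheme.{u}).Opens := U.ι ⁻¹ᵁ V
  let Y : Closeds (U : Scheme.{u}) := ⟨(V' : Set (U : Scheme.{u}))ᶜ, V'.2.isClosed_compl⟩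
  have hY : Y.compl = V' := Opens.ext (by simp [Y])
  have hpair : ParaF.IsParafactorialPair (U : Scheme.{u}) Y := by
    refine (StalkPair.pair_iff_stalks Y).2 fun p hp => ?_
    obtain ⟨e⟩ := PuncturedLocal.stalkEquiv A p.1
    haveI : IsNoetherianRing (X.presheaf.stalk p.1) := inferInstance
    exact parafactorial_of_ringEquiv
      ((U.stalkIso p).commRingCatIsoToRingEquiv.trans e.symm) (hst p.1 p.2 hp)
  have hE := ((pair_iff Y).1 hpair).2 ⊤
  have hEj : Ext j := by
    have e1 : (⊤ : (U : Scheme.{u}).Opens) ⊓ Y.compl = V' := by rw [hY, top_inf_eq]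
    have e2 : U.ι ''ᵁ V' = V := by
      simp only [V', Scheme.Hom.image_preimage_eq_opensRange_inf, Scheme.Opens.opensRange_ι]
      exact inf_eq_right.2 h
    let a : (V : Scheme.{u}) ⟶ (((⊤ : (U : Scheme.{u}).Opens) ⊓ Y.compl : _) : Scheme.{u}) :=
      (X.isoOfEq e2.symm).hom ≫ (U.ι.isoImage V').inv ≫ ((U : Scheme.{u}).isoOfEq e1.symm).hom
    haveI : IsIso a := by infer_instance
    refine ext_of_iso ((U : Scheme.{u}).homOfLE inf_le_left) j a (U : Scheme.{u}).topIso.inv ?_ hE
    rw [← cancel_mono (⊤ : (U : Scheme.{u}).Opens).ι, ← cancel_mono U.ι]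
    simp [a, j, X]
  obtain ⟨L, hL, ⟨φ⟩⟩ := hEj _ hM₀
  let M := (Scheme.Modules.pushforward U.ι).obj L
  let r : M.restrict U.ι ≅ L := restrictPushforwardIso U.ι L
  exact ⟨M, PicCl.isInvertible_of_iso r.symm hL,
    ⟨(Scheme.Modules.restrictFunctorCongr (X.homOfLE_ι h).symm).app M ≪≫
      (Scheme.Modules.restrictFunctorComp j U.ι).app M ≪≫ (Scheme.Modules.restrictFunctor j).mapIso r ≪≫ φ⟩⟩

/-- Restriction of a pullback is the pullback of a restriction. -/
def pullbackRestrictIso {X Z : Scheme.{u}} (q : Z ⟶ X) (U : X.Opens) (P : Z.Opens) (h : P ≤ q ⁻¹ᵁ U)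
    (M : X.Modules) :
    ((Scheme.Modules.pullback q).obj M).restrict P.ι ≅
      (Scheme.Modules.pullback (q.resLE U P h)).obj (M.restrict U.ι) :=
  (Scheme.Modules.restrictFunctorIsoPullback P.ι).app _ ≪≫
    (Scheme.Modules.pullbackComp P.ι q).app M ≪≫
    (Scheme.Modules.pullbackCongr (Scheme.Hom.resLE_comp_ι q h).symm).app M ≪≫
    ((Scheme.Modules.pullbackComp (q.resLE U P h) U.ι).app M).symm ≪≫
    (Scheme.Modules.pullback (q.resLE U P h)).mapIso ((Scheme.Modules.restrictFunctorIsoPullback U.ι).app M).symm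

/-- Modules with generators having the same transition functions have isomorphic restrictions. -/
theorem nonempty_restrict_iso_of_rel {Z : Scheme.{u}} {P : Z.Opens} {ι : Type u} (O : ι → Z.Opens)
    (hcov : P ≤ iSup O) {M N : Z.Modules} (e : ∀ i, Γ(M, O i)) (he : ∀ i, IsGen M (O i) (e i))
    (e' : ∀ i, Γ(N, O i)) (he' : ∀ i, IsGen N (O i) (e' i))
    (a : ∀ i j, Γ(Z, O i ⊓ O j))
    (hrel : ∀ i j, res M (inf_le_right : O i ⊓ O j ≤ _) (e j) = a i j • res M (inf_le_left : O i ⊓ O j ≤ _) (e i))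
    (hrel' : ∀ i j, res N (inf_le_right : O i ⊓ O j ≤ _) (e' j) = a i j • res N (inf_le_left : O i ⊓ O j ≤ _) (e' i)) :
    Nonempty (M.restrict P.ι ≅ N.restrict P.ι) := by
  let f := P.ι
  obtain ⟨ψ, -⟩ := AmpleLib.exists_iso_of_gen
    (M := (Scheme.Modules.pullback f).obj M) (N := (Scheme.Modules.pullback f).obj N)
    (fun i => f ⁻¹ᵁ O i) (fun x _ => by
      obtain ⟨i, hi⟩ := Opens.mem_iSup.1 (hcov x.2)
      exact Opens.mem_iSup.2 ⟨i, hi⟩)
    (fun i => pb f (e i)) (fun i => isGen_pb f (he i)) (fun i => pb f (e' i)) (fun i => isGen_pb f (he' i))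
    (fun i j V hi hj u hu => by
      have hV : V ≤ f ⁻¹ᵁ (O i ⊓ O j) := le_inf hi hj
      have h1 := congrArg (LFFrame.unitSec f M (O i ⊓ O j)) (hrel i j)
      have h1' := congrArg (LFFrame.unitSec f N (O i ⊓ O j)) (hrel' i j)
      rw [LFFrame.unitSec_smul, LFFrame.unitSec_res, LFFrame.unitSec_res] at h1 h1'
      have h2 := congrArg (res _ hV) h1
      have h2' := congrArg (res _ hV) h1'
      rw [res_smul, res_res, res_res] at h2 h2'
      rw [(isGen_pb f (he i)).injective hi (hu.symm.trans h2)]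
      exact h2')
  exact ⟨(Scheme.Modules.restrictFunctorIsoPullback f).app M ≪≫ ψ ≪≫
    ((Scheme.Modules.restrictFunctorIsoPullback f).app N).symm⟩

variable [IsLocalRing A]

/-- An invertible module on the punctured spectrum of `A/t` comes from a neighbourhood in the punctured
spectrum of `A`, whose complement meets `V(t)` only in the closed point. -/
theorem exists_lift_module_nbhd (t : A) (hreg : IsSMulRegular A t)
    [IsAdicComplete (Ideal.span {t}) A] [IsLocalRing (A ⧸ Ideal.span {t})]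
    (hC : ∀ {ι : Type u} [Fintype ι] (f : ι → A),
      (∀ i, f i ∈ IsLocalRing.maximalIdeal A) →
      IsLocalRing.maximalIdeal A ≤ (Ideal.span (Set.range f)).radical →
      HTwo f (Ideal.span {t}) ∧ FGMod (Cyc0 f t) (Null0 f t) ∧ FGMod (Cyc1 f t) (Null1 f t))
    (M' : (Spec (CommRingCat.of (A ⧸ Ideal.span {t}))).Modules)
    (hM' : PicF.IsInvertible (M'.restrict (FEt.puncturedSpec (A ⧸ Ideal.span {t})).ι)) :
    ∃ V : (Spec (CommRingCat.of A)).Opens, V ≤ FEt.puncturedSpec A ∧
      (∀ p : PrimeSpectrum A, p ∉ V → t ∈ p.asIdeal → p.asIdeal = IsLocalRing.maximalIdeal A) ∧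
      ∃ M : (Spec (CommRingCat.of A)).Modules, PicF.IsInvertible (M.restrict V.ι) ∧
        FEt.puncturedSpec (A ⧸ Ideal.span {t}) ≤
          Spec.map (CommRingCat.ofHom (Ideal.Quotient.mk (Ideal.span {t}))) ⁻¹ᵁ V ∧
        Nonempty (((Scheme.Modules.pullback
          (Spec.map (CommRingCat.ofHom (Ideal.Quotient.mk (Ideal.span {t}))))).obj M).restrict
            (FEt.puncturedSpec (A ⧸ Ideal.span {t})).ι ≅
        M'.restrict (FEt.puncturedSpec (A ⧸ Ideal.span {t})).ι) := by
  classical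
  let J : Ideal A := Ideal.span {t}
  let B := A ⧸ J
  let π : A →+* B := Ideal.Quotient.mk J
  let q := Spec.map (CommRingCat.ofHom π)
  let U := FEt.puncturedSpec A
  let P := FEt.puncturedSpec B
  haveI : IsNoetherianRing B := inferInstance
  haveI := IsLocalHom.of_surjective π Ideal.Quotient.mk_surjective
  have hker : RingHom.ker π = J := Ideal.mk_ker
  have ht0 : π t = 0 := Ideal.Quotient.eq_zero_iff_mem.2 (Ideal.mem_span_singleton_self t)
  -- a cover with generators
  obtain ⟨ι₀, hfin, f₀, hle₀, hcov₀, e₀, he₀⟩ := exists_gens hM'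
  obtain ⟨l, rfl⟩ : ∃ l : ι₀ → A, f₀ = fun i => π (l i) := by
    choose l hl using fun i => Ideal.Quotient.mk_surjective (f₀ i)
    exact ⟨l, funext fun i => (hl i).symm⟩
  haveI := Fintype.ofFinite ι₀
  let f : Option ι₀ → A := fun o => o.elim t l
  have hbot : Dop (π (f none)) = ⊥ := by
    show PrimeSpectrum.basicOpen (π t) = ⊥
    rw [ht0, PrimeSpectrum.basicOpen_zero]
  let e : ∀ o, Γ(M', Dop (π (f o))) := fun o => match o with
    | none => 0
    | some i => e₀ i
  have hegen : ∀ o, IsGen M' (Dop (π (f o))) (e o) := fun o => match o with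
    | none => IsGen.of_local fun x hx => False.elim (by rw [hbot] at hx; exact hx)
    | some i => he₀ i
  have hle : ∀ o, Dop (π (f o)) ≤ P := fun o => match o with
    | none => by rw [hbot]; exact bot_le
    | some i => hle₀ i
  have hcov : P ≤ ⨆ o, Dop (π (f o)) :=
    hcov₀.trans (iSup_le fun i => le_iSup (fun o => Dop (π (f o))) (some i))
  let D' := ofGens (fun o => Dop (π (f o))) hle hcov e hegen
  obtain ⟨g, hg', hself, -, hgc⟩ := exists_cocycle D' (fun o => π (f o)) fun _ => rfl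
  have hf : IsLocalRing.maximalIdeal A ≤ (Ideal.span (Set.range f)).radical := by
    rw [Ideal.radical_eq_sInf]
    refine le_sInf fun p ⟨hp, hpp⟩ => ?_
    haveI := hpp
    have hJp : J ≤ p := (Ideal.span_singleton_le_iff_mem _).2 (hp (Ideal.subset_span ⟨none, rfl⟩))
    have hcm : ∀ y, π y ∈ p.map π → y ∈ p := fun y hy => by
      have h1 : y ∈ (p.map π).comap π := hy
      rwa [Ideal.comap_map_of_surjective π Ideal.Quotient.mk_surjective, ← RingHom.ker_eq_comap_bot, hker,
        sup_eq_left.2 hJp] at h1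
    have hbp : (p.map π).IsPrime :=
      Ideal.map_isPrime_of_surjective Ideal.Quotient.mk_surjective (by rw [hker]; exact hJp)
    by_contra hne
    have hpt : (⟨p.map π, hbp⟩ : PrimeSpectrum B) ∈ P := fun e => hne fun y hy => hcm y (by
      rw [show p.map π = IsLocalRing.maximalIdeal B from congrArg PrimeSpectrum.asIdeal e]
      exact map_nonunit π y hy)
    obtain ⟨o, ho⟩ := Opens.mem_iSup.1 (hcov hpt)
    exact ho (Ideal.mem_map_of_mem π (hp (Ideal.subset_span ⟨o, rfl⟩)))
  have hfm : ∀ o, π (f o) ∈ IsLocalRing.maximalIdeal B := fun o => by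
    by_contra hn
    exact hle o (show IsLocalRing.closedPoint B ∈ Dop (π (f o)) from hn) rfl
  have hfA : ∀ o, f o ∈ IsLocalRing.maximalIdeal A := fun o hu => hfm o (hu.map π)
  obtain ⟨D, r, m, K, hπD, hrr, hrc, hcompat⟩ :=
    exists_algebraic_cocycle' π hreg f (hC f hfA hf).1 (hC f hfA hf).2.1 (hC f hfA hf).2.2 Ideal.Quotient.mk_surjective hker g
      hself hgc
  have hDm : ∀ o, D o ∈ IsLocalRing.maximalIdeal A := fun o hu => by
    have h1 : π (D o) ∈ IsLocalRing.maximalIdeal B := by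
      rw [hπD]; exact Ideal.pow_mem_of_mem _ (hfm o) _ (Nat.succ_pos _)
    exact h1 (hu.map π)
  let V : (Spec (CommRingCat.of A)).Opens := ⨆ o, Dop (D o)
  have hVU : V ≤ U := iSup_le fun o x hx he => hx (by
    rw [show x = IsLocalRing.closedPoint A from he]; exact hDm o)
  have hmax : ∀ p : Ideal A, p.IsPrime → (∀ o, D o ∈ p) → t ∈ p → p = IsLocalRing.maximalIdeal A := by
    intro p hp hD htp
    refine le_antisymm (IsLocalRing.le_maximalIdeal hp.ne_top) (hf.trans (hp.isRadical.radical_le_iff.2 ?_))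
    refine Ideal.span_le.2 (Set.range_subset_iff.2 fun o => ?_)
    have h1 : D o - f o ^ (m o + 1) ∈ J := by
      rw [← hker, RingHom.mem_ker, map_sub, hπD, map_pow, sub_self]
    refine hp.mem_of_pow_mem (m o + 1) ?_
    have := Ideal.sub_mem p (hD o) ((Ideal.span_singleton_le_iff_mem _).2 htp h1)
    rwa [sub_sub_cancel] at this
  obtain ⟨M₀, hM₀, a, em, hem, hspec, hrel⟩ := exists_module_of_numerators D r hrr hrc
  -- comparison modulo t
  let O : Option ι₀ → (Spec (CommRingCat.of B)).Opens := fun o => q ⁻¹ᵁ Dop (D o)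
  have hO : ∀ o, O o ≤ Dop (π (f o)) := fun o x hx hmem => hx (show D o ∈ x.asIdeal.comap π by
    rw [Ideal.mem_comap, hπD]
    exact Ideal.pow_mem_of_mem _ hmem _ (Nat.succ_pos _))
  have hPO : P ≤ ⨆ o, O o := fun x hx => by
    obtain ⟨o, ho⟩ := Opens.mem_iSup.1 (hcov hx)
    refine Opens.mem_iSup.2 ⟨o, fun hmem => ho (x.2.mem_of_pow_mem (m o + 1) ?_)⟩
    rw [← hπD]
    exact hmem
  have hPV : P ≤ q ⁻¹ᵁ V := hPO.trans (iSup_le fun o => q.preimage_mono (le_iSup (fun o => Dop (D o)) o))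
  let e'' : ∀ o, Γ(M', O o) := fun o =>
    algebraMap B Γ(Spec (CommRingCat.of B), O o) (π (f o)) ^ K o • res M' (hO o) (e o)
  have he'' : ∀ o, IsGen M' (O o) (e'' o) := fun o =>
    ((hegen o).restrict (hO o)).smul_unit ((isUnit_on _ (hO o)).pow _)
  let b : ∀ i j, Γ(Spec (CommRingCat.of B), O i ⊓ O j) := fun i j =>
    q.appLE (Dop (D i) ⊓ Dop (D j)) (O i ⊓ O j) le_rfl (a i j)
  have hrelN : ∀ i j, res M' (inf_le_right : O i ⊓ O j ≤ _) (e'' j) =
      b i j • res M' (inf_le_left : O i ⊓ O j ≤ _) (e'' i) := by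
    intro i j
    let W := O i ⊓ O j
    have hW : W ≤ Dop (π (f i)) ⊓ Dop (π (f j)) := inf_le_inf (hO i) (hO j)
    have hW' : W ≤ Dop (π (f i) * π (f j)) := by rw [Dop_mul]; exact hW
    have hb : res M' (hW.trans inf_le_right) (e j) =
        psi _ hW' (g i j) • res M' (hW.trans inf_le_left) (e i) := by
      have h1 := congrArg (res M' hW) (ofGens_rel (fun o => Dop (π (f o))) hle hcov e hegen i j)
      rw [hg' i j W hW' hW]
      refine (res_res M' _ _ _).symm.trans (h1.trans ((res_smul M' _ _ _).trans ?_))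
      exact congrArg (rres hW (D'.a i j) • ·) (res_res M' _ _ _)
    have hc := congrArg (psi _ hW') (hcompat i j)
    rw [map_mul, map_mul, map_mul, map_pow, map_pow, map_pow] at hc
    simp only [psi_algebraMap] at hc
    have hs : algebraMap B Γ(Spec (CommRingCat.of B), W) (π (f i)) ^ (m i + 1) *
        b i j = algebraMap B _ (π (r i j)) := by
      rw [← map_pow, ← hπD]
      refine (congrArg (· * b i j) (appLE_algebraMap π (V := W) (W := Dop (D i) ⊓ Dop (D j)) le_rfl (D i)).symm).trans ?_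
      rw [← appLE_algebraMap π (V := W) (W := Dop (D i) ⊓ Dop (D j)) le_rfl (r i j), ← hspec, map_mul]
    have hsc : algebraMap B Γ(Spec (CommRingCat.of B), W) (π (f j)) ^ K j * psi _ hW' (g i j) =
        b i j * algebraMap B _ (π (f i)) ^ K i := by
      refine ((isUnit_on (π (f i)) (inf_le_left.trans (hO i) : W ≤ _)).pow (m i + 1)).mul_left_cancel ?_
      rw [← hs] at hc
      linear_combination -hc
    show res M' _ (_ • res M' _ _) = _ • res M' _ (_ • res M' _ _)
    rw [res_smul, res_smul, res_res, res_res, map_pow, map_pow, rres_algebraMap, rres_algebraMap, hb,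
      smul_smul, smul_smul]
    exact congrArg (· • res M' (hW.trans inf_le_left) (e i)) hsc
  have hrelM : ∀ i j, res ((Scheme.Modules.pullback q).obj M₀) (inf_le_right : O i ⊓ O j ≤ _) (pb q (em j)) =
      b i j •
        res ((Scheme.Modules.pullback q).obj M₀) (inf_le_left : O i ⊓ O j ≤ _) (pb q (em i)) := by
    intro i j
    have h1 := congrArg (LFFrame.unitSec q M₀ (Dop (D i) ⊓ Dop (D j))) (hrel i j)
    rw [LFFrame.unitSec_smul, LFFrame.unitSec_res, LFFrame.unitSec_res] at h1
    simp only [b, Scheme.Hom.appLE_eq_app]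
    exact h1
  obtain ⟨ψ⟩ := nonempty_restrict_iso_of_rel O hPO (fun o => pb q (em o)) (fun o => isGen_pb q (hem o)) e'' he''
    b hrelM hrelN
  exact ⟨V, hVU, fun p hpV htp => hmax p.asIdeal p.2 (fun o => by_contra fun hn => hpV (Opens.mem_iSup.2 ⟨o, hn⟩)) htp,
    M₀, hM₀, hPV, ⟨ψ⟩⟩

/-- An invertible module on the punctured spectrum of `A/t` comes from the punctured spectrum of `A`. -/
theorem exists_lift_module (t : A) (ht : t ∈ IsLocalRing.maximalIdeal A) (hreg : IsSMulRegular A t)
    [IsAdicComplete (Ideal.span {t}) A] [IsLocalRing (A ⧸ Ideal.span {t})]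
    (hd : (4 : ℕ∞) ≤ LocCoh.depth (A ⧸ Ideal.span {t}) (A ⧸ Ideal.span {t}))
    (he : ∀ p : PrimeSpectrum A, t ∉ p.asIdeal → ringKrullDim (A ⧸ p.asIdeal) = 1 →
      ParaF.IsParafactorialLocalRing (Localization.AtPrime p.asIdeal))
    (M' : (Spec (CommRingCat.of (A ⧸ Ideal.span {t}))).Modules)
    (hM' : PicF.IsInvertible (M'.restrict (FEt.puncturedSpec (A ⧸ Ideal.span {t})).ι)) :
    ∃ M : (Spec (CommRingCat.of A)).Modules, PicF.IsInvertible (M.restrict (FEt.puncturedSpec A).ι) ∧
      Nonempty (((Scheme.Modules.pullback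
          (Spec.map (CommRingCat.ofHom (Ideal.Quotient.mk (Ideal.span {t}))))).obj M).restrict
            (FEt.puncturedSpec (A ⧸ Ideal.span {t})).ι ≅
        M'.restrict (FEt.puncturedSpec (A ⧸ Ideal.span {t})).ι) := by
  let π : A →+* A ⧸ Ideal.span {t} := Ideal.Quotient.mk _
  let q := Spec.map (CommRingCat.ofHom π)
  obtain ⟨V, hVU, hmax, M₀, hM₀, hPV, ⟨ψ⟩⟩ := exists_lift_module_nbhd t hreg (fun f _ hf => by
    obtain ⟨x, y, z, w, hxm, hym, hzm, hwm, hx, hy, hz, hw⟩ := exists_regMod_quad (Ideal.span {t}) hd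
    exact ⟨hTwo_of_regMod (hf hxm) (hf hym) (hf hzm) (hf hwm) hx hy hz hw,
      fgMod0_of_glue (glue_of_regMod (hf hxm) (hf hym) hx hy),
      fgMod1_of_hOne (hOne_of_regMod (hf hxm) (hf hym) (hf hzm) hx hy hz)⟩) M' hM'
  have hst : ∀ p : PrimeSpectrum A, p ∈ FEt.puncturedSpec A → p ∉ V →
      ParaF.IsParafactorialLocalRing (Localization.AtPrime p.asIdeal) := by
    intro p hpU hpV
    have htp : t ∉ p.asIdeal := fun htp => hpU (PrimeSpectrum.ext (hmax p hpV htp))
    refine he p htp (dim_quotient_eq_one _ ht htp fun r hr hpr htr => ?_)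
    refine hmax ⟨r, hr⟩ (fun hrV => hpV ?_) htr
    exact ((PrimeSpectrum.le_iff_specializes p ⟨r, hr⟩).1 hpr).mem_open V.2 hrV
  obtain ⟨M, hM, ⟨φ⟩⟩ := exists_extension hVU hst M₀ hM₀
  exact ⟨M, hM, ⟨pullbackRestrictIso q V _ hPV M ≪≫
    (Scheme.Modules.pullback (q.resLE V _ hPV)).mapIso φ ≪≫ (pullbackRestrictIso q V _ hPV M₀).symm ≪≫ ψ⟩⟩

/-- `exists_lift_module`, for a given name of the punctured spectrum. -/
theorem exists_lift_module_of_eq (t : A) (ht : t ∈ IsLocalRing.maximalIdeal A) (hreg : IsSMulRegular A t)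
    [IsAdicComplete (Ideal.span {t}) A] [IsLocalRing (A ⧸ Ideal.span {t})]
    (hd : (4 : ℕ∞) ≤ LocCoh.depth (A ⧸ Ideal.span {t}) (A ⧸ Ideal.span {t}))
    (he : ∀ p : PrimeSpectrum A, t ∉ p.asIdeal → ringKrullDim (A ⧸ p.asIdeal) = 1 →
      ParaF.IsParafactorialLocalRing (Localization.AtPrime p.asIdeal))
    (P : (Spec (CommRingCat.of (A ⧸ Ideal.span {t}))).Opens) (hP : P = FEt.puncturedSpec (A ⧸ Ideal.span {t}))
    (M' : (Spec (CommRingCat.of (A ⧸ Ideal.span {t}))).Modules) (hM' : PicF.IsInvertible (M'.restrict P.ι)) :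
    ∃ M : (Spec (CommRingCat.of A)).Modules, PicF.IsInvertible (M.restrict (FEt.puncturedSpec A).ι) ∧
      Nonempty (((Scheme.Modules.pullback
          (Spec.map (CommRingCat.ofHom (Ideal.Quotient.mk (Ideal.span {t}))))).obj M).restrict P.ι ≅
        M'.restrict P.ι) := by
  subst hP
  exact exists_lift_module t ht hreg hd he M' hM'

/-- If the punctured spectrum of `A` has trivial Picard group, so has that of `A/t`. -/
theorem picTrivial_quotient (t : A) (ht : t ∈ IsLocalRing.maximalIdeal A) (hreg : IsSMulRegular A t)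
    [IsAdicComplete (Ideal.span {t}) A] [IsLocalRing (A ⧸ Ideal.span {t})]
    (hd : (4 : ℕ∞) ≤ LocCoh.depth (A ⧸ Ideal.span {t}) (A ⧸ Ideal.span {t}))
    (he : ∀ p : PrimeSpectrum A, t ∉ p.asIdeal → ringKrullDim (A ⧸ p.asIdeal) = 1 →
      ParaF.IsParafactorialLocalRing (Localization.AtPrime p.asIdeal))
    (hA : ParaF.PicTrivial (FEt.puncturedSpec A : Scheme.{u})) :
    ParaF.PicTrivial (FEt.puncturedSpec (A ⧸ Ideal.span {t}) : Scheme.{u}) := by
  intro L hL
  let π := Ideal.Quotient.mk (Ideal.span {t})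
  let q := Spec.map (CommRingCat.ofHom π)
  let P := FEt.puncturedSpec (A ⧸ Ideal.span {t})
  let M' := (Scheme.Modules.pushforward P.ι).obj L
  obtain ⟨M, hM, ⟨φ⟩⟩ := exists_lift_module t ht hreg hd he M'
    (PicCl.isInvertible_of_iso (restrictPushforwardIso P.ι L).symm hL)
  obtain ⟨σ, hσ⟩ := exists_isGen_of_picTrivial hA hM
  have hP : q ⁻¹ᵁ FEt.puncturedSpec A = P := preimage_punctured π Ideal.Quotient.mk_surjective
  obtain ⟨χ⟩ := nonempty_iso_of_isGen ((isGen_pb q hσ).restrict hP.ge)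
  exact ⟨(restrictPushforwardIso P.ι L).symm ≪≫ φ.symm ≪≫ χ⟩

end Groth.Agent.ParaFormal
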