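import Groth.Agent.ParaFormal.Surjective
import Groth.Agent.Depth.CM
import Groth.Agent.CMCat.Basic
import Groth.Agent.RegLoc.Completion
import Groth.Agent.RegLoc.CompleteTrans
import Groth.Agent.RegLoc.Homological
import Groth.Agent.Adic.Basic
import Groth.Agent.Catenary61.EssFinite
import Groth.Agent.ParaFLib.PicUFD
import Groth.Agent.S2821

/-!
Complete intersections of dimension at least four are parafactorial.
-/

set_option autoImplicit false
set_option maxHeartbeats 800000

noncomputable section

universe u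

open IsLocalRing RingTheory.Sequence AlgebraicGeometry
open scoped Pointwise

namespace Groth.Agent.ParaFormal.CI

/-- `A` is presented by a regular sequence of length `c` in `R`. -/
structure Pres {R A : Type u} [CommRing R] [IsRegularLocalRing R] [CommRing A] (π : R →+* A) (rs : List R)
    (c : ℕ) : Prop where
  surj : Function.Surjective π
  len : rs.length = c
  mem : ∀ r ∈ rs, r ∈ maximalIdeal R
  reg : IsWeaklyRegular R rs
  ker : RingHom.ker π = Ideal.ofList rs

variable {R A : Type u} [CommRing R] [IsRegularLocalRing R] [CommRing A]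

theorem exists_step {π : R →+* A} {rs : List R} {c : ℕ} (h : Pres π rs (c + 1)) [IsLocalRing A] :
    ∃ (init : List R) (t : R ⧸ Ideal.ofList init) (π' : R ⧸ Ideal.ofList init →+* A),
      Pres (Ideal.Quotient.mk (Ideal.ofList init)) init c ∧ IsLocalRing (R ⧸ Ideal.ofList init) ∧
      Function.Surjective π' ∧ RingHom.ker π' = Ideal.span {t} ∧ IsSMulRegular (R ⧸ Ideal.ofList init) t ∧
      ¬ IsUnit t := by
  obtain rfl | ⟨init, r, rfl⟩ := List.eq_nil_or_concat' rs
  · exact absurd h.len (by simp)
  let I := Ideal.ofList init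
  have hker : RingHom.ker π = I ⊔ Ideal.span {r} := by
    rw [h.ker, Ideal.ofList_append, Ideal.ofList_singleton]
  have hIker : I ≤ RingHom.ker π := hker ▸ le_sup_left
  let π' : R ⧸ I →+* A := Ideal.Quotient.lift I π fun a ha => hIker ha
  have hIm : I ≤ maximalIdeal R := Ideal.span_le.2 fun x hx => h.mem x (List.mem_append_left _ hx)
  haveI : Nontrivial (R ⧸ I) := Ideal.Quotient.nontrivial_iff.2 fun e =>
    (maximalIdeal.isMaximal R).ne_top (top_le_iff.1 (e ▸ hIm))
  obtain ⟨hreg, hlast⟩ := (isWeaklyRegular_append_iff R init [r]).1 h.reg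
  rw [isWeaklyRegular_cons_iff] at hlast
  have hlast' := (regMod_iff_isSMulRegular I r).2 hlast.1
  refine ⟨init, Ideal.Quotient.mk I r, π',
    ⟨Ideal.Quotient.mk_surjective, by simpa using h.len, fun x hx => h.mem x (List.mem_append_left _ hx),
      hreg, Ideal.mk_ker⟩,
    IsLocalRing.of_surjective' (Ideal.Quotient.mk I) Ideal.Quotient.mk_surjective,
    fun a => ?_, ?_, ?_, fun hu => ?_⟩
  · obtain ⟨x, rfl⟩ := h.surj a
    exact ⟨Ideal.Quotient.mk I x, rfl⟩
  · refine le_antisymm (fun x hx => ?_) ((Ideal.span_singleton_le_iff_mem _).2 ?_)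
    · obtain ⟨x, rfl⟩ := Ideal.Quotient.mk_surjective x
      have hx' : x ∈ RingHom.ker π := hx
      rw [hker] at hx'
      obtain ⟨a, ha, b, hb, rfl⟩ := Submodule.mem_sup.1 hx'
      obtain ⟨s, rfl⟩ := Ideal.mem_span_singleton'.1 hb
      rw [map_add, Ideal.Quotient.eq_zero_iff_mem.2 ha, zero_add, map_mul]
      exact Ideal.mul_mem_left _ _ (Ideal.mem_span_singleton_self _)
    · show π r = 0
      rw [← RingHom.mem_ker, hker]
      exact Ideal.mem_sup_right (Ideal.mem_span_singleton_self r)
  · intro a b hab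
    obtain ⟨a, rfl⟩ := Ideal.Quotient.mk_surjective a
    obtain ⟨b, rfl⟩ := Ideal.Quotient.mk_surjective b
    have hab' : Ideal.Quotient.mk I r * Ideal.Quotient.mk I a = Ideal.Quotient.mk I r * Ideal.Quotient.mk I b := hab
    rw [← map_mul, ← map_mul, Ideal.Quotient.eq, ← mul_sub] at hab'
    exact Ideal.Quotient.eq.2 (hlast' _ hab')
  · have h1 : IsUnit (π r) := hu.map π'
    have h2 : π r = 0 := by
      rw [← RingHom.mem_ker, hker]
      exact Ideal.mem_sup_right (Ideal.mem_span_singleton_self r)
    rw [h2] at h1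
    exact not_isUnit_zero h1

/-- Complete intersections are Cohen–Macaulay. -/
theorem isCohenMacaulay : ∀ (c : ℕ) {R A : Type u} [CommRing R] [IsRegularLocalRing R] [CommRing A]
    [IsLocalRing A] [IsNoetherianRing A] (π : R →+* A) (rs : List R), Pres π rs c →
      LocCoh.IsCohenMacaulayModule A A := by
  intro c
  induction c with
  | zero =>
    intro R A _ _ _ _ _ π rs h
    obtain rfl : rs = [] := List.eq_nil_of_length_eq_zero h.len
    have hker : RingHom.ker π = ⊥ := by rw [h.ker, Ideal.ofList_nil]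
    let e : R ≃+* A := RingEquiv.ofBijective π ⟨(RingHom.injective_iff_ker_eq_bot π).2 hker, h.surj⟩
    haveI : IsRegularLocalRing A := IsRegularLocalRing.of_ringEquiv e
    haveI := Depth.isCohenMacaulayLocalRing_of_isRegularLocalRing (R := A)
    exact Depth.isCohenMacaulayModule_self A
  | succ c ih =>
    intro R A _ _ _ _ _ π rs h
    obtain ⟨init, t, π', hp, hloc, hs, hker, hreg, ht⟩ := exists_step h
    haveI := hloc
    have hA' := ih _ init hp
    let A' := R ⧸ Ideal.ofList init
    letI : Algebra A' A := π'.toAlgebra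
    have hsa : Function.Surjective (algebraMap A' A) := hs
    haveI : Module.Finite A' A := Module.Finite.of_surjective (Algebra.linearMap A' A) hsa
    refine (Depth.isCohenMacaulayModule_iff_of_surjective (R := A') (S := A) (N := A) hsa).2 ?_
    have hkl : LinearMap.ker (Algebra.linearMap A' A) = t • (⊤ : Submodule (R ⧸ Ideal.ofList init) (R ⧸ Ideal.ofList init)) := by
      rw [← Submodule.ideal_span_singleton_smul, smul_eq_mul, Ideal.mul_top, ← hker]
      rfl
    let e : QuotSMulTop t A' ≃ₗ[A'] A :=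
      (Submodule.quotEquivOfEq _ _ hkl.symm) ≪≫ₗ
        LinearMap.quotKerEquivOfSurjective (Algebra.linearMap A' A) hsa
    haveI : Nontrivial (QuotSMulTop t A') := e.toEquiv.nontrivial
    exact (Depth.isCohenMacaulayModule_congr e).1
      ((Depth.isCohenMacaulayModule_quotSMulTop_iff ht hreg).2 hA')

theorem depth_eq_dim {π : R →+* A} {rs : List R} {c : ℕ} [IsLocalRing A] [IsNoetherianRing A]
    (h : Pres π rs c) : ((LocCoh.depth A A : ℕ∞) : WithBot ℕ∞) = ringKrullDim A := by
  rw [← Module.supportDim_self_eq_ringKrullDim]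
  exact (isCohenMacaulay c π rs h).symm

theorem le_depth {π : R →+* A} {rs : List R} {c n : ℕ} [IsLocalRing A] [IsNoetherianRing A]
    (h : Pres π rs c) (hn : (n : WithBot ℕ∞) ≤ ringKrullDim A) : (n : ℕ∞) ≤ LocCoh.depth A A := by
  rw [← depth_eq_dim h] at hn
  exact_mod_cast hn

/-- Localizations of presented rings are presented. -/
theorem exists_localization {π : R →+* A} {rs : List R} {c : ℕ} (h : Pres π rs c) (p : Ideal A) [p.IsPrime] :
    ∃ (R' : Type u) (_ : CommRing R') (_ : IsRegularLocalRing R') (π' : R' →+* Localization.AtPrime p)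
      (rs' : List R'), Pres π' rs' c := by
  let q := p.comap π
  haveI := RegLoc.Homological.isRegularLocalRing_localization q
  refine ⟨Localization.AtPrime q, inferInstance, inferInstance, Localization.localRingHom q p π rfl,
    rs.map (algebraMap R _), fun x => ?_, by simpa using h.len, fun r hr => ?_,
    IsWeaklyRegular.of_isLocalization _ q.primeCompl h.reg, ?_⟩
  · obtain ⟨⟨a, ⟨s, hs⟩⟩, rfl⟩ := IsLocalization.mk'_surjective p.primeCompl x
    obtain ⟨a, rfl⟩ := h.surj a
    obtain ⟨s, rfl⟩ := h.surj s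
    exact ⟨IsLocalization.mk' _ a (⟨s, hs⟩ : q.primeCompl), Localization.localRingHom_mk' ..⟩
  · obtain ⟨x, hx, rfl⟩ := List.mem_map.1 hr
    refine (IsLocalization.AtPrime.to_map_mem_maximal_iff (Localization.AtPrime q) q x).2 ?_
    show π x ∈ p
    rw [show π x = 0 from RingHom.mem_ker.1 (h.ker ▸ Ideal.subset_span hx)]
    exact p.zero_mem
  · rw [← Ideal.map_ofList, ← h.ker]
    refine le_antisymm (fun x hx => ?_) (Ideal.map_le_iff_le_comap.2 fun r hr => ?_)
    · obtain ⟨⟨a, s⟩, rfl⟩ := IsLocalization.mk'_surjective q.primeCompl x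
      rw [RingHom.mem_ker, Localization.localRingHom_mk', IsLocalization.mk'_eq_zero_iff] at hx
      obtain ⟨⟨m, hm⟩, hma⟩ := hx
      obtain ⟨m, rfl⟩ := h.surj m
      rw [IsLocalization.mk'_mem_map_algebraMap_iff q.primeCompl]
      exact ⟨m, hm, RingHom.mem_ker.2 (by rw [map_mul]; exact hma)⟩
    · rw [Ideal.mem_comap, RingHom.mem_ker, Localization.localRingHom_to_map, RingHom.mem_ker.1 hr, map_zero]

/-- A presented ring has a flat local extension with trivial closed fibre presented in a complete ring. -/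
theorem exists_completion {π : R →+* A} {rs : List R} {c : ℕ} [IsLocalRing A] [IsNoetherianRing A]
    (h : Pres π rs c) :
    ∃ (R' : Type u) (_ : CommRing R') (_ : IsRegularLocalRing R') (_ : IsAdicComplete (maximalIdeal R') R')
      (S : Type u) (_ : CommRing S) (_ : IsLocalRing S) (_ : IsNoetherianRing S) (π' : R' →+* S)
      (rs' : List R') (ψ : A →+* S), Pres π' rs' c ∧ ψ.Flat ∧ IsLocalHom ψ ∧
        (maximalIdeal A).map ψ = maximalIdeal S := by
  let R' := AdicCompletion (maximalIdeal R) R
  haveI : IsNoetherianRing R' := RegLoc.Completion.isNoetherianRing_adicCompletion' (maximalIdeal R)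
  haveI : IsRegularLocalRing R' := (RegLoc.Completion.isRegularLocalRing_completion_iff R).1 inferInstance
  haveI : IsAdicComplete (maximalIdeal R') R' := inferInstance
  have hmax : maximalIdeal R' = (maximalIdeal R).map (algebraMap R R') := AdicCompletion.maximalIdeal_eq_map
  let I := RingHom.ker π
  let J : Ideal R' := I.map (algebraMap R R')
  have hIm : I ≤ maximalIdeal R := IsLocalRing.le_maximalIdeal (RingHom.ker_ne_top π)
  have hJm : J ≤ maximalIdeal R' := hmax ▸ Ideal.map_mono hIm
  haveI : Nontrivial (R' ⧸ J) := Ideal.Quotient.nontrivial_iff.2 fun e =>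
    (maximalIdeal.isMaximal R').ne_top (top_le_iff.1 (e ▸ hJm))
  haveI : IsLocalRing (R' ⧸ J) := IsLocalRing.of_surjective' (Ideal.Quotient.mk J) Ideal.Quotient.mk_surjective
  letI : Algebra (R ⧸ I) (R' ⧸ J) := (Ideal.quotientMap J (algebraMap R R') Ideal.le_comap_map).toAlgebra
  haveI : IsScalarTower R (R ⧸ I) (R' ⧸ J) := IsScalarTower.of_algebraMap_eq fun x => rfl
  haveI hfl : Module.Flat (R ⧸ I) (R' ⧸ J) := Catenary61.flat_quotient I
  let e : R ⧸ I ≃+* A := RingHom.quotientKerEquivOfSurjective h.surj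
  let ψ : A →+* R' ⧸ J := (algebraMap (R ⧸ I) (R' ⧸ J)).comp e.symm.toRingHom
  have hψ : ψ.comp π = (Ideal.Quotient.mk J).comp (algebraMap R R') := RingHom.ext fun x => by
    have : e.symm (π x) = Ideal.Quotient.mk I x := e.injective (by rw [RingEquiv.apply_symm_apply]; rfl)
    simp only [ψ, RingHom.comp_apply, RingEquiv.toRingHom_eq_coe, RingEquiv.coe_toRingHom, this]
    rfl
  have hmap : (maximalIdeal A).map ψ = maximalIdeal (R' ⧸ J) := by
    rw [← IsLocalRing.map_maximalIdeal_of_surjective π h.surj, Ideal.map_map, hψ, ← Ideal.map_map, ← hmax,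
      IsLocalRing.map_maximalIdeal_of_surjective _ Ideal.Quotient.mk_surjective]
  refine ⟨R', inferInstance, inferInstance, inferInstance, R' ⧸ J, inferInstance, inferInstance, inferInstance,
    Ideal.Quotient.mk J, rs.map (algebraMap R R'), ψ,
    ⟨Ideal.Quotient.mk_surjective, by simpa using h.len, fun r hr => ?_, h.reg.of_flat,
      by rw [Ideal.mk_ker, ← Ideal.map_ofList, ← h.ker]⟩, ?_, ?_, hmap⟩
  · obtain ⟨x, hx, rfl⟩ := List.mem_map.1 hr
    rw [hmax]
    exact Ideal.mem_map_of_mem _ (h.mem x hx)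
  · exact RingHom.Flat.comp (RingHom.Flat.of_bijective e.symm.bijective) (RingHom.flat_algebraMap_iff.2 hfl)
  · exact ((IsLocalRing.local_hom_TFAE ψ).out 2 0).mp hmap.le

theorem parafactorial_of_regular (A : Type u) [CommRing A] [IsRegularLocalRing A]
    (hd : (2 : ℕ∞) ≤ LocCoh.depth A A) : ParaF.IsParafactorialLocalRing A := by
  obtain ⟨hdom, hufd⟩ := Groth.Agent.S2821.result A
  exact ParaFLib.parafactorial_iff.2
    ⟨ParaFLib.PicUFD.bijective_punctured A hd, ParaFLib.PicUFD.picTrivial_punctured A hufd⟩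

theorem four_le_of_add_eq {a b : WithBot ℕ∞} {h : ℕ∞} (e : b = (1 : WithBot ℕ∞) + (h : WithBot ℕ∞))
    (e' : a + 1 = b) (ha : 4 ≤ a) : (4 : WithBot ℕ∞) ≤ (h : WithBot ℕ∞) := by
  subst e'
  have h5 : ((5 : ℕ∞) : WithBot ℕ∞) ≤ ((1 + h : ℕ∞) : WithBot ℕ∞) := by
    push_cast
    rw [← e]
    exact le_trans (by norm_num : (5 : WithBot ℕ∞) ≤ 4 + 1) (add_le_add ha le_rfl)
  rw [WithBot.coe_le_coe] at h5
  refine (WithBot.coe_le_coe.2 (?_ : (4 : ℕ∞) ≤ h))
  induction h using ENat.recTopCoe with
  | top => exact le_top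
  | coe n =>
    norm_cast at h5 ⊢
    omega

/-- Complete intersections of dimension at least four are parafactorial. -/
theorem parafactorial : ∀ (c : ℕ) {R A : Type u} [CommRing R] [IsRegularLocalRing R] [CommRing A]
    [IsLocalRing A] [IsNoetherianRing A] (π : R →+* A) (rs : List R), Pres π rs c →
      (4 : WithBot ℕ∞) ≤ ringKrullDim A → ParaF.IsParafactorialLocalRing A := by
  intro c
  induction c with
  | zero =>
    intro R A _ _ _ _ _ π rs h hdim
    obtain rfl : rs = [] := List.eq_nil_of_length_eq_zero h.len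
    have hker : RingHom.ker π = ⊥ := by rw [h.ker, Ideal.ofList_nil]
    let e : R ≃+* A := RingEquiv.ofBijective π ⟨(RingHom.injective_iff_ker_eq_bot π).2 hker, h.surj⟩
    haveI : IsRegularLocalRing A := IsRegularLocalRing.of_ringEquiv e
    exact parafactorial_of_regular A (le_depth (n := 2) h (le_trans (by norm_num) hdim))
  | succ c ih =>
    intro R₀ A₀ _ _ _ _ _ π₀ rs₀ h₀ hdim₀
    -- pass to the completion
    obtain ⟨R, _, _, _, A, _, _, _, π, rs, ψ, h, hfl, hloc, hmax⟩ := exists_completion h₀
    letI := ψ.toAlgebra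
    haveI : IsLocalHom (algebraMap A₀ A) := hloc
    haveI : Module.Flat A₀ A := hfl
    have hfib : ringKrullDim (A ⧸ (maximalIdeal A₀).map (algebraMap A₀ A)) = 0 := by
      rw [show (maximalIdeal A₀).map (algebraMap A₀ A) = maximalIdeal A from hmax]
      letI := Ideal.Quotient.field (maximalIdeal A)
      exact ringKrullDim_eq_zero_of_field _
    refine Groth.Agent.S2865.result A₀ A hfib ?_
    have hdim : (4 : WithBot ℕ∞) ≤ ringKrullDim A := by
      rw [RegLoc.Completion.ringKrullDim_eq_of_flat_of_map_eq A₀ A hmax]; exact hdim₀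
    -- the previous step
    obtain ⟨init, t, π', hp, hlA', hs, hker, hreg, ht⟩ := exists_step h
    haveI := hlA'
    let A' := R ⧸ Ideal.ofList init
    haveI : IsAdicComplete (maximalIdeal A') A' := by
      have h1 : IsAdicComplete ((maximalIdeal R).map (Ideal.Quotient.mk (Ideal.ofList init))) A' := by
        rw [← Ideal.Quotient.algebraMap_eq]
        exact (IsAdicComplete.map_algebraMap_iff _ _).2 (Adic.isAdicComplete_of_finite _)
      rwa [IsLocalRing.map_maximalIdeal_of_surjective _ Ideal.Quotient.mk_surjective] at h1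
    haveI : IsAdicComplete (Ideal.span {t}) A' :=
      RegLoc.CompleteTrans.isAdicComplete_of_le ((Ideal.span_singleton_le_iff_mem (maximalIdeal A')).2 ht)
    let e : A ≃+* A' ⧸ Ideal.span {t} :=
      (RingHom.quotientKerEquivOfSurjective hs).symm.trans (Ideal.quotEquivOfEq hker)
    haveI : IsLocalRing (A' ⧸ Ideal.span {t}) := e.isLocalRing
    have hB : Pres (e.toRingHom.comp π) rs (c + 1) :=
      ⟨e.surjective.comp h.surj, h.len, h.mem, h.reg, by
        rw [← h.ker]; ext x; simp [RingHom.mem_ker]⟩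
    have hdimB : (4 : WithBot ℕ∞) ≤ ringKrullDim (A' ⧸ Ideal.span {t}) := by
      rw [← ringKrullDim_eq_of_ringEquiv e]; exact hdim
    have hdA' : ringKrullDim (A' ⧸ Ideal.span {t}) + 1 = ringKrullDim A' :=
      ringKrullDim_quotient_span_singleton_succ_eq_ringKrullDim hreg ht
    have hdA4 : (4 : WithBot ℕ∞) ≤ ringKrullDim A' := by
      rw [← hdA']; exact le_trans hdimB (le_add_of_nonneg_right (by norm_num))
    have hA' := ih _ init hp hdA4
    have hcm := isCohenMacaulay c _ init hp
    have he : ∀ p : PrimeSpectrum A', t ∉ p.asIdeal → ringKrullDim (A' ⧸ p.asIdeal) = 1 →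
        ParaF.IsParafactorialLocalRing (Localization.AtPrime p.asIdeal) := by
      intro p _ hp1
      obtain ⟨R', _, _, π'', rs', hpp⟩ := exists_localization hp p.asIdeal
      refine ih π'' rs' hpp ?_
      rw [IsLocalization.AtPrime.ringKrullDim_eq_height p.asIdeal]
      have h1 := CMCat.ringKrullDim_eq_quotient_add_height hcm (by rw [Module.support_of_algebra]; exact Set.eq_univ_iff_forall.2 fun q x hx => (show x = 0 from hx) ▸ q.asIdeal.zero_mem) p.asIdeal
      rw [hp1] at h1
      exact four_le_of_add_eq h1 hdA' hdimB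
    have hd : (4 : ℕ∞) ≤ LocCoh.depth (A' ⧸ Ideal.span {t}) (A' ⧸ Ideal.span {t}) := le_depth (n := 4) hB hdimB
    refine parafactorial_of_ringEquiv e ?_
    exact ParaFLib.parafactorial_iff.2
      ⟨ParaFLib.PicUFD.bijective_punctured _ (le_trans (by exact_mod_cast (by norm_num : (2 : ℕ) ≤ 4)) hd),
        picTrivial_quotient t ht hreg hd he (ParaFLib.parafactorial_iff.1 hA').2⟩

end Groth.Agent.ParaFormal.CI
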