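import Mathlib.RingTheory.Localization.Away.Basic
import Mathlib.RingTheory.Ideal.Operations
import Mathlib.RingTheory.Noetherian.Basic
import Mathlib.RingTheory.Localization.Ideal
import Mathlib.Tactic.LinearCombination
import Mathlib.Tactic.Ring

/-!
Elementary Čech cohomology of the open `⋃ D(f i)` of an affine scheme, modulo ideals, in degrees
`0` and `1`, from regular sequences in the radical of `(f i)`.
-/

set_option autoImplicit false

universe u

namespace Groth.Agent.ParaFormal

variable {A : Type u} [CommRing A]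

/-- The localization `A_b`. -/
abbrev Loc (b : A) : Type u := Localization.Away b

/-- The restriction map `A_a → A_b` for `a ∣ b`. -/
noncomputable def ρ {a b : A} (h : a ∣ b) : Loc a →+* Loc b :=
  IsLocalization.Away.lift (S := Loc a) a (g := algebraMap A (Loc b))
    (isUnit_of_dvd_unit (map_dvd _ h) (IsLocalization.Away.algebraMap_isUnit b))

@[simp]
theorem ρ_algebraMap {a b : A} (h : a ∣ b) (x : A) :
    ρ h (algebraMap A (Loc a) x) = algebraMap A (Loc b) x :=
  IsLocalization.Away.lift_eq _ _ x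

@[simp]
theorem ρ_ρ {a b c : A} (h : a ∣ b) (h' : b ∣ c) (x : Loc a) :
    ρ h' (ρ h x) = ρ (h.trans h') x :=
  RingHom.congr_fun (IsLocalization.ringHom_ext (Submonoid.powers a)
    (show ((ρ h').comp (ρ h)).comp (algebraMap A (Loc a)) = (ρ (h.trans h')).comp (algebraMap A (Loc a))
      from RingHom.ext fun y => by simp)) x

theorem ρ_self {a : A} (h : a ∣ a) (x : Loc a) : ρ h x = x :=
  RingHom.congr_fun (IsLocalization.ringHom_ext (Submonoid.powers a)
    (show (ρ h).comp (algebraMap A (Loc a)) = (RingHom.id _).comp (algebraMap A (Loc a))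
      from RingHom.ext fun y => by simp)) x

theorem exists_num {a : A} (x : Loc a) :
    ∃ (n : ℕ) (r : A), x * algebraMap A (Loc a) a ^ n = algebraMap A (Loc a) r :=
  IsLocalization.Away.surj a x

theorem isUnit_pow (a : A) (n : ℕ) : IsUnit (algebraMap A (Loc a) a ^ n) :=
  (IsLocalization.Away.algebraMap_isUnit a).pow n

theorem mem_map_iff {a : A} {I : Ideal A} {r : A} :
    algebraMap A (Loc a) r ∈ I.map (algebraMap A (Loc a)) ↔ ∃ n : ℕ, a ^ n * r ∈ I := by
  rw [IsLocalization.algebraMap_mem_map_algebraMap_iff (Submonoid.powers a)]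
  simp only [Submonoid.mem_powers_iff]
  constructor
  · rintro ⟨m, ⟨n, rfl⟩, h⟩
    exact ⟨n, h⟩
  · rintro ⟨n, h⟩
    exact ⟨a ^ n, ⟨n, rfl⟩, h⟩

theorem map_le_comap_ρ {a b : A} (h : a ∣ b) (I : Ideal A) :
    I.map (algebraMap A (Loc a)) ≤ (I.map (algebraMap A (Loc b))).comap (ρ h) :=
  Ideal.map_le_iff_le_comap.2 fun x hx => by
    rw [Ideal.mem_comap, Ideal.mem_comap, ρ_algebraMap]
    exact Ideal.mem_map_of_mem _ hx

theorem ρ_mem {a b : A} (h : a ∣ b) {I : Ideal A} {x : Loc a} (hx : x ∈ I.map (algebraMap A (Loc a))) :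
    ρ h x ∈ I.map (algebraMap A (Loc b)) := map_le_comap_ρ h I hx

/-- An element which vanishes modulo `I` after inverting `y` is killed modulo `I` by a power of `y`. -/
theorem pow_mul_mem_of_ρ_mem {a b y : A} (hb : b ∣ a * y) (h : a ∣ b) {I : Ideal A} {x : Loc a}
    (hx : ρ h x ∈ I.map (algebraMap A (Loc b))) :
    ∃ n : ℕ, algebraMap A (Loc a) y ^ n * x ∈ I.map (algebraMap A (Loc a)) := by
  obtain ⟨m, r, hr⟩ := exists_num x
  have h1 : algebraMap A (Loc b) r ∈ I.map (algebraMap A (Loc b)) := by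
    rw [← ρ_algebraMap h r, ← hr, map_mul]
    exact Ideal.mul_mem_right _ _ hx
  obtain ⟨n, hn⟩ := mem_map_iff.1 h1
  obtain ⟨c, hc⟩ := hb
  refine ⟨n, ((Ideal.unit_mul_mem_iff_mem _ (isUnit_pow a m))).1 ?_⟩
  rw [show algebraMap A (Loc a) a ^ m * (algebraMap A (Loc a) y ^ n * x) =
    algebraMap A (Loc a) y ^ n * (x * algebraMap A (Loc a) a ^ m) by ring, hr, ← map_pow, ← map_mul]
  refine mem_map_iff.2 ⟨n, ?_⟩
  rw [← mul_assoc, ← mul_pow, hc, mul_pow, mul_right_comm]
  exact Ideal.mul_mem_right _ _ hn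

/-- Elements of `A_b` with `b ∣ a * y` come from `A_a` after multiplying by a power of `y`. -/
theorem exists_ρ_eq {a b y : A} (hb : b ∣ a * y) (h : a ∣ b) (x : Loc b) :
    ∃ (n : ℕ) (d : Loc a), ρ h d = algebraMap A (Loc b) y ^ n * x := by
  obtain ⟨n, r, hr⟩ := exists_num x
  obtain ⟨c, hc⟩ := hb
  obtain ⟨w, hw⟩ := (isUnit_pow a n).exists_right_inv
  refine ⟨n, algebraMap A (Loc a) (c ^ n * r) * w, ?_⟩
  rw [map_mul, ρ_algebraMap, map_mul, map_pow, ← hr]
  have h2 : algebraMap A (Loc b) a ^ n * ρ h w = 1 := by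
    rw [← ρ_algebraMap h a, ← map_pow, ← map_mul, hw, map_one]
  have h3 : algebraMap A (Loc b) b ^ n * algebraMap A (Loc b) c ^ n =
      algebraMap A (Loc b) a ^ n * algebraMap A (Loc b) y ^ n := by
    rw [← mul_pow, ← mul_pow, ← map_mul, ← map_mul, hc]
  linear_combination (x * ρ h w) * h3 + (x * algebraMap A (Loc b) y ^ n) * h2

/-- `x` is a non-zero-divisor modulo `I`. -/
def RegMod (I : Ideal A) (x : A) : Prop := ∀ a, x * a ∈ I → a ∈ I

theorem RegMod.pow {I : Ideal A} {x : A} (h : RegMod I x) (n : ℕ) : RegMod I (x ^ n) := by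
  induction n with
  | zero => intro a ha; simpa using ha
  | succ n ih => exact fun a ha => h a (ih _ (by rwa [pow_succ, mul_assoc] at ha))

theorem RegMod.loc {I : Ideal A} {x : A} (h : RegMod I x) {b : A} {z : Loc b}
    (hz : algebraMap A (Loc b) x * z ∈ I.map (algebraMap A (Loc b))) :
    z ∈ I.map (algebraMap A (Loc b)) := by
  obtain ⟨n, r, hr⟩ := exists_num z
  have h1 : algebraMap A (Loc b) (x * r) ∈ I.map (algebraMap A (Loc b)) := by
    rw [map_mul, ← hr, ← mul_assoc]
    exact Ideal.mul_mem_right _ _ hz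
  obtain ⟨k, hk⟩ := mem_map_iff.1 h1
  refine ((Ideal.unit_mul_mem_iff_mem _ (isUnit_pow b n))).1 ?_
  rw [mul_comm, hr]
  exact mem_map_iff.2 ⟨k, h _ (by rwa [mul_left_comm])⟩

theorem pow_mem_span {ι : Type*} [Fintype ι] (f : ι → A) {x : A}
    (hx : x ∈ (Ideal.span (Set.range f)).radical) (N : ℕ) :
    ∃ K : ℕ, x ^ K ∈ Ideal.span (Set.range fun i => f i ^ N) := by
  have h : Ideal.span (Set.range f) ≤ (Ideal.span (Set.range fun i => f i ^ N)).radical := by
    rw [Ideal.span_le]
    rintro _ ⟨i, rfl⟩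
    exact ⟨N, Ideal.subset_span ⟨i, rfl⟩⟩
  exact Ideal.mem_radical_iff.1 ((Ideal.radical_mono h).trans (Ideal.radical_idem _).le hx)

variable {ι : Type*} (f : ι → A)

/-- Vanishing modulo `I` on all `D(f i)` implies vanishing modulo `I`. -/
def Sep (I : Ideal A) : Prop :=
  ∀ a : A, (∀ i, algebraMap A (Loc (f i)) a ∈ I.map (algebraMap A (Loc (f i)))) → a ∈ I

/-- Families on the `D(f i)` compatible modulo `I` come from `A`. -/
def Glue (I : Ideal A) : Prop :=
  ∀ d : ∀ i, Loc (f i),
    (∀ i j, ρ (dvd_mul_right (f i) (f j)) (d i) - ρ (dvd_mul_left (f j) (f i)) (d j) ∈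
      I.map (algebraMap A (Loc (f i * f j)))) →
    ∃ a : A, ∀ i, d i - algebraMap A (Loc (f i)) a ∈ I.map (algebraMap A (Loc (f i)))

/-- Čech `1`-cocycles modulo `I` are coboundaries. -/
def HOne (I : Ideal A) : Prop :=
  ∀ c : ∀ i j, Loc (f i * f j),
    (∀ i j k, ρ (dvd_mul_right (f i * f j) (f k)) (c i j) +
        ρ (show f j * f k ∣ f i * f j * f k from ⟨f i, by ring⟩) (c j k) -
        ρ (show f i * f k ∣ f i * f j * f k from ⟨f j, by ring⟩) (c i k) ∈
      I.map (algebraMap A (Loc (f i * f j * f k)))) →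
    ∃ d : ∀ i, Loc (f i), ∀ i j,
      c i j - (ρ (dvd_mul_right (f i) (f j)) (d i) - ρ (dvd_mul_left (f j) (f i)) (d j)) ∈
        I.map (algebraMap A (Loc (f i * f j)))

variable [Fintype ι] {f}

theorem sep_of_regMod {I : Ideal A} {x : A} (hx : x ∈ (Ideal.span (Set.range f)).radical)
    (h : RegMod I x) : Sep f I := by
  intro a ha
  choose n hn using fun i => mem_map_iff.1 (ha i)
  obtain ⟨K, hK⟩ := pow_mem_span f hx (Finset.univ.sup n)
  refine h.pow K a ?_
  have : Ideal.span (Set.range fun i => f i ^ Finset.univ.sup n) ≤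
      Submodule.comap (LinearMap.mulRight A a) I := by
    rw [Ideal.span_le]
    rintro _ ⟨i, rfl⟩
    show f i ^ _ * a ∈ I
    rw [← Nat.sub_add_cancel (Finset.le_sup (f := n) (Finset.mem_univ i)), pow_add, mul_assoc]
    exact Ideal.mul_mem_left _ _ (hn i)
  exact this hK

theorem glue_of_regMod {I : Ideal A} {x y : A} (hxr : x ∈ (Ideal.span (Set.range f)).radical)
    (hyr : y ∈ (Ideal.span (Set.range f)).radical) (hx : RegMod I x)
    (hy : RegMod (I ⊔ Ideal.span {x}) y) : Glue f I := by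
  intro d hd
  classical
  -- for each k a multiple of d by a power of f k comes from A
  have hk : ∀ k, ∃ (N : ℕ) (a : A), ∀ i,
      algebraMap A (Loc (f i)) (f k) ^ N * d i - algebraMap A (Loc (f i)) a ∈
        I.map (algebraMap A (Loc (f i))) := by
    intro k
    obtain ⟨N, a, ha⟩ := exists_num (d k)
    have : ∀ i, ∃ M, algebraMap A (Loc (f i)) (f k) ^ M *
        (algebraMap A (Loc (f i)) (f k) ^ N * d i - algebraMap A (Loc (f i)) a) ∈
          I.map (algebraMap A (Loc (f i))) := by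
      intro i
      refine pow_mul_mem_of_ρ_mem (dvd_refl _) (dvd_mul_right (f i) (f k)) ?_
      have h1 : ρ (dvd_mul_left (f k) (f i)) (d k) * algebraMap A (Loc (f i * f k)) (f k) ^ N =
          algebraMap A (Loc (f i * f k)) a := by
        rw [← ρ_algebraMap (dvd_mul_left (f k) (f i)) a, ← ha, map_mul, map_pow, ρ_algebraMap]
      rw [map_sub, map_mul, map_pow, ρ_algebraMap, ρ_algebraMap, ← h1,
        mul_comm (ρ (dvd_mul_left (f k) (f i)) (d k)), ← mul_sub]
      exact Ideal.mul_mem_left _ _ (hd i k)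
    choose M hM using this
    refine ⟨N + Finset.univ.sup M, f k ^ Finset.univ.sup M * a, fun i => ?_⟩
    obtain ⟨e, he⟩ : ∃ e, Finset.univ.sup M = M i + e :=
      ⟨_, (Nat.add_sub_cancel' (Finset.le_sup (f := M) (Finset.mem_univ i))).symm⟩
    rw [map_mul, map_pow, he,
      show algebraMap A (Loc (f i)) (f k) ^ (N + (M i + e)) * d i -
        algebraMap A (Loc (f i)) (f k) ^ (M i + e) * algebraMap A (Loc (f i)) a =
        algebraMap A (Loc (f i)) (f k) ^ e * (algebraMap A (Loc (f i)) (f k) ^ M i *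
          (algebraMap A (Loc (f i)) (f k) ^ N * d i - algebraMap A (Loc (f i)) a)) by ring]
    exact Ideal.mul_mem_left _ _ (hM i)
  choose N a ha using hk
  obtain ⟨K, hK⟩ := pow_mem_span f hxr (Finset.univ.sup N)
  -- the set of multipliers bringing d into A
  let S : Ideal A :=
    { carrier := {r | ∃ b : A, ∀ i, algebraMap A (Loc (f i)) r * d i - algebraMap A (Loc (f i)) b ∈
        I.map (algebraMap A (Loc (f i)))}
      add_mem' := fun {r r'} ⟨b, hb⟩ ⟨b', hb'⟩ => ⟨b + b', fun i => by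
        have := add_mem (hb i) (hb' i)
        rwa [map_add, map_add, add_mul, add_sub_add_comm]⟩
      zero_mem' := ⟨0, fun i => by simp⟩
      smul_mem' := fun t r ⟨b, hb⟩ => ⟨t * b, fun i => by
        rw [smul_eq_mul, map_mul, map_mul, mul_assoc, ← mul_sub]
        exact Ideal.mul_mem_left _ _ (hb i)⟩ }
  have hS : x ^ K ∈ S := by
    refine Ideal.span_le.2 ?_ hK
    rintro _ ⟨k, rfl⟩
    show f k ^ Finset.univ.sup N ∈ S
    rw [← Nat.sub_add_cancel (Finset.le_sup (f := N) (Finset.mem_univ k)), pow_add]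
    exact Ideal.mul_mem_left _ _ ⟨a k, fun i => by rw [map_pow]; exact ha k i⟩
  have hdiv : ∀ K : ℕ, x ^ K ∈ S → (1 : A) ∈ S := by
    intro K
    induction K with
    | zero => simp
    | succ K ih =>
      rintro ⟨b, hb⟩
      have hbx : b ∈ I ⊔ Ideal.span {x} := by
        refine sep_of_regMod hyr hy b fun i => ?_
        rw [show algebraMap A (Loc (f i)) b = algebraMap A (Loc (f i)) (x ^ (K + 1)) * d i -
          (algebraMap A (Loc (f i)) (x ^ (K + 1)) * d i - algebraMap A (Loc (f i)) b) by ring]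
        refine Ideal.sub_mem _ (Ideal.mul_mem_right _ _ (Ideal.mem_map_of_mem _ ?_))
          (Ideal.map_mono le_sup_left (hb i))
        exact Ideal.mem_sup_right (Ideal.mem_span_singleton'.2 ⟨x ^ K, (pow_succ x K).symm⟩)
      obtain ⟨u, hu, v, hv, huv⟩ := Submodule.mem_sup.1 hbx
      obtain ⟨w, rfl⟩ := Ideal.mem_span_singleton'.1 hv
      refine ih ⟨w, fun i => hx.loc ?_⟩
      rw [mul_sub, ← mul_assoc, ← map_mul, ← pow_succ']
      have h1 := hb i
      rw [← huv, map_add, map_mul] at h1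
      have h2 := add_mem h1 (Ideal.mem_map_of_mem (algebraMap A (Loc (f i))) hu)
      rw [show algebraMap A (Loc (f i)) (x ^ (K + 1)) * d i -
        algebraMap A (Loc (f i)) x * algebraMap A (Loc (f i)) w =
          algebraMap A (Loc (f i)) (x ^ (K + 1)) * d i -
          (algebraMap A (Loc (f i)) u + algebraMap A (Loc (f i)) w * algebraMap A (Loc (f i)) x) +
            algebraMap A (Loc (f i)) u by ring]
      exact h2
  obtain ⟨b, hb⟩ := hdiv K hS
  exact ⟨b, fun i => by simpa using hb i⟩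

theorem hOne_of_regMod {I : Ideal A} {x y z : A} (hxr : x ∈ (Ideal.span (Set.range f)).radical)
    (hyr : y ∈ (Ideal.span (Set.range f)).radical) (hzr : z ∈ (Ideal.span (Set.range f)).radical)
    (hx : RegMod I x) (hy : RegMod (I ⊔ Ideal.span {x}) y)
    (hz : RegMod (I ⊔ Ideal.span {x} ⊔ Ideal.span {y}) z) : HOne f I := by
  intro c hc
  classical
  let S : Ideal A :=
    { carrier := {r | ∃ d : ∀ i, Loc (f i), ∀ i j, algebraMap A (Loc (f i * f j)) r * c i j -
        (ρ (dvd_mul_right (f i) (f j)) (d i) - ρ (dvd_mul_left (f j) (f i)) (d j)) ∈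
          I.map (algebraMap A (Loc (f i * f j)))}
      add_mem' := fun {r r'} ⟨d, hd⟩ ⟨d', hd'⟩ => ⟨d + d', fun i j => by
        have := add_mem (hd i j) (hd' i j)
        simp only [Pi.add_apply, map_add, add_mul]
        convert this using 1
        ring⟩
      zero_mem' := ⟨0, fun i j => by simp⟩
      smul_mem' := fun t r ⟨d, hd⟩ => ⟨fun i => algebraMap A (Loc (f i)) t * d i, fun i j => by
        simp only [smul_eq_mul, map_mul, ρ_algebraMap]
        rw [mul_assoc, ← mul_sub, ← mul_sub]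
        exact Ideal.mul_mem_left _ _ (hd i j)⟩ }
  have hk : ∀ k, ∃ N, f k ^ N ∈ S := by
    intro k
    choose n d hd using fun i => exists_ρ_eq (dvd_refl _) (dvd_mul_right (f i) (f k)) (c i k)
    let N := Finset.univ.sup n
    let d' : ∀ i, Loc (f i) := fun i => algebraMap A (Loc (f i)) (f k) ^ (N - n i) * d i
    have hd' : ∀ i, ρ (dvd_mul_right (f i) (f k)) (d' i) =
        algebraMap A (Loc (f i * f k)) (f k) ^ N * c i k := fun i => by
      simp only [d', map_mul, map_pow, ρ_algebraMap, hd, ← mul_assoc, ← pow_add,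
        Nat.sub_add_cancel (Finset.le_sup (f := n) (Finset.mem_univ i)), N]
    have : ∀ i j, ∃ M, algebraMap A (Loc (f i * f j)) (f k) ^ M *
        (algebraMap A (Loc (f i * f j)) (f k ^ N) * c i j -
          (ρ (dvd_mul_right (f i) (f j)) (d' i) - ρ (dvd_mul_left (f j) (f i)) (d' j))) ∈
        I.map (algebraMap A (Loc (f i * f j))) := by
      intro i j
      refine pow_mul_mem_of_ρ_mem (dvd_refl _) (dvd_mul_right (f i * f j) (f k)) ?_
      have e1 := congrArg (ρ (show f i * f k ∣ f i * f j * f k from ⟨f j, by ring⟩)) (hd' i)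
      have e2 := congrArg (ρ (show f j * f k ∣ f i * f j * f k from ⟨f i, by ring⟩)) (hd' j)
      simp only [map_mul, map_pow, ρ_algebraMap, ρ_ρ] at e1 e2
      simp only [map_sub, map_mul, map_pow, ρ_algebraMap, ρ_ρ]
      rw [e1, e2, ← mul_sub, ← mul_sub]
      refine Ideal.mul_mem_left _ _ ?_
      convert hc i j k using 1
      ring
    choose M hM using this
    refine ⟨Finset.univ.sup (fun p : ι × ι => M p.1 p.2) + N,
      fun i => algebraMap A (Loc (f i)) (f k) ^ Finset.univ.sup (fun p : ι × ι => M p.1 p.2) * d' i,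
      fun i j => ?_⟩
    obtain ⟨e, he⟩ : ∃ e, Finset.univ.sup (fun p : ι × ι => M p.1 p.2) = M i j + e :=
      ⟨_, (Nat.add_sub_cancel' (Finset.le_sup (f := fun p : ι × ι => M p.1 p.2)
        (Finset.mem_univ (i, j)))).symm⟩
    simp only [map_pow, map_mul, ρ_algebraMap, he, pow_add]
    have := Ideal.mul_mem_left _ (algebraMap A (Loc (f i * f j)) (f k) ^ e) (hM i j)
    convert this using 1
    simp only [map_pow]
    ring
  choose N hN using hk
  obtain ⟨K, hK⟩ := pow_mem_span f hxr (Finset.univ.sup N)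
  have hS : x ^ K ∈ S := by
    refine Ideal.span_le.2 ?_ hK
    rintro _ ⟨k, rfl⟩
    show f k ^ Finset.univ.sup N ∈ S
    rw [← Nat.sub_add_cancel (Finset.le_sup (f := N) (Finset.mem_univ k)), pow_add]
    exact Ideal.mul_mem_left _ _ (hN k)
  have hglue : Glue f (I ⊔ Ideal.span {x}) := glue_of_regMod hyr hzr hy hz
  have hdiv : ∀ K : ℕ, x ^ K ∈ S → (1 : A) ∈ S := by
    intro K
    induction K with
    | zero => simp
    | succ K ih =>
      rintro ⟨d, hd⟩
      have hxm : ∀ b : A, algebraMap A (Loc b) (x ^ (K + 1)) ∈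
          (I ⊔ Ideal.span {x}).map (algebraMap A (Loc b)) := fun b => Ideal.mem_map_of_mem _
        (Ideal.mem_sup_right (Ideal.mem_span_singleton'.2 ⟨x ^ K, (pow_succ x K).symm⟩))
      obtain ⟨a, ha⟩ := hglue d fun i j => by
        rw [show ρ (dvd_mul_right (f i) (f j)) (d i) - ρ (dvd_mul_left (f j) (f i)) (d j) =
          algebraMap A (Loc (f i * f j)) (x ^ (K + 1)) * c i j -
          (algebraMap A (Loc (f i * f j)) (x ^ (K + 1)) * c i j -
            (ρ (dvd_mul_right (f i) (f j)) (d i) - ρ (dvd_mul_left (f j) (f i)) (d j))) by ring]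
        exact Ideal.sub_mem _ (Ideal.mul_mem_right _ _ (hxm _))
          (Ideal.map_mono le_sup_left (hd i j))
      -- divide by x
      have : ∀ i, ∃ e : Loc (f i), d i - algebraMap A (Loc (f i)) a - algebraMap A (Loc (f i)) x * e ∈
          I.map (algebraMap A (Loc (f i))) := fun i => by
        have h1 := ha i
        rw [Ideal.map_sup, Ideal.map_span, Set.image_singleton] at h1
        obtain ⟨u, hu, v, hv, huv⟩ := Submodule.mem_sup.1 h1
        obtain ⟨e, rfl⟩ := Ideal.mem_span_singleton'.1 hv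
        refine ⟨e, ?_⟩
        rw [← huv, show u + e * algebraMap A (Loc (f i)) x - algebraMap A (Loc (f i)) x * e = u by ring]
        exact hu
      choose e he using this
      refine ih ⟨e, fun i j => hx.loc ?_⟩
      have h1 := ρ_mem (dvd_mul_right (f i) (f j)) (he i)
      have h2 := ρ_mem (dvd_mul_left (f j) (f i)) (he j)
      simp only [map_sub, map_mul, ρ_algebraMap] at h1 h2
      have h3 := add_mem (hd i j) (Ideal.sub_mem _ h1 h2)
      convert h3 using 1
      simp only [map_pow, map_mul, pow_succ]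
      ring
  obtain ⟨d, hd⟩ := hdiv K hS
  exact ⟨d, fun i j => by simpa using hd i j⟩

end Groth.Agent.ParaFormal
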