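import Groth.Agent.ParaFormal.DepthSeq

/-!
Second Čech cohomology vanishes modulo ideals with regular sequences of length four.
-/

set_option autoImplicit false

universe u

open IsLocalRing

namespace Groth.Agent.ParaFormal

variable {A : Type u} [CommRing A]

/-- Depth at least four gives a regular sequence of length four modulo `J`. -/
theorem exists_regMod_quad [IsLocalRing A] [IsNoetherianRing A] (J : Ideal A) [IsLocalRing (A ⧸ J)]
    (h : (4 : ℕ∞) ≤ LocCoh.depth (A ⧸ J) (A ⧸ J)) :
    ∃ x y z w : A, x ∈ maximalIdeal A ∧ y ∈ maximalIdeal A ∧ z ∈ maximalIdeal A ∧ w ∈ maximalIdeal A ∧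
      RegMod J x ∧ RegMod (J ⊔ Ideal.span {x}) y ∧ RegMod (J ⊔ Ideal.span {x} ⊔ Ideal.span {y}) z ∧
      RegMod (J ⊔ Ideal.span {x} ⊔ Ideal.span {y} ⊔ Ideal.span {z}) w := by
  haveI : IsNoetherianRing (A ⧸ J) :=
    isNoetherianRing_of_surjective A _ (Ideal.Quotient.mk J) Ideal.Quotient.mk_surjective
  have hne : maximalIdeal (A ⧸ J) • (⊤ : Submodule (A ⧸ J) (A ⧸ J)) ≠ ⊤ := by
    rw [smul_eq_mul, Ideal.mul_top]
    exact (maximalIdeal.isMaximal _).ne_top
  obtain ⟨rs, hrs, hmem, hlen⟩ := Depth.exists_isWeaklyRegular_of_le_idealDepth (n := 4) hne h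
  obtain ⟨a, rs', rfl⟩ := List.exists_cons_of_length_pos (by omega : 0 < rs.length)
  obtain ⟨b, c, d, rfl⟩ : ∃ b c d, rs' = [b, c, d] := List.length_eq_three.1 (by simpa using hlen)
  obtain ⟨x, rfl⟩ := Ideal.Quotient.mk_surjective a
  obtain ⟨y, rfl⟩ := Ideal.Quotient.mk_surjective b
  obtain ⟨z, rfl⟩ := Ideal.Quotient.mk_surjective c
  obtain ⟨w, rfl⟩ := Ideal.Quotient.mk_surjective d
  let π := Ideal.Quotient.mk J
  have hm : ∀ v : A, π v ∈ maximalIdeal (A ⧸ J) → v ∈ maximalIdeal A := fun v hv hu => hv (hu.map _)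
  have hcomap : ∀ L : List A, (Ideal.ofList (L.map π)).comap π = J ⊔ Ideal.ofList L := by
    intro L
    rw [← Ideal.map_ofList, Ideal.comap_map_of_surjective _ Ideal.Quotient.mk_surjective, sup_comm,
      ← RingHom.ker_eq_comap_bot, Ideal.mk_ker]
  have key : ∀ (L : List A) (v : A), RegMod (Ideal.ofList (L.map π)) (π v) → RegMod (J ⊔ Ideal.ofList L) v :=
    fun L v hv => hcomap L ▸ RegMod.comap π hv
  have h0 := key [] x ((regMod_iff_isSMulRegular (Ideal.ofList []) _).2 (hrs.regular_mod_prev 0 (by simp)))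
  have h1 := key [x] y ((regMod_iff_isSMulRegular (Ideal.ofList [π x]) _).2
    (hrs.regular_mod_prev 1 (by simp)))
  have h2 := key [x, y] z ((regMod_iff_isSMulRegular (Ideal.ofList [π x, π y]) _).2
    (hrs.regular_mod_prev 2 (by simp)))
  have h3 := key [x, y, z] w ((regMod_iff_isSMulRegular (Ideal.ofList [π x, π y, π z]) _).2
    (hrs.regular_mod_prev 3 (by simp)))
  exact ⟨x, y, z, w, hm x (hmem _ (by simp [π])), hm y (hmem _ (by simp [π])), hm z (hmem _ (by simp [π])),
    hm w (hmem _ (by simp [π])), by simpa using h0,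
    by simpa [Ideal.ofList_cons, Ideal.ofList_nil] using h1,
    by simpa [Ideal.ofList_cons, Ideal.ofList_nil, sup_assoc] using h2,
    by simpa [Ideal.ofList_cons, Ideal.ofList_nil, sup_assoc] using h3⟩

variable {ι : Type*} (f : ι → A)

/-- Čech `2`-cocycles modulo `I` are coboundaries. -/
def HTwo (I : Ideal A) : Prop :=
  ∀ c : ∀ i j k, Loc (f i * f j * f k),
    (∀ i j k l, ρ (show f j * f k * f l ∣ f i * f j * f k * f l from ⟨f i, by ring⟩) (c j k l) -
        ρ (show f i * f k * f l ∣ f i * f j * f k * f l from ⟨f j, by ring⟩) (c i k l) +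
        ρ (show f i * f j * f l ∣ f i * f j * f k * f l from ⟨f k, by ring⟩) (c i j l) -
        ρ (dvd_mul_right (f i * f j * f k) (f l)) (c i j k) ∈
      I.map (algebraMap A (Loc (f i * f j * f k * f l)))) →
    ∃ d : ∀ i j, Loc (f i * f j), ∀ i j k,
      c i j k - (ρ (dvd_mul_right (f i * f j) (f k)) (d i j) +
          ρ (show f j * f k ∣ f i * f j * f k from ⟨f i, by ring⟩) (d j k) -
          ρ (show f i * f k ∣ f i * f j * f k from ⟨f j, by ring⟩) (d i k)) ∈
        I.map (algebraMap A (Loc (f i * f j * f k)))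

variable [Fintype ι] {f}

theorem hTwo_of_regMod {I : Ideal A} {x y z w : A} (hxr : x ∈ (Ideal.span (Set.range f)).radical)
    (hyr : y ∈ (Ideal.span (Set.range f)).radical) (hzr : z ∈ (Ideal.span (Set.range f)).radical)
    (hwr : w ∈ (Ideal.span (Set.range f)).radical)
    (hx : RegMod I x) (hy : RegMod (I ⊔ Ideal.span {x}) y)
    (hz : RegMod (I ⊔ Ideal.span {x} ⊔ Ideal.span {y}) z)
    (hw : RegMod (I ⊔ Ideal.span {x} ⊔ Ideal.span {y} ⊔ Ideal.span {z}) w) : HTwo f I := by
  intro c hc
  classical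
  let S : Ideal A :=
    { carrier := {r | ∃ d : ∀ i j, Loc (f i * f j), ∀ i j k,
        algebraMap A (Loc (f i * f j * f k)) r * c i j k -
          (ρ (dvd_mul_right (f i * f j) (f k)) (d i j) +
          ρ (show f j * f k ∣ f i * f j * f k from ⟨f i, by ring⟩) (d j k) -
          ρ (show f i * f k ∣ f i * f j * f k from ⟨f j, by ring⟩) (d i k)) ∈
        I.map (algebraMap A (Loc (f i * f j * f k)))}
      add_mem' := fun {r r'} ⟨d, hd⟩ ⟨d', hd'⟩ => ⟨d + d', fun i j k => by
        have := add_mem (hd i j k) (hd' i j k)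
        simp only [Pi.add_apply, map_add, add_mul]
        convert this using 1
        ring⟩
      zero_mem' := ⟨0, fun i j k => by simp⟩
      smul_mem' := fun t r ⟨d, hd⟩ => ⟨fun i j => algebraMap A (Loc (f i * f j)) t * d i j, fun i j k => by
        simp only [smul_eq_mul, map_mul, ρ_algebraMap]
        have h1 := Ideal.mul_mem_left _ (algebraMap A (Loc (f i * f j * f k)) t) (hd i j k)
        convert h1 using 1
        ring⟩ }
  have hk : ∀ l, ∃ N, f l ^ N ∈ S := by
    intro l
    choose n d hd using fun i j => exists_ρ_eq (dvd_refl _) (dvd_mul_right (f i * f j) (f l)) (c i j l)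
    let N := Finset.univ.sup fun p : ι × ι => n p.1 p.2
    let d' : ∀ i j, Loc (f i * f j) := fun i j => algebraMap A (Loc (f i * f j)) (f l) ^ (N - n i j) * d i j
    have hd' : ∀ i j, ρ (dvd_mul_right (f i * f j) (f l)) (d' i j) =
        algebraMap A (Loc (f i * f j * f l)) (f l) ^ N * c i j l := fun i j => by
      have hle : n i j ≤ N := Finset.le_sup (f := fun p : ι × ι => n p.1 p.2) (Finset.mem_univ (i, j))
      simp only [d', map_mul, map_pow, ρ_algebraMap, hd, ← mul_assoc, ← pow_add,
        Nat.sub_add_cancel hle]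
    have : ∀ i j k, ∃ M, algebraMap A (Loc (f i * f j * f k)) (f l) ^ M *
        (algebraMap A (Loc (f i * f j * f k)) (f l ^ N) * c i j k -
          (ρ (dvd_mul_right (f i * f j) (f k)) (d' i j) +
          ρ (show f j * f k ∣ f i * f j * f k from ⟨f i, by ring⟩) (d' j k) -
          ρ (show f i * f k ∣ f i * f j * f k from ⟨f j, by ring⟩) (d' i k))) ∈
        I.map (algebraMap A (Loc (f i * f j * f k))) := by
      intro i j k
      refine pow_mul_mem_of_ρ_mem (dvd_refl _) (dvd_mul_right (f i * f j * f k) (f l)) ?_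
      have e1 := congrArg (ρ (show f i * f j * f l ∣ f i * f j * f k * f l from ⟨f k, by ring⟩)) (hd' i j)
      have e2 := congrArg (ρ (show f j * f k * f l ∣ f i * f j * f k * f l from ⟨f i, by ring⟩)) (hd' j k)
      have e3 := congrArg (ρ (show f i * f k * f l ∣ f i * f j * f k * f l from ⟨f j, by ring⟩)) (hd' i k)
      simp only [map_mul, map_pow, ρ_algebraMap, ρ_ρ] at e1 e2 e3
      simp only [map_sub, map_add, map_mul, map_pow, ρ_algebraMap, ρ_ρ]
      rw [e1, e2, e3, ← mul_add, ← mul_sub, ← mul_sub]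
      refine Ideal.mul_mem_left _ _ ?_
      have := Submodule.neg_mem _ (hc i j k l)
      convert this using 1
      ring
    choose M hM using this
    let Mx := Finset.univ.sup fun p : ι × ι × ι => M p.1 p.2.1 p.2.2
    refine ⟨Mx + N, fun i j => algebraMap A (Loc (f i * f j)) (f l) ^ Mx * d' i j, fun i j k => ?_⟩
    obtain ⟨e, he⟩ : ∃ e, Mx = M i j k + e :=
      ⟨_, (Nat.add_sub_cancel' (Finset.le_sup (f := fun p : ι × ι × ι => M p.1 p.2.1 p.2.2)
        (Finset.mem_univ (i, j, k)))).symm⟩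
    simp only [map_pow, map_mul, ρ_algebraMap, he, pow_add]
    have := Ideal.mul_mem_left _ (algebraMap A (Loc (f i * f j * f k)) (f l) ^ e) (hM i j k)
    convert this using 1
    simp only [map_pow]
    ring
  choose N hN using hk
  obtain ⟨K, hK⟩ := pow_mem_span f hxr (Finset.univ.sup N)
  have hS : x ^ K ∈ S := by
    refine Ideal.span_le.2 ?_ hK
    rintro _ ⟨k, rfl⟩
    show f k ^ Finset.univ.sup N ∈ S
    rw [← Nat.sub_add_cancel (Finset.le_sup (f := N) (Finset.mem_univ k)), pow_add]
    exact Ideal.mul_mem_left _ _ (hN k)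
  have hH : HOne f (I ⊔ Ideal.span {x}) := hOne_of_regMod hyr hzr hwr hy hz hw
  have hdiv : ∀ K : ℕ, x ^ K ∈ S → (1 : A) ∈ S := by
    intro K
    induction K with
    | zero => simp
    | succ K ih =>
      rintro ⟨d, hd⟩
      have hxm : ∀ b : A, algebraMap A (Loc b) (x ^ (K + 1)) ∈
          (I ⊔ Ideal.span {x}).map (algebraMap A (Loc b)) := fun b => Ideal.mem_map_of_mem _
        (Ideal.mem_sup_right (Ideal.mem_span_singleton'.2 ⟨x ^ K, (pow_succ x K).symm⟩))
      obtain ⟨a, ha⟩ := hH d fun i j k => by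
        have h1 := Ideal.sub_mem _ (Ideal.mul_mem_right (c i j k) _ (hxm (f i * f j * f k)))
          (Ideal.map_mono le_sup_left (hd i j k))
        convert h1 using 1
        ring
      have : ∀ i j, ∃ e : Loc (f i * f j), d i j -
          (ρ (dvd_mul_right (f i) (f j)) (a i) - ρ (dvd_mul_left (f j) (f i)) (a j)) -
          algebraMap A (Loc (f i * f j)) x * e ∈ I.map (algebraMap A (Loc (f i * f j))) := fun i j => by
        have h1 := ha i j
        rw [Ideal.map_sup, Ideal.map_span, Set.image_singleton] at h1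
        obtain ⟨u, hu, v, hv, huv⟩ := Submodule.mem_sup.1 h1
        obtain ⟨e, rfl⟩ := Ideal.mem_span_singleton'.1 hv
        refine ⟨e, ?_⟩
        rw [← huv, show u + e * algebraMap A (Loc (f i * f j)) x - algebraMap A (Loc (f i * f j)) x * e = u by
          ring]
        exact hu
      choose e he using this
      refine ih ⟨e, fun i j k => hx.loc ?_⟩
      have h1 := ρ_mem (dvd_mul_right (f i * f j) (f k)) (he i j)
      have h2 := ρ_mem (show f j * f k ∣ f i * f j * f k from ⟨f i, by ring⟩) (he j k)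
      have h3 := ρ_mem (show f i * f k ∣ f i * f j * f k from ⟨f j, by ring⟩) (he i k)
      simp only [map_sub, map_mul, ρ_algebraMap, ρ_ρ] at h1 h2 h3
      have h4 := add_mem (hd i j k) (Ideal.sub_mem _ (add_mem h1 h2) h3)
      convert h4 using 1
      simp only [map_pow, map_mul, pow_succ]
      ring
  obtain ⟨d, hd⟩ := hdiv K hS
  exact ⟨d, fun i j k => by simpa using hd i j k⟩

end Groth.Agent.ParaFormal
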