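import Groth.Agent.ParaFormal.Surjective

/-!
Extension of invertible modules over points whose punctured local spectrum has trivial Picard group.
-/

set_option backward.isDefEq.respectTransparency.types false
set_option maxHeartbeats 800000

noncomputable section

universe u

open CategoryTheory Limits AlgebraicGeometry TopologicalSpace Opposite

namespace Groth.Agent.ParaFormal.Extend

open Groth.Agent.QCoh Groth.Agent.Props.GenLocus Groth.Agent.ParaFLib
open Groth.Agent.ParaFLib.OpenData Groth.Agent.ParaFLib.Spread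

variable {X : Scheme.{u}}

theorem eq_mul_inv_aux {R : Type*} [CommRing R] {ci ck dk aik : R} (h : aik * ck = ci) (h' : ck * dk = 1) :
    ci * dk = aik := by linear_combination (-dk) * h + aik * h'

theorem inv_mul_aux {R : Type*} [CommRing R] {cj ck dj dk ajk : R} (h : ajk * ck = cj) (hj : cj * dj = 1)
    (hk : ck * dk = 1) : dj * ajk = dk := by
  linear_combination (-(dj * ajk)) * hk + dj * dk * h + dk * hj

/-- If `A/p` is one-dimensional, the only other prime over `p` is maximal. -/
theorem le_of_dim_quotient_eq_one {A : Type u} [CommRing A] [IsLocalRing A] [IsNoetherianRing A] {p : Ideal A}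
    [p.IsPrime] (hdim : ringKrullDim (A ⧸ p) = 1) {r : Ideal A} (hr : r.IsPrime) (hpr : p ≤ r)
    (hne : r ≠ IsLocalRing.maximalIdeal A) : r ≤ p := by
  have : Ring.KrullDimLE 1 (A ⧸ p) := (Ring.krullDimLE_iff).2 hdim.le
  haveI : (r.map (Ideal.Quotient.mk p)).IsPrime :=
    Ideal.map_isPrime_of_surjective Ideal.Quotient.mk_surjective (by rw [Ideal.mk_ker]; exact hpr)
  by_contra hrp
  have hne' : r.map (Ideal.Quotient.mk p) ≠ ⊥ := fun h => hrp (by
    rw [Ideal.map_eq_bot_iff_le_ker, Ideal.mk_ker] at h; exact h)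
  haveI : (r.map (Ideal.Quotient.mk p)).IsMaximal := Ideal.IsPrime.isMaximal_of_ne_bot inferInstance hne'
  have hc := Ideal.comap_isMaximal_of_surjective (Ideal.Quotient.mk p) Ideal.Quotient.mk_surjective
    (K := r.map (Ideal.Quotient.mk p))
  rw [Ideal.comap_map_of_surjective _ Ideal.Quotient.mk_surjective, ← RingHom.ker_eq_comap_bot, Ideal.mk_ker,
    sup_eq_left.2 hpr] at hc
  exact hne (IsLocalRing.eq_maximalIdeal hc)

/-- A finite cover of an open by opens with generators. -/
theorem exists_finite_gens [NoetherianSpace X] {G : X.Opens} {M : X.Modules}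
    (hM : PicF.IsInvertible (M.restrict G.ι)) :
    ∃ (ι : Type u) (_ : Finite ι) (O : ι → X.Opens) (_ : ∀ i, O i ≤ G) (_ : G ≤ iSup O)
      (e : ∀ i, Γ(M, O i)), ∀ i, IsGen M (O i) (e i) := by
  classical
  choose V σ hxV hVG hσ using fun x : (G : Set X) => exists_isGen_of_invertible_restrict hM x.2
  obtain ⟨F, hF⟩ := (NoetherianSpace.isCompact (G : Set X)).elim_finite_subcover
    (fun x => (V x : Set X)) (fun x => (V x).2) fun x hx => Set.mem_iUnion.2 ⟨⟨x, hx⟩, hxV _⟩
  refine ⟨F, inferInstance, fun x => V x.1, fun x => hVG _, fun x hx => ?_, fun x => σ x.1, fun x => hσ _⟩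
  obtain ⟨y, hy, hxy⟩ := Set.mem_iUnion₂.1 (hF hx)
  exact Opens.mem_iSup.2 ⟨⟨y, hy⟩, hxy⟩

/-- Gluing a free module on `N` to a module free on `G ⊓ N`. -/
theorem exists_glue_free [NoetherianSpace X] {G N : X.Opens} {M : X.Modules}
    (hM : PicF.IsInvertible (M.restrict G.ι)) (σ : Γ(M, G ⊓ N)) (hσ : IsGen M (G ⊓ N) σ) :
    ∃ M' : X.Modules, PicF.IsInvertible (M'.restrict (G ⊔ N).ι) ∧
      Nonempty (M'.restrict G.ι ≅ M.restrict G.ι) := by
  classical
  obtain ⟨ι, -, O, hOG, hGO, e, he⟩ := exists_finite_gens hM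
  let D := ofGens O hOG hGO e he
  have hON : ∀ i, O i ⊓ N ≤ G ⊓ N := fun i => inf_le_inf_right N (hOG i)
  have hc : ∀ i, ∃ c : Γ(X, O i ⊓ N), res M (hON i) σ = c • res M (inf_le_left : O i ⊓ N ≤ _) (e i) := fun i =>
    ((he i).exists_eq inf_le_left _).exists
  choose c hc using hc
  have hd : ∀ i, ∃ d : Γ(X, O i ⊓ N), d * c i = 1 := fun i => by
    obtain ⟨d, hd, -⟩ := hσ.exists_eq (hON i) (res M (inf_le_left : O i ⊓ N ≤ _) (e i))
    refine ⟨d, (he i).injective inf_le_left ?_⟩
    rw [mul_smul, ← hc, ← hd, one_smul]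
  choose d hd using hd
  have hcd : ∀ i V (h : V ≤ O i ⊓ N), rres h (c i) * rres h (d i) = 1 := fun i V h => by
    rw [← map_mul, mul_comm, hd, map_one]
  have hcij : ∀ i j V (hi : V ≤ O i ⊓ N) (hj : V ≤ O j ⊓ N) (hij : V ≤ O i ⊓ O j),
      rres hij (D.a i j) * rres hj (c j) = rres hi (c i) := by
    intro i j V hi hj hij
    apply (he i).injective (hi.trans inf_le_left)
    have h1 := congrArg (res M hi) (hc i)
    have h2 := congrArg (res M hj) (hc j)
    have h3 := congrArg (res M hij) (ofGens_rel O hOG hGO e he i j)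
    rw [res_smul, res_res, res_res] at h1 h2
    refine Eq.trans ?_ h1
    refine Eq.trans ?_ h2.symm
    rw [mul_comm, mul_smul]
    refine congrArg (rres hj (c j) • ·) ?_
    refine Eq.trans ?_ ((res_res M _ _ _).symm.trans h3).symm
    exact ((res_smul M _ _ _).trans (congrArg (rres hij (D.a i j) • ·) (res_res M _ _ _))).symm
  let O' : Option ι → X.Opens := fun o => o.elim N O
  let a : ∀ o o', Γ(X, O' o ⊓ O' o') := fun o o' => match o, o' with
    | none, none => 1
    | none, some j => rres (inf_comm (N : X.Opens) (O j)).le (d j)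
    | some i, none => c i
    | some i, some j => D.a i j
  let C : Data (G ⊔ N) :=
    { ι := Option ι
      O := O'
      a := a
      le := fun o => match o with
        | none => le_sup_right
        | some i => (hOG i).trans le_sup_left
      cover := sup_le (hGO.trans (iSup_le fun i => le_iSup O' (some i))) (le_iSup O' none)
      self := fun o => match o with
        | none => rfl
        | some i => D.self i
      coc := fun o o' o'' V h₁ h₂ h₃ => match o, o', o'', h₁, h₂, h₃ with
        | none, none, none, h₁, h₂, h₃ => by simp only [a, map_one, mul_one]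
        | none, none, some k, h₁, h₂, h₃ => by simp only [a, map_one, one_mul]
        | some i, none, none, h₁, h₂, h₃ => by simp only [a, map_one, mul_one]
        | none, some j, none, h₁, h₂, h₃ => by
            refine Eq.trans ?_ (map_one (rres h₃).hom).symm
            show rres h₁ (rres _ (d j)) * rres h₂ (c j) = 1
            rw [rres_rres, mul_comm]
            exact hcd j V h₂
        | some i, none, some k, h₁, h₂, h₃ => by
            have hk : V ≤ O k ⊓ N := le_inf (h₂.trans inf_le_right) (h₂.trans inf_le_left)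
            show rres h₁ (c i) * rres h₂ (rres _ (d k)) = rres h₃ (D.a i k)
            rw [rres_rres]
            exact eq_mul_inv_aux (hcij i k V h₁ hk h₃) (hcd k V hk)
        | some i, some j, none, h₁, h₂, h₃ => hcij i j V h₃ h₂ h₁
        | none, some j, some k, h₁, h₂, h₃ => by
            have hj : V ≤ O j ⊓ N := le_inf (h₁.trans inf_le_right) (h₁.trans inf_le_left)
            have hk : V ≤ O k ⊓ N := le_inf (h₃.trans inf_le_right) (h₃.trans inf_le_left)
            show rres h₁ (rres _ (d j)) * rres h₂ (D.a j k) = rres h₃ (rres _ (d k))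
            rw [rres_rres, rres_rres]
            exact inv_mul_aux (hcij j k V hj hk h₂) (hcd j V hj) (hcd k V hk)
        | some i, some j, some k, h₁, h₂, h₃ => D.coc i j k V h₁ h₂ h₃ }
  obtain ⟨M', hM', e', he', hrel'⟩ := exists_module C
  refine ⟨M', hM', nonempty_restrict_iso_of_rel O hGO (fun i => e' (some i)) (fun i => he' (some i)) e he
    (fun i j => D.a i j) (fun i j => hrel' (some i) (some j)) (fun i j => ofGens_rel O hOG hGO e he i j)⟩

/-- Extension of an invertible module over a point with trivial punctured local Picard group. -/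
theorem exists_extension_point {A : Type u} [CommRing A] [IsNoetherianRing A]
    {G : (Spec (CommRingCat.of A)).Opens} (M : (Spec (CommRingCat.of A)).Modules)
    (hM : PicF.IsInvertible (M.restrict G.ι)) (y : Spec (CommRingCat.of A)) (hy : y ∉ G)
    (hgen : ∀ z, z ⤳ y → z ≠ y → z ∈ G)
    (hpt : ParaF.PicTrivial (FEt.puncturedSpec ((Spec (CommRingCat.of A)).presheaf.stalk y) : Scheme.{u}))
    {U : (Spec (CommRingCat.of A)).Opens} (hyU : y ∈ U) :
    ∃ N : (Spec (CommRingCat.of A)).Opens, y ∈ N ∧ N ≤ U ∧ ∃ M' : (Spec (CommRingCat.of A)).Modules,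
      PicF.IsInvertible (M'.restrict (G ⊔ N).ι) ∧ Nonempty (M'.restrict G.ι ≅ M.restrict G.ι) := by
  haveI : IsNoetherianRing (CommRingCat.of A) := ‹IsNoetherianRing A›
  haveI : IsLocallyNoetherian (Spec (CommRingCat.of A)) := inferInstance
  haveI : NoetherianSpace (Spec (CommRingCat.of A)) := inferInstanceAs (NoetherianSpace (PrimeSpectrum A))
  obtain ⟨ι, hfin, O, hOG, hGO, e, he⟩ := exists_finite_gens hM
  let D := ofGens O hOG hGO e he
  have : Finite D.ι := hfin
  have hP := StalkPair.preimage_eq_punctured y hy hgen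
  obtain ⟨N, hyN, -, hN⟩ := Spread.exists_triv y (isAffineOpen_top (Spec (CommRingCat.of A))) trivial le_top D hP
    (triv_of_picTrivial hpt _)
  obtain ⟨σ, hσ⟩ := exists_isGen_of_triv (Spread.restrict D N) (fun i => res M inf_le_left (e i))
    (fun i => (he i).restrict inf_le_left) (StalkPair.restrict_rel D N (fun i => e i) (ofGens_rel O hOG hGO e he)) hN
  exact ⟨N ⊓ U, ⟨hyN, hyU⟩, inf_le_right, exists_glue_free hM (res M (inf_le_inf_left G inf_le_left) σ)
    (hσ.restrict (inf_le_inf_left G inf_le_left))⟩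

/-- Transport of triviality of the Picard group along isomorphisms. -/
theorem picTrivial_of_isIso {Y Z : Scheme.{u}} (g : Y ⟶ Z) [IsIso g] (h : ParaF.PicTrivial Z) :
    ParaF.PicTrivial Y := by
  intro L hL
  obtain ⟨φ⟩ := h (L.restrict (inv g)) (isInvertible_restrict (inv g) hL)
  exact ⟨Scheme.Modules.restrictFunctorId.symm.app L ≪≫
    (Scheme.Modules.restrictFunctorCongr (IsIso.hom_inv_id g).symm).app L ≪≫
    (Scheme.Modules.restrictFunctorComp g (inv g)).app L ≪≫
    (Scheme.Modules.restrictFunctor g).mapIso φ ≪≫ Scheme.Modules.restrictUnitIso g⟩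

/-- Transport along ring isomorphisms. -/
theorem picTrivial_punctured_of_ringEquiv {R S : Type u} [CommRing R] [IsNoetherianRing R] [IsLocalRing R] [CommRing S] [IsLocalRing S]
    (e : R ≃+* S) (h : ParaF.PicTrivial (FEt.puncturedSpec R : Scheme.{u})) :
    ParaF.PicTrivial (FEt.puncturedSpec S : Scheme.{u}) := by
  let g := Spec.map (CommRingCat.ofHom e.toRingHom)
  haveI : IsIso (CommRingCat.ofHom e.toRingHom) := e.toCommRingCatIso.isIso_hom
  have hpre : g ⁻¹ᵁ FEt.puncturedSpec R = FEt.puncturedSpec S := preimage_punctured e.toRingHom e.surjective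
  exact picTrivial_of_isIso (((Spec (CommRingCat.of S)).isoOfEq hpre.symm).hom ≫ g ∣_ FEt.puncturedSpec R) h

/-- Extension of an invertible module over points with trivial punctured local Picard groups. -/
theorem exists_extension_picTrivial {A : Type u} [CommRing A] [IsNoetherianRing A]
    {V U : (Spec (CommRingCat.of A)).Opens} (h : V ≤ U)
    (hst : ∀ p : PrimeSpectrum A, p ∈ U → p ∉ V →
      ParaF.PicTrivial (FEt.puncturedSpec (Localization.AtPrime p.asIdeal) : Scheme.{u}))
    (M₀ : (Spec (CommRingCat.of A)).Modules) (hM₀ : PicF.IsInvertible (M₀.restrict V.ι)) :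
    ∃ M : (Spec (CommRingCat.of A)).Modules, PicF.IsInvertible (M.restrict U.ι) ∧
      Nonempty (M.restrict V.ι ≅ M₀.restrict V.ι) := by
  haveI : IsNoetherianRing (CommRingCat.of A) := ‹IsNoetherianRing A›
  haveI : NoetherianSpace (Spec (CommRingCat.of A)) := inferInstanceAs (NoetherianSpace (PrimeSpectrum A))
  let S : Set (Spec (CommRingCat.of A)).Opens := {G | V ≤ G ∧ G ≤ U ∧
    ∃ M : (Spec (CommRingCat.of A)).Modules, PicF.IsInvertible (M.restrict G.ι) ∧
      Nonempty (M.restrict V.ι ≅ M₀.restrict V.ι)}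
  obtain ⟨G, ⟨hVG, hGU, M, hM, ⟨φ⟩⟩, hmax⟩ :=
    (wellFounded_gt (α := (Spec (CommRingCat.of A)).Opens)).has_min S ⟨V, le_rfl, h, M₀, hM₀, ⟨Iso.refl _⟩⟩
  obtain rfl : G = U := by
    by_contra hne
    obtain ⟨y, hyU, hyG, hgen⟩ := StalkPair.exists_maximal U G fun h' => hne (le_antisymm hGU h')
    obtain ⟨e⟩ := PuncturedLocal.stalkEquiv A y
    have hpt := picTrivial_punctured_of_ringEquiv e (hst y hyU fun hyV => hyG (hVG hyV))
    obtain ⟨N, hyN, hNU, M', hM', ⟨ψ⟩⟩ := exists_extension_point M hM y hyG hgen hpt hyU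
    refine hmax (G ⊔ N) ⟨hVG.trans le_sup_left, sup_le hGU hNU, M', hM', ⟨?_⟩⟩
      (lt_of_le_of_ne le_sup_left fun he => hyG (he ▸ (le_sup_right : N ≤ G ⊔ N) hyN))
    let k := (Spec (CommRingCat.of A)).homOfLE hVG
    exact (Scheme.Modules.restrictFunctorCongr ((Spec (CommRingCat.of A)).homOfLE_ι hVG).symm).app M' ≪≫
      (Scheme.Modules.restrictFunctorComp k G.ι).app M' ≪≫ (Scheme.Modules.restrictFunctor k).mapIso ψ ≪≫
      ((Scheme.Modules.restrictFunctorComp k G.ι).app M).symm ≪≫
      (Scheme.Modules.restrictFunctorCongr ((Spec (CommRingCat.of A)).homOfLE_ι hVG)).app M ≪≫ φ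
  exact ⟨M, hM, ⟨φ⟩⟩

end Groth.Agent.ParaFormal.Extend
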