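import Groth.Agent.ParaFormal.Cech
import Mathlib.RingTheory.Filtration
import Mathlib.RingTheory.AdicCompletion.Basic
import Mathlib.LinearAlgebra.FreeModule.Finite.Basic
import Mathlib.LinearAlgebra.Dimension.Free
import Mathlib.Algebra.Module.Torsion.Basic
import Mathlib.RingTheory.Ideal.Quotient.Operations
import Mathlib.RingTheory.Noetherian.Basic

/-!
Ideals with free associated graded module, and regular sequences.
-/

set_option autoImplicit false

universe u

namespace Groth.Agent.ParaFormal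

variable {A : Type u} [CommRing A]

/-- Generators of the graded pieces of `J` which are independent modulo `K`. -/
structure GrData (J : Ideal A) where
  /-- the ranks -/
  r : ℕ → ℕ
  /-- the representatives -/
  b : ∀ n, Fin (r n) → A
  mem : ∀ n i, b n i ∈ J ^ n
  span : ∀ n, J ^ n ≤ Ideal.span (Set.range (b n)) ⊔ J ^ (n + 1)

/-- Independence of the representatives modulo `K`. -/
def GrData.Indep {J : Ideal A} (G : GrData J) (K : Ideal A) : Prop :=
  ∀ n (t : Fin (G.r n) → A), ∑ i, G.b n i * t i ∈ K ⊔ J ^ (n + 1) → ∀ i, t i ∈ K ⊔ J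

/-- Free graded pieces give representatives. -/
theorem exists_grData [IsNoetherianRing A] (J : Ideal A)
    (h : ∀ n : ℕ, Module.Free (A ⧸ J) (↥(J ^ n) ⧸ (J • (⊤ : Submodule A ↥(J ^ n))))) :
    ∃ G : GrData J, G.Indep ⊥ := by
  classical
  rcases subsingleton_or_nontrivial (A ⧸ J) with hJ | hJ
  · have hJt : J = ⊤ := Ideal.Quotient.subsingleton_iff.1 hJ
    exact ⟨⟨fun _ => 0, fun _ => Fin.elim0, fun _ i => i.elim0, fun n => by
      rw [hJt, Ideal.top_pow, Ideal.top_pow]; exact le_sup_right⟩, fun n t _ i => i.elim0⟩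
  have hfin : ∀ n, Module.Finite (A ⧸ J) (↥(J ^ n) ⧸ (J • (⊤ : Submodule A ↥(J ^ n)))) := fun n =>
    Module.Finite.of_restrictScalars_finite A _ _
  have hmem : ∀ n (z : ↥(J ^ n)), z ∈ J • (⊤ : Submodule A ↥(J ^ n)) ↔ (z : A) ∈ J ^ (n + 1) := by
    intro n z
    have hmap : Submodule.map (Submodule.subtype (J ^ n)) (J • (⊤ : Submodule A ↥(J ^ n))) = J ^ (n + 1) := by
      rw [Submodule.map_smul'', Submodule.map_top, Submodule.range_subtype, smul_eq_mul, pow_succ']
    rw [← hmap]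
    exact ⟨fun hz => ⟨z, hz, rfl⟩, fun ⟨w, hw, e⟩ => by rwa [← Subtype.ext e]⟩
  let B := fun n => haveI := h n; haveI := hfin n
    Module.finBasis (A ⧸ J) (↥(J ^ n) ⧸ (J • (⊤ : Submodule A ↥(J ^ n))))
  choose b hb using fun n i => Submodule.Quotient.mk_surjective _ (B n i)
  refine ⟨⟨_, fun n i => (b n i : A), fun n i => (b n i).2, fun n z hz => ?_⟩, fun n t ht i => ?_⟩
  · have hexp := (B n).sum_repr (Submodule.Quotient.mk (⟨z, hz⟩ : ↥(J ^ n)))
    choose t ht using fun i => Ideal.Quotient.mk_surjective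
      ((B n).repr (Submodule.Quotient.mk (⟨z, hz⟩ : ↥(J ^ n))) i)
    have h1 : (Submodule.Quotient.mk (∑ i, t i • b n i) : _ ⧸ J • (⊤ : Submodule A ↥(J ^ n))) =
        Submodule.Quotient.mk ⟨z, hz⟩ := by
      rw [← Submodule.mkQ_apply, map_sum]
      refine (Finset.sum_congr rfl fun i _ => ?_).trans hexp
      rw [Submodule.mkQ_apply, Submodule.Quotient.mk_smul, hb, ← ht]
      exact (algebraMap_smul (A ⧸ J) (t i) _).symm
    rw [Submodule.Quotient.eq, hmem] at h1
    simp only [AddSubgroupClass.coe_sub, AddSubmonoidClass.coe_finset_sum, SetLike.val_smul] at h1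
    refine Submodule.mem_sup.2 ⟨∑ i, t i • (b n i : A), Submodule.sum_mem _ fun i _ =>
      Submodule.smul_mem _ _ (Ideal.subset_span ⟨i, rfl⟩), _, Submodule.neg_mem _ h1, ?_⟩
    simp
  · rw [bot_sup_eq] at ht ⊢
    have h1 : ∑ j, Ideal.Quotient.mk J (t j) • B n j = 0 := by
      rw [show ∑ j, Ideal.Quotient.mk J (t j) • B n j =
        Submodule.Quotient.mk (∑ j, t j • b n j) by
          rw [← Submodule.mkQ_apply, map_sum]
          refine Finset.sum_congr rfl fun j _ => ?_
          rw [Submodule.mkQ_apply, Submodule.Quotient.mk_smul, hb]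
          exact algebraMap_smul (A ⧸ J) (t j) _,
        Submodule.Quotient.mk_eq_zero, hmem]
      simp only [AddSubmonoidClass.coe_finset_sum, SetLike.val_smul, smul_eq_mul]
      simpa [mul_comm] using ht
    exact Ideal.Quotient.eq_zero_iff_mem.1 (Fintype.linearIndependent_iff.1 (B n).linearIndependent _ h1 i)

/-- Krull's intersection theorem modulo an ideal. -/
theorem mem_of_forall_mem_sup_pow [IsNoetherianRing A] [IsLocalRing A] {J : Ideal A} (hJ : J ≠ ⊤)
    {K : Ideal A} {a : A} (h : ∀ n, a ∈ K ⊔ J ^ n) : a ∈ K := by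
  rcases eq_or_ne K ⊤ with hK | hK
  · rw [hK]; trivial
  haveI : Nontrivial (A ⧸ K) := Ideal.Quotient.nontrivial_iff.2 hK
  haveI : IsNoetherianRing (A ⧸ K) :=
    isNoetherianRing_of_surjective A _ (Ideal.Quotient.mk K) Ideal.Quotient.mk_surjective
  haveI : IsLocalRing (A ⧸ K) := IsLocalRing.of_surjective' _ Ideal.Quotient.mk_surjective
  rw [← Ideal.Quotient.eq_zero_iff_mem, ← Ideal.mem_bot]
  have hne : J.map (Ideal.Quotient.mk K) ≠ ⊤ := by
    refine ne_top_of_le_ne_top (IsLocalRing.maximalIdeal.isMaximal (A ⧸ K)).ne_top ?_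
    rw [Ideal.map_le_iff_le_comap]
    intro z hz hu
    obtain ⟨w, hw⟩ := hu.exists_right_inv
    obtain ⟨w, rfl⟩ := Ideal.Quotient.mk_surjective w
    have h1 : 1 - z * w ∈ K := Ideal.Quotient.eq.1 (by simpa using hw.symm)
    rcases IsLocalRing.isUnit_or_isUnit_one_sub_self (z * w) with h2 | h2
    · exact hJ (Ideal.eq_top_of_isUnit_mem _ (Ideal.mul_mem_right w _ hz) h2)
    · exact hK (Ideal.eq_top_of_isUnit_mem _ h1 h2)
  rw [← Ideal.iInf_pow_eq_bot_of_isLocalRing _ hne]
  refine Ideal.mem_iInf.2 fun n => ?_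
  rw [← Ideal.map_pow]
  obtain ⟨k, hk, w, hw, rfl⟩ := Submodule.mem_sup.1 (h n)
  rw [map_add, Ideal.Quotient.eq_zero_iff_mem.2 hk, zero_add]
  exact Ideal.mem_map_of_mem _ hw

variable {J : Ideal A} (G : GrData J)

/-- An element regular modulo `K ⊔ J` is regular modulo all `K ⊔ J ^ n`. -/
theorem GrData.regMod_pow {K : Ideal A} (hG : G.Indep K) {x : A} (hx : RegMod (K ⊔ J) x) :
    ∀ n, RegMod (K ⊔ J ^ n) x := by
  intro n
  induction n with
  | zero => intro a _; rw [pow_zero, Ideal.one_eq_top, sup_top_eq]; trivial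
  | succ n ih =>
    intro a ha
    have h1 : a ∈ K ⊔ J ^ n := ih a ((sup_le_sup_left (Ideal.pow_le_pow_right (Nat.le_succ n)) K) ha)
    obtain ⟨k, hk, w, hw, rfl⟩ := Submodule.mem_sup.1 h1
    obtain ⟨s, hs, v, hv, rfl⟩ := Submodule.mem_sup.1 (G.span n hw)
    obtain ⟨t, rfl⟩ := (Ideal.mem_span_range_iff_exists_fun).1 hs
    have h2 : ∑ i, G.b n i * (x * t i) ∈ K ⊔ J ^ (n + 1) := by
      rw [show ∑ i, G.b n i * (x * t i) = x * (k + ((∑ i, t i * G.b n i) + v)) - x * k - x * v by
        rw [mul_add, mul_add, Finset.mul_sum, add_sub_cancel_left, add_sub_cancel_right]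
        exact Finset.sum_congr rfl fun i _ => by ring]
      exact Submodule.sub_mem _ (Submodule.sub_mem _ ha (Ideal.mem_sup_left (Ideal.mul_mem_left _ _ hk)))
        (Ideal.mem_sup_right (Ideal.mul_mem_left _ _ hv))
    have h3 := fun i => hx _ (hG n _ h2 i)
    refine add_mem (Ideal.mem_sup_left hk) (add_mem (Submodule.sum_mem _ fun i _ => ?_) (Ideal.mem_sup_right hv))
    obtain ⟨k', hk', j, hj, hkj⟩ := Submodule.mem_sup.1 (h3 i)
    rw [← hkj, add_mul]
    refine add_mem (Ideal.mem_sup_left (Ideal.mul_mem_right _ _ hk')) (Ideal.mem_sup_right ?_)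
    rw [pow_succ']
    exact Ideal.mul_mem_mul hj (G.mem n i)

/-- Independence passes to the quotient by an element regular modulo `K ⊔ J`. -/
theorem GrData.indep_sup {K : Ideal A} (hG : G.Indep K) {x : A} (hx : RegMod (K ⊔ J) x) :
    G.Indep (K ⊔ Ideal.span {x}) := by
  intro n t ht i
  rw [sup_right_comm] at ht
  obtain ⟨u, hu, v, hv, huv⟩ := Submodule.mem_sup.1 ht
  obtain ⟨e, rfl⟩ := Ideal.mem_span_singleton'.1 hv
  have hxe : x * e ∈ K ⊔ J ^ n := by
    rw [show x * e = ∑ j, G.b n j * t j - u by rw [← huv]; ring]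
    exact Submodule.sub_mem _ (Ideal.mem_sup_right (Submodule.sum_mem _ fun j _ =>
      Ideal.mul_mem_right _ _ (G.mem n j)))
      (sup_le_sup_left (Ideal.pow_le_pow_right (Nat.le_succ n)) K hu)
  obtain ⟨k, hk, w, hw, rfl⟩ := Submodule.mem_sup.1 (G.regMod_pow hG hx n e hxe)
  obtain ⟨s, hs, w', hw', rfl⟩ := Submodule.mem_sup.1 (G.span n hw)
  obtain ⟨s, rfl⟩ := (Ideal.mem_span_range_iff_exists_fun).1 hs
  have h2 : ∑ j, G.b n j * (t j - x * s j) ∈ K ⊔ J ^ (n + 1) := by
    rw [show ∑ j, G.b n j * (t j - x * s j) = u + x * k + x * w' by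
      simp only [mul_sub, Finset.sum_sub_distrib]
      rw [← huv, show ∑ j, G.b n j * (x * s j) = x * ∑ j, s j * G.b n j by
        rw [Finset.mul_sum]; exact Finset.sum_congr rfl fun j _ => by ring]
      ring]
    exact add_mem (add_mem hu (Ideal.mem_sup_left (Ideal.mul_mem_left _ _ hk)))
      (Ideal.mem_sup_right (Ideal.mul_mem_left _ _ hw'))
  rw [show t i = (t i - x * s i) + s i * x by ring, sup_right_comm]
  exact add_mem (Ideal.mem_sup_left (hG n _ h2 i)) (Ideal.mem_sup_right (Ideal.mem_span_singleton'.2 ⟨_, rfl⟩))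

/-- An element regular modulo `K ⊔ J` is regular modulo `K`. -/
theorem GrData.regMod [IsNoetherianRing A] [IsLocalRing A] (hJ : J ≠ ⊤) {K : Ideal A} (hG : G.Indep K)
    {x : A} (hx : RegMod (K ⊔ J) x) : RegMod K x := by
  intro a ha
  exact mem_of_forall_mem_sup_pow hJ fun n => G.regMod_pow hG hx n a (Ideal.mem_sup_left ha)

end Groth.Agent.ParaFormal
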