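import Groth.Agent.ParaFormal.CechTwo

/-!
Lifting cocycles along powers of a regular element.
-/

set_option autoImplicit false

universe u

namespace Groth.Agent.ParaFormal

variable {A : Type u} [CommRing A] {ι : Type*}

/-- The image of `t` in a localization. -/
noncomputable abbrev tl (t : A) (a : A) : Loc a := algebraMap A (Loc a) t

theorem mem_map_pow_iff {t a : A} {n : ℕ} {x : Loc a} :
    x ∈ (Ideal.span {t ^ n}).map (algebraMap A (Loc a)) ↔ tl t a ^ n ∣ x := by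
  rw [Ideal.map_span, Set.image_singleton, Ideal.mem_span_singleton, map_pow]

theorem mem_map_iff_dvd {t a : A} {x : Loc a} :
    x ∈ (Ideal.span {t}).map (algebraMap A (Loc a)) ↔ tl t a ∣ x := by
  rw [Ideal.map_span, Set.image_singleton, Ideal.mem_span_singleton]

theorem dvd_ρ {t a b : A} {n : ℕ} (h : a ∣ b) {x : Loc a} (hx : tl t a ^ n ∣ x) : tl t b ^ n ∣ ρ h x := by
  obtain ⟨c, rfl⟩ := hx
  exact ⟨ρ h c, by rw [map_mul, map_pow, ρ_algebraMap]⟩

theorem tl_cancel {t : A} (ht : IsSMulRegular A t) {a : A} {x : Loc a} {n : ℕ} (h : tl t a ^ n * x = 0) :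
    x = 0 := by
  have hreg : RegMod (⊥ : Ideal A) (t ^ n) := fun b hb => by
    rw [Ideal.mem_bot] at hb ⊢
    exact (ht.pow n) (show t ^ n • b = t ^ n • (0 : A) by simpa using hb)
  have h1 := hreg.loc (b := a) (z := x) (by rw [map_pow, Ideal.map_bot, Ideal.mem_bot]; exact h)
  simpa using h1

theorem dvd_cancel {t : A} (ht : IsSMulRegular A t) {a : A} {x : Loc a} {n m : ℕ}
    (h : tl t a ^ (n + m) ∣ tl t a ^ n * x) : tl t a ^ m ∣ x := by
  obtain ⟨c, hc⟩ := h
  refine ⟨c, sub_eq_zero.1 (tl_cancel ht (n := n) ?_)⟩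
  rw [mul_sub, hc, pow_add, mul_assoc, sub_self]

variable (f : ι → A) (t : A)

/-- A multiplicative cocycle modulo `t ^ n`. -/
structure Coc (n : ℕ) (g : ∀ i j, Loc (f i * f j)) : Prop where
  coc : ∀ i j k, tl t (f i * f j * f k) ^ n ∣
    ρ (dvd_mul_right (f i * f j) (f k)) (g i j) * ρ (show f j * f k ∣ f i * f j * f k from ⟨f i, by ring⟩) (g j k) -
      ρ (show f i * f k ∣ f i * f j * f k from ⟨f j, by ring⟩) (g i k)
  self : ∀ i, tl t (f i * f i) ^ n ∣ g i i - 1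

variable {f t}

theorem Coc.of_le {n m : ℕ} (h : m ≤ n) {g : ∀ i j, Loc (f i * f j)} (hg : Coc f t n g) : Coc f t m g :=
  ⟨fun i j k => (pow_dvd_pow _ h).trans (hg.coc i j k), fun i => (pow_dvd_pow _ h).trans (hg.self i)⟩

theorem Coc.congr {n : ℕ} {g g' : ∀ i j, Loc (f i * f j)} (hg : Coc f t n g)
    (h : ∀ i j, tl t (f i * f j) ^ n ∣ g' i j - g i j) : Coc f t n g' := by
  refine ⟨fun i j k => ?_, fun i => by simpa using dvd_add (hg.self i) (h i i)⟩
  obtain ⟨a, ha⟩ := dvd_ρ (dvd_mul_right (f i * f j) (f k)) (h i j)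
  obtain ⟨b, hb⟩ := dvd_ρ (show f j * f k ∣ f i * f j * f k from ⟨f i, by ring⟩) (h j k)
  obtain ⟨c, hc⟩ := dvd_ρ (show f i * f k ∣ f i * f j * f k from ⟨f j, by ring⟩) (h i k)
  obtain ⟨d, hd⟩ := hg.coc i j k
  simp only [map_sub] at ha hb hc
  set x := ρ (dvd_mul_right (f i * f j) (f k)) (g i j)
  set y := ρ (show f j * f k ∣ f i * f j * f k from ⟨f i, by ring⟩) (g' j k)
  exact ⟨d + a * y + x * b - c, by linear_combination hd + y * ha + x * hb - hc⟩

/-- Inverse transition functions. -/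
theorem Coc.mul_inv {n : ℕ} {g : ∀ i j, Loc (f i * f j)} (hg : Coc f t n g) (i j : ι) :
    tl t (f i * f j) ^ n ∣ g i j * ρ (dvd_of_eq (mul_comm (f j) (f i))) (g j i) - 1 := by
  have h1 := hg.coc i j i
  have h2 := dvd_ρ (show f i * f i ∣ f i * f j * f i from ⟨f j, by ring⟩) (hg.self i)
  have h3 : tl t (f i * f j * f i) ^ n ∣ ρ (dvd_mul_right (f i * f j) (f i))
      (g i j * ρ (dvd_of_eq (mul_comm (f j) (f i))) (g j i) - 1) := by
    have h4 := dvd_add h1 h2
    simp only [map_sub, map_mul, map_one, ρ_ρ] at h4 ⊢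
    simpa using h4
  rw [← mem_map_pow_iff] at h3
  obtain ⟨m, hm⟩ := pow_mul_mem_of_ρ_mem (y := f i * f j) ⟨f j, by ring⟩ _ h3
  rw [← mem_map_pow_iff]
  exact (Ideal.unit_mul_mem_iff_mem _ (isUnit_pow _ m)).1 hm

/-- A cocycle modulo `t ^ n` lifts modulo `t ^ (n + 1)` if `Ȟ²` vanishes modulo `t`. -/
theorem Coc.exists_lift (ht : IsSMulRegular A t) (hH : HTwo f (Ideal.span {t})) {n : ℕ} (hn : 1 ≤ n)
    {g : ∀ i j, Loc (f i * f j)} (hg : Coc f t n g) :
    ∃ g' : ∀ i j, Loc (f i * f j), Coc f t (n + 1) g' ∧ ∀ i j, tl t (f i * f j) ^ n ∣ g' i j - g i j := by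
  choose w hw using hg.coc
  let c : ∀ i j k, Loc (f i * f j * f k) := fun i j k =>
    w i j k * ρ (show f k * f i ∣ f i * f j * f k from ⟨f j, by ring⟩) (g k i)
  have hc := hH c fun i j k l => by
    rw [mem_map_iff_dvd]
    -- both ways of associating a triple product
    let P := f i * f j * f k * f l
    let R : ∀ {a : A}, a ∣ P → Loc a →+* Loc P := fun h => ρ h
    have hijk : f i * f j * f k ∣ P := dvd_mul_right _ _
    have hikl : f i * f k * f l ∣ P := ⟨f j, by ring⟩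
    have hijl : f i * f j * f l ∣ P := ⟨f k, by ring⟩
    have hjkl : f j * f k * f l ∣ P := ⟨f i, by ring⟩
    have e1 := congrArg (ρ hijk) (hw i j k)
    have e2 := congrArg (ρ hikl) (hw i k l)
    have e3 := congrArg (ρ hijl) (hw i j l)
    have e4 := congrArg (ρ hjkl) (hw j k l)
    have p1 := dvd_ρ (show f k * f l * f i ∣ P from ⟨f j, by ring⟩) (Coc.coc (hg.of_le hn) k l i)
    have p2 := dvd_ρ (show f l * f i * f j ∣ P from ⟨f k, by ring⟩) (Coc.coc (hg.of_le hn) l i j)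
    simp only [map_sub, map_mul, map_pow, map_one, ρ_algebraMap, ρ_ρ, pow_one] at e1 e2 e3 e4 p1 p2
    simp only [c, map_sub, map_add, map_mul, ρ_ρ]
    have hz : tl t P ^ 1 ∣ ρ hikl (w i k l) + ρ hijk (w i j k) * ρ (show f k * f l ∣ P from ⟨f i * f j, by ring⟩) (g k l) -
        ρ hijl (w i j l) - ρ (show f i * f j ∣ P from ⟨f k * f l, by ring⟩) (g i j) * ρ hjkl (w j k l) := by
      refine dvd_cancel ht (n := n) (show tl t P ^ (n + 1) ∣ _ from ⟨0, ?_⟩)
      linear_combination (-1 : Loc P) * e2 - ρ (show f k * f l ∣ P from ⟨f i * f j, by ring⟩) (g k l) * e1 +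
        e3 + ρ (show f i * f j ∣ P from ⟨f k * f l, by ring⟩) (g i j) * e4
    rw [pow_one] at hz
    obtain ⟨a, ha⟩ := hz
    obtain ⟨b₁, hb₁⟩ := p1
    obtain ⟨b₂, hb₂⟩ := p2
    set gli := ρ (show f l * f i ∣ P from ⟨f j * f k, by ring⟩) (g l i)
    exact ⟨-(a * gli) + ρ hijk (w i j k) * b₁ - ρ hjkl (w j k l) * b₂,
      by linear_combination (-gli) * ha + ρ hijk (w i j k) * hb₁ - ρ hjkl (w j k l) * hb₂⟩
  obtain ⟨d, hd⟩ := hc
  let g' : ∀ i j, Loc (f i * f j) := fun i j => g i j * (1 - tl t (f i * f j) ^ n * d i j)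
  have hclose : ∀ i j, tl t (f i * f j) ^ n ∣ g' i j - g i j := fun i j =>
    ⟨-(g i j * d i j), by simp only [g']; ring⟩
  have hcoc : ∀ i j k, tl t (f i * f j * f k) ^ (n + 1) ∣
      ρ (dvd_mul_right (f i * f j) (f k)) (g' i j) * ρ (show f j * f k ∣ f i * f j * f k from ⟨f i, by ring⟩) (g' j k) -
        ρ (show f i * f k ∣ f i * f j * f k from ⟨f j, by ring⟩) (g' i k) := by
    intro i j k
    obtain ⟨r, hr⟩ := mem_map_iff_dvd.1 (hd i j k)
    obtain ⟨s, hs⟩ := dvd_ρ (show f i * f k ∣ f i * f j * f k from ⟨f j, by ring⟩)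
      (Coc.mul_inv (hg.of_le hn) i k)
    obtain ⟨n', rfl⟩ : ∃ n', n = n' + 1 := ⟨n - 1, by omega⟩
    simp only [map_sub, map_mul, map_pow, map_one, ρ_ρ, ρ_algebraMap, pow_one] at hs
    simp only [g', c, map_sub, map_mul, map_pow, map_one, ρ_algebraMap] at hr ⊢
    set T := tl t (f i * f j * f k)
    set dij := ρ (dvd_mul_right (f i * f j) (f k)) (d i j)
    set djk := ρ (show f j * f k ∣ f i * f j * f k from ⟨f i, by ring⟩) (d j k)
    set dik := ρ (show f i * f k ∣ f i * f j * f k from ⟨f j, by ring⟩) (d i k)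
    set gij := ρ (dvd_mul_right (f i * f j) (f k)) (g i j)
    set gjk := ρ (show f j * f k ∣ f i * f j * f k from ⟨f i, by ring⟩) (g j k)
    set gik := ρ (show f i * f k ∣ f i * f j * f k from ⟨f j, by ring⟩) (g i k)
    set gki := ρ (show f k * f i ∣ f i * f j * f k from ⟨f j, by ring⟩) (g k i)
    refine ⟨gik * r - w i j k * s + T ^ n' * gij * gjk * dij * djk - T ^ n' * w i j k * (dij + djk), ?_⟩
    have he := hw i j k
    linear_combination (1 - T ^ (n' + 1) * (dij + djk)) * he + T ^ (n' + 1) * gik * hr -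
      T ^ (n' + 1) * w i j k * hs
  refine ⟨g', ⟨hcoc, fun i => ?_⟩, hclose⟩
  obtain ⟨z, hz⟩ : tl t (f i * f i) ^ n ∣ g' i i - 1 := (hg.congr hclose).self i
  have hdvd : f i * f i ∣ f i * f i * f i := dvd_mul_right _ _
  obtain ⟨r, hr⟩ := hcoc i i i
  have h1 : tl t (f i * f i * f i) ^ (n + 1) ∣ ρ hdvd (g' i i - 1) := by
    have hz' := congrArg (ρ hdvd) hz
    obtain ⟨n', rfl⟩ : ∃ n', n = n' + 1 := ⟨n - 1, by omega⟩
    simp only [map_sub, map_one, map_mul, map_pow, ρ_algebraMap] at hz' hr ⊢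
    set G := ρ hdvd (g' i i)
    refine ⟨r - tl t (f i * f i * f i) ^ n' * ρ hdvd z * ρ hdvd z, ?_⟩
    linear_combination hr - (G - 1 + tl t (f i * f i * f i) ^ (n' + 1) * ρ hdvd z) * hz'
  rw [← mem_map_pow_iff] at h1
  obtain ⟨m, hm⟩ := pow_mul_mem_of_ρ_mem (y := f i * f i) ⟨f i, by ring⟩ _ h1
  rw [← mem_map_pow_iff]
  exact (Ideal.unit_mul_mem_iff_mem _ (isUnit_pow _ m)).1 hm

/-- A compatible family of lifts. -/
theorem exists_family (ht : IsSMulRegular A t) (hH : HTwo f (Ideal.span {t})) {g : ∀ i j, Loc (f i * f j)}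
    (hg : Coc f t 1 g) :
    ∃ G : ℕ → ∀ i j, Loc (f i * f j), (∀ n, Coc f t n (G n)) ∧ G 1 = g ∧
      ∀ n m, n ≤ m → ∀ i j, tl t (f i * f j) ^ n ∣ G m i j - G n i j := by
  classical
  choose L hL hL' using fun (n : ℕ) (g : {g : ∀ i j, Loc (f i * f j) // Coc f t (n + 1) g}) =>
    Coc.exists_lift ht hH (Nat.le_add_left 1 n) g.2
  let F : ∀ n, {g : ∀ i j, Loc (f i * f j) // Coc f t (n + 1) g} :=
    fun n => Nat.rec ⟨g, hg⟩ (fun n g => ⟨L n g, hL n g⟩) n
  let G : ℕ → ∀ i j, Loc (f i * f j) := fun n => (F (n - 1)).1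
  have hstep : ∀ n i j, tl t (f i * f j) ^ (n + 1) ∣ G (n + 2) i j - G (n + 1) i j := fun n i j =>
    hL' n (F n) i j
  refine ⟨G, fun n => ?_, rfl, fun n m hnm i j => ?_⟩
  · rcases n with _ | n
    · exact (F 0).2.of_le (Nat.zero_le _)
    · exact (F n).2
  · induction m, hnm using Nat.le_induction with
    | base => simp
    | succ m hnm ih =>
      rcases n with _ | n
      · simp
      obtain ⟨k, rfl⟩ : ∃ k, m = k + 1 := ⟨m - 1, by omega⟩
      have := dvd_add ((pow_dvd_pow _ (by omega : n + 1 ≤ k + 1)).trans (hstep k i j)) ih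
      simpa using this

end Groth.Agent.ParaFormal
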