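import Groth.Agent.ParaFormal.Graded
import Mathlib.RingTheory.Filtration
import Mathlib.Algebra.Ring.GeomSum
import Mathlib.LinearAlgebra.Pi

/-!
A line bundle on `⋃ D(f i)` which is trivial modulo an ideal `J` with free graded pieces is
trivial, provided `A/J` has depth at least three along the `f i`.

The formal trivialisation is built by successive approximation; it is algebraised by an
Artin–Rees argument applied to the finite linear system defining the sections.
-/

set_option autoImplicit false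

universe u

namespace Groth.Agent.ParaFormal

variable {A : Type u} [CommRing A]

/-- Independence in a localization. -/
theorem GrData.indep_loc {J : Ideal A} (G : GrData J) (hG : G.Indep ⊥) {a : A} {n : ℕ}
    {t : Fin (G.r n) → Loc a}
    (h : ∑ i, algebraMap A (Loc a) (G.b n i) * t i ∈ (J ^ (n + 1)).map (algebraMap A (Loc a))) (i : Fin (G.r n)) :
    t i ∈ J.map (algebraMap A (Loc a)) := by
  choose m r hr using fun i => exists_num (t i)
  let M := Finset.univ.sup m
  let r' : Fin (G.r n) → A := fun i => a ^ (M - m i) * r i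
  have hr' : ∀ i, algebraMap A (Loc a) a ^ M * t i = algebraMap A (Loc a) (r' i) := fun i => by
    obtain ⟨e, he⟩ : ∃ e, M = m i + e :=
      ⟨_, (Nat.add_sub_cancel' (Finset.le_sup (f := m) (Finset.mem_univ i))).symm⟩
    simp only [r', map_mul, map_pow, ← hr, he, Nat.add_sub_cancel_left, pow_add]
    ring
  have h1 : algebraMap A (Loc a) (∑ i, G.b n i * r' i) ∈ (J ^ (n + 1)).map (algebraMap A (Loc a)) := by
    rw [map_sum]
    simp only [map_mul, ← hr']
    rw [show ∑ i, algebraMap A (Loc a) (G.b n i) * (algebraMap A (Loc a) a ^ M * t i) =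
      algebraMap A (Loc a) a ^ M * ∑ i, algebraMap A (Loc a) (G.b n i) * t i by
      rw [Finset.mul_sum]; exact Finset.sum_congr rfl fun i _ => by ring]
    exact Ideal.mul_mem_left _ _ h
  obtain ⟨k, hk⟩ := mem_map_iff.1 h1
  have h2 : a ^ k * r' i ∈ J := by
    have := hG n (fun i => a ^ k * r' i) (by
      rw [bot_sup_eq]
      rw [Finset.mul_sum] at hk
      convert hk using 1
      exact Finset.sum_congr rfl fun i _ => by ring) i
    rwa [bot_sup_eq] at this
  refine (Ideal.unit_mul_mem_iff_mem _ (isUnit_pow a M)).1 ?_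
  rw [hr']
  exact mem_map_iff.2 ⟨k, h2⟩

/-- Coordinates in a localization. -/
theorem GrData.exists_coord {J : Ideal A} (G : GrData J) {a : A} {n : ℕ} {e : Loc a}
    (he : e ∈ (J ^ n).map (algebraMap A (Loc a))) :
    ∃ t : Fin (G.r n) → Loc a,
      e - ∑ i, algebraMap A (Loc a) (G.b n i) * t i ∈ (J ^ (n + 1)).map (algebraMap A (Loc a)) := by
  have h := Ideal.map_mono (f := algebraMap A (Loc a)) (G.span n) he
  rw [Ideal.map_sup, Ideal.map_span, ← Set.range_comp] at h
  obtain ⟨s, hs, w, hw, rfl⟩ := Submodule.mem_sup.1 h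
  obtain ⟨t, rfl⟩ := Ideal.mem_span_range_iff_exists_fun.1 hs
  refine ⟨t, ?_⟩
  convert hw using 1
  simp only [Function.comp_apply, mul_comm (t _)]
  ring

variable {ι : Type*} [Fintype ι]

section

variable {f : ι → A} {J : Ideal A} (g : ∀ i j, Loc (f i * f j))

/-- One step of the successive approximation. -/
theorem exists_step (G : GrData J) (hG : G.Indep ⊥) (hH : HOne f J)
    (hg : ∀ i j k, ρ (dvd_mul_right (f i * f j) (f k)) (g i j) *
        ρ (show f j * f k ∣ f i * f j * f k from ⟨f i, by ring⟩) (g j k) =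
        ρ (show f i * f k ∣ f i * f j * f k from ⟨f j, by ring⟩) (g i k))
    (u₀ w₀ : ∀ i, Loc (f i)) (huw : ∀ i, u₀ i * w₀ i - 1 ∈ J.map (algebraMap A (Loc (f i))))
    (hu₀ : ∀ i j, ρ (dvd_mul_right (f i) (f j)) (u₀ i) - g i j * ρ (dvd_mul_left (f j) (f i)) (u₀ j) ∈
      J.map (algebraMap A (Loc (f i * f j))))
    (n : ℕ) (v : ∀ i, Loc (f i))
    (hv : ∀ i j, ρ (dvd_mul_right (f i) (f j)) (v i) - g i j * ρ (dvd_mul_left (f j) (f i)) (v j) ∈
      (J ^ n).map (algebraMap A (Loc (f i * f j)))) :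
    ∃ v' : ∀ i, Loc (f i),
      (∀ i j, ρ (dvd_mul_right (f i) (f j)) (v' i) - g i j * ρ (dvd_mul_left (f j) (f i)) (v' j) ∈
        (J ^ (n + 1)).map (algebraMap A (Loc (f i * f j)))) ∧
      ∀ i, v' i - v i ∈ (J ^ n).map (algebraMap A (Loc (f i))) := by
  classical
  choose t ht using fun i j => G.exists_coord (hv i j)
  have hcoc : ∀ i j k α, ρ (show f i * f k ∣ f i * f j * f k from ⟨f j, by ring⟩) (t i k α) -
      ρ (dvd_mul_right (f i * f j) (f k)) (t i j α) -
      ρ (dvd_mul_right (f i * f j) (f k)) (g i j) *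
        ρ (show f j * f k ∣ f i * f j * f k from ⟨f i, by ring⟩) (t j k α) ∈
      J.map (algebraMap A (Loc (f i * f j * f k))) := by
    intro i j k
    refine fun α => G.indep_loc hG (t := fun α => ρ (show f i * f k ∣ f i * f j * f k from ⟨f j, by ring⟩) (t i k α) -
      ρ (dvd_mul_right (f i * f j) (f k)) (t i j α) -
      ρ (dvd_mul_right (f i * f j) (f k)) (g i j) *
        ρ (show f j * f k ∣ f i * f j * f k from ⟨f i, by ring⟩) (t j k α)) ?_ α
    have h1 := ρ_mem (show f i * f k ∣ f i * f j * f k from ⟨f j, by ring⟩) (ht i k)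
    have h2 := ρ_mem (dvd_mul_right (f i * f j) (f k)) (ht i j)
    have h3 := ρ_mem (show f j * f k ∣ f i * f j * f k from ⟨f i, by ring⟩) (ht j k)
    have h4 := add_mem (Ideal.sub_mem _ h2 h1)
      (Ideal.mul_mem_left _ (ρ (dvd_mul_right (f i * f j) (f k)) (g i j)) h3)
    convert h4 using 1
    simp only [map_sub, map_sum, map_mul, ρ_algebraMap, ρ_ρ, Finset.mul_sum, mul_sub,
      Finset.sum_sub_distrib, ← hg i j k]
    simp only [mul_left_comm (ρ (dvd_mul_right (f i * f j) (f k)) (g i j))]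
    ring
  have hwg : ∀ i j, ρ (dvd_mul_right (f i) (f j)) (w₀ i) * g i j - ρ (dvd_mul_left (f j) (f i)) (w₀ j) ∈
      J.map (algebraMap A (Loc (f i * f j))) := by
    intro i j
    have h1 := ρ_mem (dvd_mul_right (f i) (f j)) (huw i)
    have h2 := ρ_mem (dvd_mul_left (f j) (f i)) (huw j)
    have h3 := hu₀ i j
    simp only [map_sub, map_mul, map_one] at h1 h2
    have h4 := add_mem (Ideal.sub_mem _ (Ideal.mul_mem_left _ (ρ (dvd_mul_left (f j) (f i)) (w₀ j)) h1)
      (Ideal.mul_mem_left _ (g i j * ρ (dvd_mul_right (f i) (f j)) (w₀ i)) h2))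
      (Ideal.mul_mem_left _ (-(ρ (dvd_mul_right (f i) (f j)) (w₀ i) * ρ (dvd_mul_left (f j) (f i)) (w₀ j))) h3)
    convert h4 using 1
    ring
  have hσ : ∀ α, ∃ d : ∀ i, Loc (f i), ∀ i j, ρ (dvd_mul_right (f i) (f j)) (w₀ i) * t i j α -
      (ρ (dvd_mul_right (f i) (f j)) (d i) - ρ (dvd_mul_left (f j) (f i)) (d j)) ∈
        J.map (algebraMap A (Loc (f i * f j))) := by
    intro α
    refine hH (fun i j => ρ (dvd_mul_right (f i) (f j)) (w₀ i) * t i j α) fun i j k => ?_
    have h1 := hcoc i j k α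
    have h2 := ρ_mem (dvd_mul_right (f i * f j) (f k)) (hwg i j)
    simp only [map_sub, map_mul, ρ_ρ] at h2 ⊢
    have h5 := Ideal.sub_mem _ (Ideal.neg_mem_iff _ |>.2 (Ideal.mul_mem_left _
      (ρ (show f i ∣ f i * f j * f k from ⟨f j * f k, by ring⟩) (w₀ i)) h1))
      (Ideal.mul_mem_right (ρ (show f j * f k ∣ f i * f j * f k from ⟨f i, by ring⟩) (t j k α)) _ h2)
    convert h5 using 1
    ring
  choose d hd using hσ
  refine ⟨fun i => v i - ∑ α, algebraMap A (Loc (f i)) (G.b n α) * (u₀ i * d α i), fun i j => ?_, fun i => ?_⟩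
  · have hbm : ∀ α, ∀ z ∈ J.map (algebraMap A (Loc (f i * f j))),
        algebraMap A (Loc (f i * f j)) (G.b n α) * z ∈ (J ^ (n + 1)).map (algebraMap A (Loc (f i * f j))) := by
      intro α z hz
      rw [pow_succ, Ideal.map_mul]
      exact Ideal.mul_mem_mul (Ideal.mem_map_of_mem _ (G.mem n α)) hz
    have hterm : ∀ α, t i j α - (ρ (dvd_mul_right (f i) (f j)) (u₀ i) * ρ (dvd_mul_right (f i) (f j)) (d α i) -
        g i j * (ρ (dvd_mul_left (f j) (f i)) (u₀ j) * ρ (dvd_mul_left (f j) (f i)) (d α j))) ∈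
        J.map (algebraMap A (Loc (f i * f j))) := by
      intro α
      have h1 := Ideal.mul_mem_left _ (ρ (dvd_mul_right (f i) (f j)) (u₀ i)) (hd α i j)
      have h2 := ρ_mem (dvd_mul_right (f i) (f j)) (huw i)
      simp only [map_sub, map_mul, map_one] at h2
      have h3 := Ideal.sub_mem _ (Ideal.sub_mem _ h1 (Ideal.mul_mem_right (t i j α) _ h2))
        (Ideal.mul_mem_right (ρ (dvd_mul_left (f j) (f i)) (d α j)) _ (hu₀ i j))
      convert h3 using 1
      ring
    have h := add_mem (ht i j) (Ideal.sum_mem _ (t := Finset.univ) fun α _ => hbm α _ (hterm α))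
    convert h using 1
    simp only [map_sub, map_sum, map_mul, ρ_algebraMap, mul_sub, Finset.sum_sub_distrib, Finset.mul_sum]
    simp only [mul_left_comm (g i j)]
    ring
  · rw [sub_sub_cancel_left]
    exact Submodule.neg_mem _ (Submodule.sum_mem _ fun α _ =>
      Ideal.mul_mem_right _ _ (Ideal.mem_map_of_mem _ (G.mem n α)))

/-- A family is a section of the line bundle with transition functions `g`. -/
def IsSec (s : ∀ i, Loc (f i)) : Prop :=
  ∀ i j, ρ (dvd_mul_right (f i) (f j)) (s i) = g i j * ρ (dvd_mul_left (f j) (f i)) (s j)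

/-- A family is a section of the inverse bundle. -/
def IsDualSec (s : ∀ i, Loc (f i)) : Prop :=
  ∀ i j, g i j * ρ (dvd_mul_right (f i) (f j)) (s i) = ρ (dvd_mul_left (f j) (f i)) (s j)

/-- There is a section of `g` equal to a power of `f k` on `D(f k)`. -/
theorem exists_sec
    (hg : ∀ i j k, ρ (dvd_mul_right (f i * f j) (f k)) (g i j) *
        ρ (show f j * f k ∣ f i * f j * f k from ⟨f i, by ring⟩) (g j k) =
        ρ (show f i * f k ∣ f i * f j * f k from ⟨f j, by ring⟩) (g i k))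
    (hself : ∀ i, g i i = 1) (k : ι) :
    ∃ N, ∀ N', N ≤ N' → ∃ s : ∀ i, Loc (f i), IsSec g s ∧ s k = algebraMap A (Loc (f k)) (f k) ^ N' := by
  classical
  choose m d hd using fun i => exists_ρ_eq (dvd_refl _) (dvd_mul_right (f i) (f k)) (g i k)
  let N := Finset.univ.sup m
  let d' : ∀ i, Loc (f i) := fun i => algebraMap A (Loc (f i)) (f k) ^ (N - m i) * d i
  have hd' : ∀ i, ρ (dvd_mul_right (f i) (f k)) (d' i) = algebraMap A (Loc (f i * f k)) (f k) ^ N * g i k :=
    fun i => by
      simp only [d', map_mul, map_pow, ρ_algebraMap, hd, ← mul_assoc, ← pow_add,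
        Nat.sub_add_cancel (Finset.le_sup (f := m) (Finset.mem_univ i)), N]
  have hz : ∀ i j, ∃ M, algebraMap A (Loc (f i * f j)) (f k) ^ M *
      (ρ (dvd_mul_right (f i) (f j)) (d' i) - g i j * ρ (dvd_mul_left (f j) (f i)) (d' j)) ∈
        (⊥ : Ideal A).map (algebraMap A (Loc (f i * f j))) := by
    intro i j
    refine pow_mul_mem_of_ρ_mem (dvd_refl _) (dvd_mul_right (f i * f j) (f k)) ?_
    have e1 := congrArg (ρ (show f i * f k ∣ f i * f j * f k from ⟨f j, by ring⟩)) (hd' i)
    have e2 := congrArg (ρ (show f j * f k ∣ f i * f j * f k from ⟨f i, by ring⟩)) (hd' j)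
    simp only [map_mul, map_pow, ρ_algebraMap, ρ_ρ] at e1 e2
    simp only [map_sub, map_mul, ρ_ρ, Ideal.map_bot, Ideal.mem_bot]
    rw [e1, e2, ← hg i j k]
    ring
  choose M hM using hz
  have hk : ∃ M₀, algebraMap A (Loc (f k)) (f k) ^ M₀ * (d' k - algebraMap A (Loc (f k)) (f k) ^ N) ∈
      (⊥ : Ideal A).map (algebraMap A (Loc (f k))) := by
    refine pow_mul_mem_of_ρ_mem (dvd_refl _) (dvd_mul_right (f k) (f k)) ?_
    simp only [map_sub, map_pow, ρ_algebraMap, hd', hself, mul_one, sub_self, Submodule.zero_mem]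
  obtain ⟨M₀, hM₀⟩ := hk
  let Mx := Finset.univ.sup (fun p : ι × ι => M p.1 p.2) + M₀
  refine ⟨N + Mx, fun N' hN' => ⟨fun i => algebraMap A (Loc (f i)) (f k) ^ (N' - N) * d' i, fun i j => ?_, ?_⟩⟩
  · obtain ⟨e, he⟩ : ∃ e, N' - N = M i j + e := ⟨_, (Nat.add_sub_cancel' (show M i j ≤ N' - N by
      have := Finset.le_sup (f := fun p : ι × ι => M p.1 p.2) (Finset.mem_univ (i, j))
      simp only at this
      omega)).symm⟩
    have h0 := hM i j
    rw [Ideal.map_bot, Ideal.mem_bot] at h0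
    simp only [map_mul, map_pow, ρ_algebraMap, he, pow_add]
    linear_combination algebraMap A (Loc (f i * f j)) (f k) ^ e * h0
  · obtain ⟨e, he⟩ : ∃ e, N' - N = M₀ + e := ⟨_, (Nat.add_sub_cancel' (by omega)).symm⟩
    rw [Ideal.map_bot, Ideal.mem_bot] at hM₀
    show algebraMap A (Loc (f k)) (f k) ^ (N' - N) * d' k = _
    rw [show N' = M₀ + e + N by omega, Nat.add_sub_cancel, pow_add, pow_add]
    linear_combination algebraMap A (Loc (f k)) (f k) ^ e * hM₀

end

variable [IsLocalRing A] [IsNoetherianRing A]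

open IsLocalRing in
/-- Main theorem: a cocycle trivial modulo `J` is trivial. -/
theorem exists_triv {J : Ideal A} (hJ : J ≠ ⊤) (G : GrData J) (hG : G.Indep ⊥) (f : ι → A)
    (hf : maximalIdeal A ≤ (Ideal.span (Set.range f)).radical) {x y z : A}
    (hxm : x ∈ maximalIdeal A) (hym : y ∈ maximalIdeal A) (hzm : z ∈ maximalIdeal A)
    (hx : RegMod J x) (hy : RegMod (J ⊔ Ideal.span {x}) y)
    (hz : RegMod (J ⊔ Ideal.span {x} ⊔ Ideal.span {y}) z)
    (g : ∀ i j, Loc (f i * f j)) (hgu : ∀ i j, IsUnit (g i j)) (hself : ∀ i, g i i = 1)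
    (hg : ∀ i j k, ρ (dvd_mul_right (f i * f j) (f k)) (g i j) *
        ρ (show f j * f k ∣ f i * f j * f k from ⟨f i, by ring⟩) (g j k) =
        ρ (show f i * f k ∣ f i * f j * f k from ⟨f j, by ring⟩) (g i k))
    (u₀ w₀ : ∀ i, Loc (f i)) (huw : ∀ i, u₀ i * w₀ i - 1 ∈ J.map (algebraMap A (Loc (f i))))
    (hu₀ : ∀ i j, ρ (dvd_mul_right (f i) (f j)) (u₀ i) - g i j * ρ (dvd_mul_left (f j) (f i)) (u₀ j) ∈
      J.map (algebraMap A (Loc (f i * f j)))) :
    ∃ σ : ∀ i, Loc (f i), (∀ i, IsUnit (σ i)) ∧ IsSec g σ := by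
  classical
  have hxr := hf hxm
  have hyr := hf hym
  have hzr := hf hzm
  -- regularity modulo powers of J, and modulo 0
  have hb1 : RegMod ((⊥ : Ideal A) ⊔ J) x := by rwa [bot_sup_eq]
  have hGx : G.Indep (⊥ ⊔ Ideal.span {x}) := G.indep_sup hG hb1
  have hby : RegMod ((⊥ ⊔ Ideal.span {x}) ⊔ J) y := by rwa [bot_sup_eq, sup_comm]
  have hxp : ∀ n, RegMod (J ^ n) x := fun n => by simpa using G.regMod_pow hG hb1 n
  have hyp : ∀ n, RegMod (J ^ n ⊔ Ideal.span {x}) y := fun n => by
    have := G.regMod_pow hGx hby n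
    rwa [bot_sup_eq, sup_comm] at this
  have hx0 : RegMod (⊥ : Ideal A) x := G.regMod hJ hG hb1
  have hy0 : RegMod ((⊥ : Ideal A) ⊔ Ideal.span {x}) y := G.regMod hJ hGx hby
  have hsep : ∀ n, Sep f (J ^ n) := fun n => sep_of_regMod hxr (hxp n)
  have hglue : ∀ n, Glue f (J ^ n) := fun n => glue_of_regMod hxr hyr (hxp n) (hyp n)
  have hglue0 : Glue f (⊥ : Ideal A) := glue_of_regMod hxr hyr hx0 hy0
  have hH : HOne f J := hOne_of_regMod hxr hyr hzr hx hy hz
  -- the approximations
  have hvn : ∀ n, ∃ v : ∀ i, Loc (f i),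
      (∀ i j, ρ (dvd_mul_right (f i) (f j)) (v i) - g i j * ρ (dvd_mul_left (f j) (f i)) (v j) ∈
        (J ^ n).map (algebraMap A (Loc (f i * f j)))) ∧
      ∀ i, v i - u₀ i ∈ J.map (algebraMap A (Loc (f i))) := by
    intro n
    induction n with
    | zero => exact ⟨u₀, fun i j => by simp [Ideal.map_top], fun i => by simp⟩
    | succ n ih =>
      obtain ⟨v, hv, hvu⟩ := ih
      rcases Nat.eq_zero_or_pos n with rfl | hn
      · exact ⟨u₀, fun i j => by rw [pow_one]; exact hu₀ i j, fun i => by simp⟩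
      · obtain ⟨v', hv', hvv⟩ := exists_step g G hG hH hg u₀ w₀ huw hu₀ n v hv
        refine ⟨v', hv', fun i => ?_⟩
        have := add_mem (Ideal.map_mono (Ideal.pow_le_self hn.ne') (hvv i)) (hvu i)
        simpa using this
  choose v hv hvu using hvn
  -- inverses
  have hwn : ∀ n i, ∃ w, v n i * w - 1 ∈ (J ^ n).map (algebraMap A (Loc (f i))) := by
    intro n i
    have hε : 1 - v n i * w₀ i ∈ J.map (algebraMap A (Loc (f i))) := by
      have := Ideal.sub_mem _ (Submodule.neg_mem _ (huw i)) (Ideal.mul_mem_right (w₀ i) _ (hvu n i))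
      convert this using 1
      ring
    refine ⟨w₀ i * ∑ k ∈ Finset.range n, (1 - v n i * w₀ i) ^ k, ?_⟩
    have h1 : v n i * (w₀ i * ∑ k ∈ Finset.range n, (1 - v n i * w₀ i) ^ k) - 1 =
        - (1 - v n i * w₀ i) ^ n := by
      linear_combination mul_neg_geom_sum (1 - v n i * w₀ i) n
    rw [h1, Ideal.map_pow]
    exact Submodule.neg_mem _ (Ideal.pow_mem_pow hε n)
  choose w hw using hwn
  have hwg : ∀ n i j, ρ (dvd_mul_right (f i) (f j)) (w n i) * g i j -
      ρ (dvd_mul_left (f j) (f i)) (w n j) ∈ (J ^ n).map (algebraMap A (Loc (f i * f j))) := by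
    intro n i j
    have h1 := ρ_mem (dvd_mul_right (f i) (f j)) (hw n i)
    have h2 := ρ_mem (dvd_mul_left (f j) (f i)) (hw n j)
    simp only [map_sub, map_mul, map_one] at h1 h2
    have h4 := add_mem (Ideal.sub_mem _ (Ideal.mul_mem_left _ (ρ (dvd_mul_left (f j) (f i)) (w n j)) h1)
      (Ideal.mul_mem_left _ (g i j * ρ (dvd_mul_right (f i) (f j)) (w n i)) h2))
      (Ideal.mul_mem_left _ (-(ρ (dvd_mul_right (f i) (f j)) (w n i) *
        ρ (dvd_mul_left (f j) (f i)) (w n j))) (hv n i j))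
    convert h4 using 1
    ring
  -- values of sections and dual sections modulo J ^ n
  have hα : ∀ n (s : ∀ i, Loc (f i)), IsSec g s → ∃ a : A, ∀ i,
      s i * w n i - algebraMap A (Loc (f i)) a ∈ (J ^ n).map (algebraMap A (Loc (f i))) := by
    intro n s hs
    refine hglue n (fun i => s i * w n i) fun i j => ?_
    rw [map_mul, map_mul, hs i j]
    have := Ideal.mul_mem_left _ (ρ (dvd_mul_left (f j) (f i)) (s j)) (hwg n i j)
    convert this using 1
    ring
  have hβ : ∀ n (t : ∀ i, Loc (f i)), IsDualSec g t → ∃ b : A, ∀ i,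
      t i * v n i - algebraMap A (Loc (f i)) b ∈ (J ^ n).map (algebraMap A (Loc (f i))) := by
    intro n t ht
    refine hglue n (fun i => t i * v n i) fun i j => ?_
    rw [map_mul, map_mul, ← ht i j]
    have := Ideal.mul_mem_left _ (ρ (dvd_mul_right (f i) (f j)) (t i)) (hv n i j)
    convert this using 1
    ring
  have hc : ∀ s t : ∀ i, Loc (f i), IsSec g s → IsDualSec g t →
      ∃ c : A, ∀ i, algebraMap A (Loc (f i)) c = s i * t i := by
    intro s t hs ht
    obtain ⟨c, hc⟩ := hglue0 (fun i => s i * t i) fun i j => by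
      rw [map_mul, map_mul, hs i j, ← ht i j, Ideal.map_bot, Ideal.mem_bot]
      ring
    refine ⟨c, fun i => ?_⟩
    have := hc i
    rw [Ideal.map_bot, Ideal.mem_bot, sub_eq_zero] at this
    exact this.symm
  have hprod : ∀ n (s t : ∀ i, Loc (f i)) (a b c : A),
      (∀ i, s i * w n i - algebraMap A (Loc (f i)) a ∈ (J ^ n).map (algebraMap A (Loc (f i)))) →
      (∀ i, t i * v n i - algebraMap A (Loc (f i)) b ∈ (J ^ n).map (algebraMap A (Loc (f i)))) →
      (∀ i, algebraMap A (Loc (f i)) c = s i * t i) → a * b - c ∈ J ^ n := by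
    intro n s t a b c ha hb hc
    refine hsep n _ fun i => ?_
    rw [map_sub, map_mul, hc]
    have := Ideal.sub_mem _ (Ideal.sub_mem _ (Ideal.mul_mem_left _ (s i * t i) (hw n i))
      (Ideal.mul_mem_left _ (s i * w n i) (hb i))) (Ideal.mul_mem_right (algebraMap A (Loc (f i)) b) _ (ha i))
    convert this using 1
    ring
  -- sections through powers of f k
  choose g' hgg' using fun i j => (hgu i j).exists_right_inv
  have hg' : ∀ i j k, ρ (dvd_mul_right (f i * f j) (f k)) (g' i j) *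
      ρ (show f j * f k ∣ f i * f j * f k from ⟨f i, by ring⟩) (g' j k) =
      ρ (show f i * f k ∣ f i * f j * f k from ⟨f j, by ring⟩) (g' i k) := by
    intro i j k
    have e1 := congrArg (ρ (dvd_mul_right (f i * f j) (f k))) (hgg' i j)
    have e2 := congrArg (ρ (show f j * f k ∣ f i * f j * f k from ⟨f i, by ring⟩)) (hgg' j k)
    have e3 := congrArg (ρ (show f i * f k ∣ f i * f j * f k from ⟨f j, by ring⟩)) (hgg' i k)
    rw [map_mul, map_one] at e1 e2 e3
    rw [← hg i j k] at e3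
    linear_combination
      (ρ (show f i * f k ∣ f i * f j * f k from ⟨f j, by ring⟩) (g' i k) *
        ρ (dvd_mul_right (f i * f j) (f k)) (g i j) * ρ (dvd_mul_right (f i * f j) (f k)) (g' i j)) * e2 +
      ρ (show f i * f k ∣ f i * f j * f k from ⟨f j, by ring⟩) (g' i k) * e1 -
      (ρ (dvd_mul_right (f i * f j) (f k)) (g' i j) *
        ρ (show f j * f k ∣ f i * f j * f k from ⟨f i, by ring⟩) (g' j k)) * e3
  have hself' : ∀ i, g' i i = 1 := fun i => by simpa [hself] using hgg' i i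
  choose N₁ hN₁ using exists_sec g hg hself
  choose N₂ hN₂ using exists_sec g' hg' hself'
  let N := Finset.univ.sup N₁ + Finset.univ.sup N₂
  choose s hs hsk using fun k => hN₁ k N ((Finset.le_sup (f := N₁) (Finset.mem_univ k)).trans (Nat.le_add_right _ _))
  choose t ht₀ htk using fun k => hN₂ k N ((Finset.le_sup (f := N₂) (Finset.mem_univ k)).trans (Nat.le_add_left _ _))
  have ht : ∀ k, IsDualSec g (t k) := fun k i j => by
    rw [ht₀ k i j, ← mul_assoc, hgg', one_mul]
  choose α hαs using fun n k => hα n (s k) (hs k)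
  choose β hβt using fun n k => hβ n (t k) (ht k)
  choose c hcst using fun j i => hc (s j) (t i) (hs j) (ht i)
  -- the finite linear system satisfied by the formal dual trivialisation
  choose K Gn hGn using fun i j => exists_num (g i j)
  have hM : ∀ i j, ∃ M : ℕ, (f i * f j) ^ M * ((f i * f j) ^ K i j * c j i - Gn i j * (f i ^ N * f j ^ N)) = 0 := by
    intro i j
    have h1 : algebraMap A (Loc (f i * f j)) ((f i * f j) ^ K i j * c j i - Gn i j * (f i ^ N * f j ^ N)) ∈
        (⊥ : Ideal A).map (algebraMap A (Loc (f i * f j))) := by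
      have e1 := congrArg (ρ (dvd_mul_right (f i) (f j))) (hcst j i i)
      rw [ρ_algebraMap, map_mul, htk, hs j i j, hsk] at e1
      simp only [map_pow, ρ_algebraMap] at e1
      rw [Ideal.map_bot, Ideal.mem_bot]
      simp only [map_sub, map_mul, map_pow, e1, ← hGn]
      ring
    obtain ⟨M, hM⟩ := mem_map_iff.1 h1
    exact ⟨M, hM⟩
  choose M hM using hM
  let P : ι × ι → A := fun p => (f p.1 * f p.2) ^ M p.1 p.2 * ((f p.1 * f p.2) ^ K p.1 p.2 * c p.2 p.2)
  let Q : ι × ι → A := fun p => (f p.1 * f p.2) ^ M p.1 p.2 * (Gn p.1 p.2 * (f p.1 ^ N * f p.2 ^ N))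
  let E : (ι → A) →ₗ[A] (ι × ι → A) :=
    LinearMap.pi fun p => P p • LinearMap.proj p.1 - Q p • LinearMap.proj p.2
  obtain ⟨k, hk⟩ := Ideal.exists_pow_inf_eq_pow_smul J (LinearMap.range E)
  let n := k + 1
  have hEβ : E (β n) ∈ J ^ n • (⊤ : Submodule A (ι × ι → A)) := by
    have hcomp : ∀ p, E (β n) p ∈ J ^ n := by
      rintro ⟨i, j⟩
      have hji := hprod n (s j) (t i) (α n j) (β n i) (c j i) (hαs n j) (hβt n i) (hcst j i)
      have hjj := hprod n (s j) (t j) (α n j) (β n j) (c j j) (hαs n j) (hβt n j) (hcst j j)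
      show P (i, j) * β n i - Q (i, j) * β n j ∈ J ^ n
      have h0 := hM i j
      have := Ideal.sub_mem _
        (Ideal.mul_mem_left _ ((f i * f j) ^ M i j * (f i * f j) ^ K i j * β n j) hji)
        (Ideal.mul_mem_left _ ((f i * f j) ^ M i j * (f i * f j) ^ K i j * β n i) hjj)
      convert this using 1
      simp only [P, Q]
      linear_combination (β n j) * h0
    rw [pi_eq_sum_univ (E (β n))]
    refine Submodule.sum_mem _ fun p _ => ?_
    exact Submodule.smul_mem_smul (hcomp p) trivial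
  have hdec : ∃ y₀ : ι → A, E y₀ = 0 ∧ β n - y₀ ∈ J • (⊤ : Submodule A (ι → A)) := by
    have h1 : E (β n) ∈ J ^ n • (⊤ : Submodule A (ι × ι → A)) ⊓ LinearMap.range E :=
      ⟨hEβ, β n, rfl⟩
    rw [hk n (Nat.le_succ k), show n - k = 1 by omega, pow_one] at h1
    have h2 : E (β n) ∈ Submodule.map E (J • (⊤ : Submodule A (ι → A))) := by
      rw [Submodule.map_smul'', Submodule.map_top]
      exact Submodule.smul_mono le_rfl inf_le_right h1
    obtain ⟨e, he, hee⟩ := h2
    exact ⟨β n - e, by rw [map_sub, hee, sub_self], by rwa [sub_sub_cancel]⟩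
  obtain ⟨y₀, hy₀, hβy⟩ := hdec
  -- the algebraic section
  choose iv hiv using fun i => (isUnit_pow (f i) N).exists_right_inv
  let σ : ∀ i, Loc (f i) := fun i => algebraMap A (Loc (f i)) (y₀ i) * iv i
  have hσ : IsSec g σ := by
    intro i j
    have h1 : P (i, j) * y₀ i = Q (i, j) * y₀ j :=
      sub_eq_zero.1 (congrFun hy₀ (i, j))
    have h2 := congrArg (algebraMap A (Loc (f i * f j))) h1
    have hcjj : algebraMap A (Loc (f i * f j)) (c j j) = algebraMap A (Loc (f i * f j)) (f j) ^ (N + N) := by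
      rw [← ρ_algebraMap (dvd_mul_left (f j) (f i)) (c j j), hcst, htk, hsk, ← pow_add, map_pow, ρ_algebraMap]
    simp only [P, Q, map_mul, map_pow, ← hGn, hcjj, pow_add] at h2
    have hu : IsUnit (algebraMap A (Loc (f i * f j)) (f j) ^ N *
        algebraMap A (Loc (f i * f j)) (f i * f j) ^ M i j *
        algebraMap A (Loc (f i * f j)) (f i * f j) ^ K i j *
        (algebraMap A (Loc (f i * f j)) (f i) ^ N * algebraMap A (Loc (f i * f j)) (f j) ^ N)) := by
      have hi : IsUnit (algebraMap A (Loc (f i * f j)) (f i)) :=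
        isUnit_of_dvd_unit (map_dvd _ (dvd_mul_right (f i) (f j)))
          (IsLocalization.Away.algebraMap_isUnit (f i * f j))
      have hj : IsUnit (algebraMap A (Loc (f i * f j)) (f j)) :=
        isUnit_of_dvd_unit (map_dvd _ (dvd_mul_left (f j) (f i)))
          (IsLocalization.Away.algebraMap_isUnit (f i * f j))
      exact (((hj.pow N).mul (isUnit_pow _ _)).mul (isUnit_pow _ _)).mul ((hi.pow N).mul (hj.pow N))
    refine hu.mul_left_cancel ?_
    have e1 : algebraMap A (Loc (f i * f j)) (f i) ^ N * ρ (dvd_mul_right (f i) (f j)) (iv i) = 1 := by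
      have := congrArg (ρ (dvd_mul_right (f i) (f j))) (hiv i)
      simpa using this
    have e2 : algebraMap A (Loc (f i * f j)) (f j) ^ N * ρ (dvd_mul_left (f j) (f i)) (iv j) = 1 := by
      have := congrArg (ρ (dvd_mul_left (f j) (f i))) (hiv j)
      simpa using this
    simp only [σ, map_mul, ρ_algebraMap]
    linear_combination
      (algebraMap A (Loc (f i * f j)) (f j) ^ N * (algebraMap A (Loc (f i * f j)) (f i) * algebraMap A (Loc (f i * f j)) (f j)) ^ M i j *
        (algebraMap A (Loc (f i * f j)) (f i) * algebraMap A (Loc (f i * f j)) (f j)) ^ K i j * algebraMap A (Loc (f i * f j)) (f j) ^ N *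
        algebraMap A (Loc (f i * f j)) (y₀ i)) * e1 + h2 -
      (algebraMap A (Loc (f i * f j)) (f j) ^ N * (algebraMap A (Loc (f i * f j)) (f i) * algebraMap A (Loc (f i * f j)) (f j)) ^ M i j *
        (algebraMap A (Loc (f i * f j)) (f i) * algebraMap A (Loc (f i * f j)) (f j)) ^ K i j * g i j *
        algebraMap A (Loc (f i * f j)) (f i) ^ N * algebraMap A (Loc (f i * f j)) (y₀ j)) * e2
  -- its value modulo J is a unit
  have hn0 : n ≠ 0 := Nat.succ_ne_zero k
  choose a haσ using fun m => hα m σ hσ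
  choose c' hc' using fun i => hc σ (t i) hσ (ht i)
  have hA1 : ∀ m i, a m * β m i - c' i ∈ J ^ m := fun m i =>
    hprod m σ (t i) _ _ _ (haσ m) (hβt m i) (hc' i)
  have hA2 : ∀ i, ∃ e, f i ^ e * (a n - 1) ∈ J := by
    intro i
    have hJn : J ^ n ≤ J := Ideal.pow_le_self hn0
    obtain ⟨e₁, he₁⟩ := mem_map_iff.1 (show algebraMap A (Loc (f i)) (c' i - y₀ i) ∈
        (⊥ : Ideal A).map (algebraMap A (Loc (f i))) by
      rw [Ideal.map_bot, Ideal.mem_bot, map_sub, hc', htk]
      simp only [σ]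
      linear_combination algebraMap A (Loc (f i)) (y₀ i) * hiv i)
    obtain ⟨e₂, he₂⟩ := mem_map_iff.1 (show algebraMap A (Loc (f i)) (c i i - f i ^ (N + N)) ∈
        (⊥ : Ideal A).map (algebraMap A (Loc (f i))) by
      rw [Ideal.map_bot, Ideal.mem_bot, map_sub, hcst, htk, hsk, map_pow, ← pow_add, sub_self])
    rw [Ideal.mem_bot] at he₁ he₂
    refine ⟨e₁ + e₂ + (N + N), ?_⟩
    have h1 : β n i - y₀ i ∈ J := by
      have : J • (⊤ : Submodule A (ι → A)) ≤ Submodule.comap (LinearMap.proj i) J :=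
        Submodule.smul_le.2 fun r hr z _ => Ideal.mul_mem_right _ _ hr
      exact this hβy
    have h2 := hJn (hA1 n i)
    have h3 := hJn (hprod n (s i) (t i) _ _ _ (hαs n i) (hβt n i) (hcst i i))
    have := Ideal.sub_mem _
      (Ideal.mul_mem_left _ (f i ^ e₁ * f i ^ e₂ * α n i) (Ideal.sub_mem _ h2 h1))
      (Ideal.mul_mem_left _ (f i ^ e₁ * f i ^ e₂ * (a n - 1)) h3)
    convert this using 1
    simp only [pow_add] at he₂ ⊢
    linear_combination (f i ^ e₂ * α n i) * he₁ + (-(f i ^ e₁ * (a n - 1))) * he₂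
  have hA3 : a n - 1 ∈ J := by
    choose e he using hA2
    refine sep_of_regMod hxr hx _ fun i => mem_map_iff.2 ⟨e i, he i⟩
  have hA4 : ∀ m, m ≠ 0 → a m - 1 ∈ J := by
    intro m hm
    have hw₀ : ∀ m, m ≠ 0 → ∀ i, w m i - w₀ i ∈ J.map (algebraMap A (Loc (f i))) := by
      intro m hm i
      have := Ideal.sub_mem _
        (Ideal.sub_mem _ (Ideal.mul_mem_left _ (w₀ i) (Ideal.map_mono (Ideal.pow_le_self hm) (hw m i)))
          (Ideal.mul_mem_left _ (w m i) (huw i))) (Ideal.mul_mem_left _ (w₀ i * w m i) (hvu m i))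
      convert this using 1
      ring
    have h : a m - a n ∈ J := by
      refine sep_of_regMod hxr hx _ fun i => ?_
      have := add_mem (Ideal.sub_mem _ (Ideal.map_mono (Ideal.pow_le_self hn0) (haσ n i))
        (Ideal.map_mono (Ideal.pow_le_self hm) (haσ m i)))
        (Ideal.mul_mem_left _ (σ i) (Ideal.sub_mem _ (hw₀ m hm i) (hw₀ n hn0 i)))
      rw [map_sub]
      convert this using 1
      ring
    have := add_mem h hA3
    rwa [sub_add_sub_cancel] at this
  refine ⟨σ, fun i => ?_, hσ⟩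
  have hdiv : c i i ∈ Ideal.span {c' i} := by
    refine mem_of_forall_mem_sup_pow hJ fun m => ?_
    rcases Nat.eq_zero_or_pos m with rfl | hm
    · rw [pow_zero, Ideal.one_eq_top, sup_top_eq]; trivial
    have hu : IsUnit (a m) := by
      by_contra hu
      have h1 := Ideal.sub_mem _ (show a m ∈ maximalIdeal A from hu)
        (le_maximalIdeal hJ (hA4 m hm.ne'))
      rw [sub_sub_cancel] at h1
      exact (maximalIdeal.isMaximal A).ne_top ((Ideal.eq_top_iff_one _).2 h1)
    obtain ⟨b, hb⟩ := hu.exists_right_inv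
    rw [show c i i = (α m i * b) * c' i + (α m i * b * (a m * β m i - c' i) -
      (α m i * β m i - c i i)) by linear_combination (-(α m i * β m i)) * hb]
    exact add_mem (Ideal.mem_sup_left (Ideal.mem_span_singleton'.2 ⟨_, rfl⟩))
      (Ideal.mem_sup_right (Ideal.sub_mem _ (Ideal.mul_mem_left _ _ (hA1 m i))
        (hprod m (s i) (t i) _ _ _ (hαs m i) (hβt m i) (hcst i i))))
  obtain ⟨q, hq⟩ := Ideal.mem_span_singleton'.1 hdiv
  have h := congrArg (algebraMap A (Loc (f i))) hq
  rw [map_mul, hc', hcst, hsk, htk] at h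
  exact isUnit_of_mul_isUnit_left (isUnit_of_mul_isUnit_right
    (h ▸ (isUnit_pow (f i) N).mul (isUnit_pow (f i) N)))

end Groth.Agent.ParaFormal
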